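import Cfsg.Agent.Lib.SSF.Tools

/-!
Cores of subgroups, written inside the ambient group.
-/

set_option autoImplicit false
set_option linter.style.haveILetI false

open Cfsg Cfsg.Agent Cfsg.Agent.Fusion
open scoped commutatorElement Pointwise

namespace Cfsg.Agent.SSF

variable {G : Type*} [Group G]

/-- `O_x(N)`, inside the ambient group. -/
def Ox (x : ℕ) (N : Subgroup G) : Subgroup G := (pCore x N).map N.subtype

/-- `O_{x'}(N)`, inside the ambient group. -/
def Opc (x : ℕ) (N : Subgroup G) : Subgroup G := (pPrimeCore x N).map N.subtype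

theorem Ox_le (x : ℕ) (N : Subgroup G) : Ox x N ≤ N := Subgroup.map_subtype_le _

theorem isPGroup_Ox (x : ℕ) (N : Subgroup G) : IsPGroup x (Ox x N) := (isPGroup_pCore x N).map _

theorem le_Ox {x : ℕ} {N U : Subgroup G} (hU : U ≤ N) (hn : N ≤ Subgroup.normalizer (U : Set G))
    (hx : IsPGroup x U) : U ≤ Ox x N := by
  haveI : (U.subgroupOf N).Normal := (Subgroup.normal_subgroupOf_iff_le_normalizer hU).2 hn
  have h : U.subgroupOf N ≤ pCore x N :=
    le_pCore (hx.of_equiv (Subgroup.subgroupOfEquivOfLe hU).symm)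
  have h2 := Subgroup.map_mono (f := N.subtype) h
  rwa [Subgroup.map_subgroupOf_eq_of_le hU] at h2

theorem self_le_normalizer_Ox (x : ℕ) (N : Subgroup G) :
    N ≤ Subgroup.normalizer (Ox x N : Set G) :=
  (Subgroup.normal_subgroupOf_iff_le_normalizer (Ox_le x N)).1 (by
    rw [Subgroup.subgroupOf, Ox, Subgroup.comap_map_eq_self_of_injective N.subtype_injective]
    infer_instance)

theorem normalizer_le_normalizer_Ox [Finite G] (x : ℕ) (N : Subgroup G) :
    Subgroup.normalizer (N : Set G) ≤ Subgroup.normalizer (Ox x N : Set G) := fun g hg =>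
  mem_normalizer_of_cj_le (by
    refine le_Ox ((cj_mono (Ox_le x N) g).trans (cj_eq_self hg).le) (fun n hn => ?_)
      (isPGroup_cj (isPGroup_Ox x N) g)
    have : cj N g ≤ Subgroup.normalizer (cj (Ox x N) g : Set G) := by
      rw [← cj_normalizer]; exact cj_mono (self_le_normalizer_Ox x N) g
    exact this ((cj_eq_self hg).ge hn))

theorem subnormal_le_Ox [Finite G] {x : ℕ} {S K N : Subgroup G} (hS : S ≤ K) (hKS : K ≤ Subgroup.normalizer (S : Set G))
    (hK : K ≤ N) (hNK : N ≤ Subgroup.normalizer (K : Set G)) (hx : IsPGroup x S) : S ≤ Ox x N :=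
  (le_Ox hS hKS hx).trans (le_Ox ((Ox_le x K).trans hK)
    (hNK.trans (normalizer_le_normalizer_Ox x K)) (isPGroup_Ox x K))

theorem Opc_le (x : ℕ) (N : Subgroup G) : Opc x N ≤ N := Subgroup.map_subtype_le _

theorem Opc_coprime [Finite G] (x : ℕ) (N : Subgroup G) : (Nat.card (Opc x N)).Coprime x := by
  rw [Opc, Subgroup.card_map_of_injective N.subtype_injective]
  exact card_pPrimeCore_coprime x N

theorem le_Opc [Finite G] {x : ℕ} {N U : Subgroup G} (hU : U ≤ N) (hn : N ≤ Subgroup.normalizer (U : Set G))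
    (hx : (Nat.card U).Coprime x) : U ≤ Opc x N := by
  haveI : (U.subgroupOf N).Normal := (Subgroup.normal_subgroupOf_iff_le_normalizer hU).2 hn
  have h : U.subgroupOf N ≤ pPrimeCore x N := le_pPrimeCore
    (by rwa [Nat.card_congr (Subgroup.subgroupOfEquivOfLe hU).toEquiv])
  have h2 := Subgroup.map_mono (f := N.subtype) h
  rwa [Subgroup.map_subgroupOf_eq_of_le hU] at h2

theorem self_le_normalizer_Opc (x : ℕ) (N : Subgroup G) :
    N ≤ Subgroup.normalizer (Opc x N : Set G) :=
  (Subgroup.normal_subgroupOf_iff_le_normalizer (Opc_le x N)).1 (by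
    rw [Subgroup.subgroupOf, Opc, Subgroup.comap_map_eq_self_of_injective N.subtype_injective]
    infer_instance)

theorem normalizer_le_normalizer_Opc [Finite G] (x : ℕ) (N : Subgroup G) :
    Subgroup.normalizer (N : Set G) ≤ Subgroup.normalizer (Opc x N : Set G) := fun g hg =>
  mem_normalizer_of_cj_le (by
    refine le_Opc ((cj_mono (Opc_le x N) g).trans (cj_eq_self hg).le) (fun n hn => ?_)
      (by rw [card_cj]; exact Opc_coprime x N)
    have : cj N g ≤ Subgroup.normalizer (cj (Opc x N) g : Set G) := by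
      rw [← cj_normalizer]; exact cj_mono (self_le_normalizer_Opc x N) g
    exact this ((cj_eq_self hg).ge hn))

theorem map_fitting_eq [Finite G] (N : Subgroup G) :
    (fittingSubgroup N).map N.subtype = ⨆ q : Nat.Primes, Ox (q : ℕ) N := by
  rw [Solv.fitting_eq_iSup_pCore, Subgroup.map_iSup]
  rfl

/-- What centralises every `O_q(N)` lies in the Fitting subgroup of a solvable `N`. -/
theorem le_fitting_of_centralizes [Finite G] {N U : Subgroup G} (hs : Group.IsSolvable N) (hU : U ≤ N)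
    (h : ∀ q : ℕ, q.Prime → U ≤ Subgroup.centralizer (Ox q N : Set G)) :
    U ≤ (fittingSubgroup N).map N.subtype := by
  intro u hu
  have hc : (fittingSubgroup N).map N.subtype ≤ Subgroup.centralizer {u} := by
    rw [map_fitting_eq]
    exact iSup_le fun q w hw => Subgroup.mem_centralizer_singleton_iff.2
      (Subgroup.mem_centralizer_iff.1 (h q q.2 hu) w hw)
  refine ⟨⟨u, hU hu⟩, Solv.centralizer_fitting_le hs (Subgroup.mem_centralizer_iff.2 fun w hw => ?_), rfl⟩
  exact Subtype.ext (Subgroup.mem_centralizer_singleton_iff.1 (hc ⟨w, hw, rfl⟩))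

theorem le_Ox_of_centralizes [Finite G] {x : ℕ} [Fact x.Prime] {N U : Subgroup G} (hs : Group.IsSolvable N)
    (hU : U ≤ N) (hx : IsPGroup x U) (h : ∀ q : ℕ, q.Prime → U ≤ Subgroup.centralizer (Ox q N : Set G)) :
    U ≤ Ox x N := by
  intro u hu
  obtain ⟨v, hvF, hv⟩ := le_fitting_of_centralizes hs hU h hu
  refine ⟨v, ?_, hv⟩
  haveI := Solv.fittingSubgroup_nilpotent (G := N)
  obtain ⟨P⟩ : Nonempty (Sylow x (fittingSubgroup N)) := inferInstance
  haveI hPn : (P : Subgroup (fittingSubgroup N)).Normal :=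
    ((Group.isNilpotent_of_finite_tfae (G := fittingSubgroup N)).out 0 3
      (a := Group.IsNilpotent (fittingSubgroup N))
      (b := ∀ (q : ℕ) (_ : Fact q.Prime) (R : Sylow q (fittingSubgroup N)),
        (R : Subgroup (fittingSubgroup N)).Normal)).1 ‹_› x ‹_› P
  haveI := Sylow.characteristic_of_normal P hPn
  haveI := Solv.fittingSubgroup_normal (G := N)
  have hle : (P : Subgroup (fittingSubgroup N)).map (fittingSubgroup N).subtype ≤ pCore x N :=
    le_pCore (P.isPGroup'.map _)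
  have hvx : IsPGroup x (Subgroup.zpowers (⟨v, hvF⟩ : fittingSubgroup N)) := by
    obtain ⟨k, hk⟩ := hx ⟨u, hu⟩
    refine IsPGroup.iff_orderOf.2 fun ⟨z, hz⟩ => ?_
    obtain ⟨j, -, hj⟩ := (Nat.dvd_prime_pow (Fact.out : x.Prime)).1 ((orderOf_dvd_of_mem_zpowers hz).trans
      (orderOf_dvd_of_pow_eq_one (n := x ^ k) (Subtype.ext (Subtype.ext (by
        show (v : G) ^ x ^ k = 1
        rw [show (v : G) = u from hv]
        exact congrArg Subtype.val hk)))))
    exact ⟨j, by rw [Subgroup.orderOf_mk]; exact hj⟩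
  obtain ⟨Q, hQ⟩ := hvx.exists_le_sylow
  haveI := Sylow.unique_of_normal P hPn
  rw [Subsingleton.elim Q P] at hQ
  exact hle ⟨_, hQ (Subgroup.mem_zpowers _), rfl⟩

theorem exists_Ox_ne_bot [Finite G] {N : Subgroup G} (hs : Group.IsSolvable N) (hN : N ≠ ⊥) :
    ∃ q : ℕ, q.Prime ∧ Ox q N ≠ ⊥ := by
  haveI := (Subgroup.nontrivial_iff_ne_bot _).2 hN
  by_contra hno
  push Not at hno
  refine Solv.fitting_ne_bot hs ((Subgroup.map_eq_bot_iff_of_injective _ N.subtype_injective).1 ?_)
  rw [map_fitting_eq, iSup_eq_bot]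
  exact fun q => hno q q.2

/-- A normal subgroup of a solvable group meeting every `O_q` trivially is trivial. -/
theorem normal_eq_bot [Finite G] {N U : Subgroup G} (hs : Group.IsSolvable N) (hU : U ≤ N)
    (hn : N ≤ Subgroup.normalizer (U : Set G)) (h : ∀ q : ℕ, q.Prime → U ⊓ Ox q N = ⊥) : U = ⊥ := by
  by_contra hne
  obtain ⟨q, hq, hqb⟩ := exists_Ox_ne_bot (Solv.isSolvable_of_le hU hs) hne
  refine hqb (eq_bot_iff.2 (h q hq ▸ le_inf (Ox_le q U) ?_))
  exact subnormal_le_Ox (Ox_le q U) (self_le_normalizer_Ox q U) hU hn (isPGroup_Ox q U)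

/-- A non-trivial normal subgroup of a p-group meets the centre. -/
theorem meet_center [Finite G] {x : ℕ} [Fact x.Prime] {P U : Subgroup G} (hP : IsPGroup x P) (hU : U ≤ P)
    (hn : P ≤ Subgroup.normalizer (U : Set G)) (hne : U ≠ ⊥) :
    U ⊓ Subgroup.centralizer (P : Set G) ≠ ⊥ := by
  haveI : (U.subgroupOf P).Normal := (Subgroup.normal_subgroupOf_iff_le_normalizer hU).2 hn
  obtain ⟨z, hz, hz1, hzc⟩ := exists_central_of_normal hP (U.subgroupOf P) (fun h => hne (by
    rw [← Subgroup.map_subgroupOf_eq_of_le hU, h, Subgroup.map_bot]))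
  intro hbot
  refine hz1 (Subtype.ext (Subgroup.mem_bot.1 (hbot ▸ Subgroup.mem_inf.2 ⟨hz, ?_⟩)))
  exact Subgroup.mem_centralizer_iff.2 fun w hw =>
    congrArg Subtype.val (Subgroup.mem_center_iff.1 hzc ⟨w, hw⟩)

theorem bel_aux {H : Type*} [Group H] [Finite H] {p : ℕ} [Fact p.Prime] (hs : Group.IsSolvable H)
    {T : Subgroup H} (hT : IsPGroup p T) {W : Subgroup H} (hW : (Nat.card W).Coprime p)
    (hWT : W ≤ Subgroup.centralizer (T : Set H))
    (hn : Subgroup.centralizer (T : Set H) ≤ Subgroup.normalizer (W : Set H)) : W ≤ pPrimeCore p H := by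
  haveI := hs
  obtain ⟨K, hKdef⟩ : ∃ K, K = pPrimeCore p H := ⟨_, rfl⟩
  haveI : K.Normal := hKdef ▸ inferInstance
  have hK : (Nat.card K).Coprime p := hKdef ▸ card_pPrimeCore_coprime p H
  have h0 : pPrimeCore p (H ⧸ K) = ⊥ := by
    subst hKdef
    exact pPrimeCore_quotient_eq_bot
  haveI hsq : Group.IsSolvable (H ⧸ K) :=
    Group.isSolvable_of_surjective (QuotientGroup.mk'_surjective K)
  set π := QuotientGroup.mk' K
  obtain ⟨Q, hQdef⟩ : ∃ Q, Q = pCore p (H ⧸ K) := ⟨_, rfl⟩
  haveI : Q.Normal := hQdef ▸ inferInstance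
  have hQ : IsPGroup p ↥Q := hQdef ▸ isPGroup_pCore p _
  intro w hw
  rw [← hKdef]
  refine (QuotientGroup.eq_one_iff w).1 ?_
  show π w = 1
  have hwo : (orderOf (π w)).Coprime p := by
    refine Nat.Coprime.coprime_dvd_left ((orderOf_map_dvd π w).trans ?_) hW
    rw [← Subgroup.orderOf_mk w hw]
    exact orderOf_dvd_natCard _
  have hwc : π w ∈ Subgroup.centralizer (Q : Set (H ⧸ K)) := by
    refine mem_centralizer_of_AB hQ (hT.map π) (by rw [Subgroup.normalizer_eq_top]; exact le_top)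
      (by rw [Subgroup.normalizer_eq_top]; exact Subgroup.mem_top _) ?_ hwo ?_
    · rintro _ ⟨t, ht, rfl⟩
      rw [← map_mul, ← map_mul, Subgroup.mem_centralizer_iff.1 (hWT hw) t ht]
    · intro q hq hqT
      obtain ⟨x, hx, hxq⟩ := exists_lift_normalizer hK hT (y := q) (by
        refine Subgroup.centralizer_le_normalizer _ (Subgroup.mem_centralizer_iff.2 fun t ht => (hqT t ht).symm))
      have hxT : x ∈ Subgroup.centralizer (T : Set H) := Subgroup.mem_centralizer_iff.2 fun t ht => by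
        refine (mul_inv_eq_iff_eq_mul.1 ?_).symm
        refine injOn_mk_of_coprime hK hT ((Subgroup.mem_normalizer_iff.1 hx t).1 ht) ht ?_
        show π (x * t * x⁻¹) = π t
        rw [map_mul, map_mul, map_inv, show π x = q from hxq,
          hqT (π t) (Subgroup.mem_map_of_mem π ht), mul_inv_cancel_right]
      refine commutatorElement_eq_one_iff_mul_comm.1 ?_
      have h1 : ⁅π w, q⁆ ∈ W.map π := by
        rw [← hxq, ← map_commutatorElement]
        exact Subgroup.mem_map_of_mem π (comm_mem_left (hn hxT) hw)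
      have h2 : ⁅π w, q⁆ ∈ Q := comm_mem_right (Subgroup.normalizer_eq_top Q ▸ Subgroup.mem_top _) hq
      have h3 : W.map π ⊓ Q = ⊥ :=
        coprime_inf_pGroup (hW.coprime_dvd_left (Subgroup.card_map_dvd _ π)) hQ
      rw [← Subgroup.mem_bot, ← h3]
      exact Subgroup.mem_inf.2 ⟨h1, h2⟩
  have hwQ : π w ∈ Q := by
    rw [hQdef]
    exact centralizer_pCore_le_of_solvable hsq h0 (hQdef ▸ hwc)
  obtain ⟨j, hj⟩ := hQ ⟨π w, hwQ⟩
  exact orderOf_eq_one_iff.1 (Nat.eq_one_of_dvd_coprimes (hwo.pow_right j) dvd_rfl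
    (orderOf_dvd_of_pow_eq_one (congrArg Subtype.val hj)))

/-- Bender's lemma: `O_{q'}(C_N(Q))` lies in `O_{q'}(N)` for a `q`-subgroup `Q` of a solvable `N`. -/
theorem bel [Finite G] {q : ℕ} [Fact q.Prime] {N Q W : Subgroup G} (hs : Group.IsSolvable N) (hQN : Q ≤ N)
    (hQ : IsPGroup q Q) (hWN : W ≤ N) (hW : (Nat.card W).Coprime q)
    (hWQ : W ≤ Subgroup.centralizer (Q : Set G))
    (hn : N ⊓ Subgroup.centralizer (Q : Set G) ≤ Subgroup.normalizer (W : Set G)) : W ≤ Opc q N := by
  have h : W.subgroupOf N ≤ pPrimeCore q N := by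
    refine bel_aux hs (hQ.of_equiv (Subgroup.subgroupOfEquivOfLe hQN).symm)
      (by rwa [Nat.card_congr (Subgroup.subgroupOfEquivOfLe hWN).toEquiv]) (fun w hw => ?_) (fun c hc => ?_)
    · exact Subgroup.mem_centralizer_iff.2 fun t ht =>
        Subtype.ext (Subgroup.mem_centralizer_iff.1 (hWQ hw) t ht)
    · rw [← Subgroup.subgroupOf_normalizer_eq hWN]
      exact hn (Subgroup.mem_inf.2 ⟨c.2, Subgroup.mem_centralizer_iff.2 fun t ht =>
        congrArg Subtype.val (Subgroup.mem_centralizer_iff.1 hc ⟨t, hQN ht⟩ ht)⟩)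
  have h2 := Subgroup.map_mono (f := N.subtype) h
  rwa [Subgroup.map_subgroupOf_eq_of_le hWN] at h2

end Cfsg.Agent.SSF
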