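import Cfsg.Agent.Lib.SSF.Pieces
import Cfsg.Agent.Lib.Solv.PGroupPhi

/-!
A minimal configuration of an element of prime order whose fixed points on a module are of small
index and which moves an invariant subgroup of coprime order.
-/

set_option autoImplicit false
set_option linter.style.haveILetI false

open Cfsg Cfsg.Agent Cfsg.Agent.Fusion
open scoped commutatorElement Pointwise

namespace Cfsg.Agent.SSF

universe u

variable {G : Type u} [Group G] [Finite G]

theorem normalizer_le_of_char {E : Subgroup G} (K : Subgroup E) [hK : K.Characteristic] :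
    Subgroup.normalizer (E : Set G) ≤ Subgroup.normalizer (K.map E.subtype : Set G) := by
  intro g hg
  have key : ∀ h : G, h ∈ Subgroup.normalizer (E : Set G) → cj (K.map E.subtype) h ≤ K.map E.subtype := by
    intro h hh
    let e : E ≃* E :=
      { toFun := fun u => ⟨h * u * h⁻¹, nrm hh u.2⟩
        invFun := fun u => ⟨h⁻¹ * u * h, by
          have := nrm (inv_mem hh) u.2
          rwa [inv_inv] at this⟩
        left_inv := fun u => Subtype.ext (by
          show h⁻¹ * (h * (u : G) * h⁻¹) * h = u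
          group)
        right_inv := fun u => Subtype.ext (by
          show h * (h⁻¹ * (u : G) * h) * h⁻¹ = u
          group)
        map_mul' := fun a b => Subtype.ext (by
          show h * ((a : G) * b) * h⁻¹ = h * (a : G) * h⁻¹ * (h * (b : G) * h⁻¹)
          group) }
    rintro _ ⟨_, ⟨u, hu, rfl⟩, rfl⟩
    exact ⟨e u, Subgroup.characteristic_iff_map_le.1 hK e ⟨u, hu, rfl⟩, rfl⟩
  exact mem_normalizer_of_cj_le (key g hg)

/-- The configuration. -/
structure NT (p q r : ℕ) (W A P E : Subgroup G) (x : G) : Prop where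
  hp : p.Prime
  hr : r.Prime
  hq : (q = 2 ∧ p ≠ 2) ∨ (q = 3 ∧ 5 ≤ p)
  hrp : r ≠ p
  hrq : r ≠ q
  hW : IsElementaryAbelian q W
  hA : IsElementaryAbelian p A
  hAW : A ≤ Subgroup.normalizer (W : Set G)
  hPW : P ≤ Subgroup.normalizer (W : Set G)
  hEW : E ≤ Subgroup.normalizer (W : Set G)
  hAP : A ≤ Subgroup.normalizer (P : Set G)
  hAE : A ≤ Subgroup.normalizer (E : Set G)
  hPE : P ≤ Subgroup.normalizer (E : Set G)
  hP : IsPGroup q P
  hE : IsPGroup r E
  hx : x ∈ P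
  hxq : x ^ q = 1
  hfaith : E ⊓ Subgroup.centralizer (W : Set G) = ⊥
  hne : ∃ e ∈ E, ⁅x, e⁆ ≠ 1
  hmin : ∀ M : Subgroup G, M ≤ E → M ≠ E → A ≤ Subgroup.normalizer (M : Set G) →
    P ≤ Subgroup.normalizer (M : Set G) → E ≤ Subgroup.normalizer (M : Set G) →
      P ≤ Subgroup.centralizer (M : Set G)
  hfix : E ⊓ Subgroup.centralizer (A : Set G) ≤ Subgroup.centralizer {x}
  hsmall : Nat.card W ≤ q ^ 2 * Nat.card ↥(W ⊓ Subgroup.centralizer {x})

namespace NT

variable {p q r : ℕ} {W A P E : Subgroup G} {x : G} (d : NT p q r W A P E x)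

include d

omit [Finite G] in
theorem qprime : q.Prime := by
  rcases d.hq with ⟨rfl, -⟩ | ⟨rfl, -⟩
  exacts [Nat.prime_two, Nat.prime_three]

omit [Finite G] in
theorem q_lt_p : q < p := by
  have := d.hp.two_le
  rcases d.hq with ⟨rfl, h⟩ | ⟨rfl, h⟩ <;> omega

omit [Finite G] in
theorem xE : x ∈ Subgroup.normalizer (E : Set G) := d.hPE d.hx

omit [Finite G] in
theorem xW : x ∈ Subgroup.normalizer (W : Set G) := d.hPW d.hx

/-- A coprime action: an element centralising its commutator modulo an invariant normal subgroup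
centralises modulo it. -/
theorem comm_fixed {N : Subgroup G} (hN : N ≤ E) (hEN : E ≤ Subgroup.normalizer (N : Set G))
    (hxN : x ∈ Subgroup.normalizer (N : Set G)) {e : G} (he : e ∈ E) (h : ⁅x, ⁅x, e⁆⁆ ∈ N) :
    ⁅x, e⁆ ∈ N := by
  haveI := Fact.mk d.hr
  haveI := Fact.mk d.qprime
  obtain ⟨J, hJ⟩ : ∃ J, J = Subgroup.normalizer (N : Set G) := ⟨_, rfl⟩
  have hNJ : N ≤ J := hJ ▸ Subgroup.le_normalizer
  haveI : (N.subgroupOf J).Normal := (Subgroup.normal_subgroupOf_iff_le_normalizer hNJ).2 hJ.le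
  let π := QuotientGroup.mk' (N.subgroupOf J)
  let X : J := ⟨x, hJ ▸ hxN⟩
  let e' : J := ⟨e, hJ ▸ hEN he⟩
  have hker : ∀ j : J, (j : G) ∈ N ↔ π j = 1 := fun j =>
    Subgroup.mem_subgroupOf.symm.trans (QuotientGroup.eq_one_iff j).symm
  obtain ⟨w, hw⟩ : ∃ w, w = π ⁅X, e'⁆ := ⟨_, rfl⟩
  have hxw : π X * w = w * π X := by
    rw [hw, ← commutatorElement_eq_one_iff_mul_comm, ← map_commutatorElement, ← hker]
    exact h
  have hconj : π X * π e' * (π X)⁻¹ = w * π e' := by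
    rw [hw, map_commutatorElement, commutatorElement_def]; group
  have hit : ∀ i : ℕ, π X ^ i * π e' * (π X ^ i)⁻¹ = w ^ i * π e' := by
    intro i
    induction i with
    | zero => simp
    | succ i ih =>
      calc π X ^ (i + 1) * π e' * (π X ^ (i + 1))⁻¹
          = π X * (π X ^ i * π e' * (π X ^ i)⁻¹) * (π X)⁻¹ := by rw [pow_succ']; group
        _ = (π X * w ^ i * (π X)⁻¹) * (π X * π e' * (π X)⁻¹) := by rw [ih]; group
        _ = w ^ i * (w * π e') := by
            rw [hconj, ((show Commute (π X) w from hxw).pow_right i).eq, mul_inv_cancel_right]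
        _ = w ^ (i + 1) * π e' := by rw [pow_succ, mul_assoc]
  have hwq : w ^ q = 1 := by
    have h2 := hit q
    rw [← map_pow, show X ^ q = 1 from Subtype.ext d.hxq, map_one, one_mul, inv_one, mul_one] at h2
    exact mul_eq_right.1 h2.symm
  obtain ⟨k, hk⟩ := d.hE ⟨⁅x, e⁆, comm_mem_right d.xE he⟩
  have hwr : w ^ r ^ k = 1 := by
    rw [hw, ← map_pow, ← hker]
    show ⁅x, e⁆ ^ r ^ k ∈ N
    rw [show ⁅x, e⁆ ^ r ^ k = 1 from congrArg Subtype.val hk]
    exact one_mem N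
  refine (hker ⁅X, e'⁆).2 (hw ▸ orderOf_eq_one_iff.1 ?_)
  exact Nat.eq_one_of_dvd_coprimes (((Nat.coprime_primes d.qprime d.hr).2 d.hrq.symm).pow_right k)
    (orderOf_dvd_of_pow_eq_one hwq) (orderOf_dvd_of_pow_eq_one hwr)

theorem comm_eq_one {e : G} (he : e ∈ E) (h : ⁅x, ⁅x, e⁆⁆ = 1) : ⁅x, e⁆ = 1 :=
  Subgroup.mem_bot.1 (d.comm_fixed bot_le (fun g _ => mem_normalizer_of_cj_le (cj_bot g).le)
    (mem_normalizer_of_cj_le (cj_bot x).le) he (Subgroup.mem_bot.2 h))

theorem commutator_eq : ⁅E, P⁆ = E := by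
  obtain ⟨h1, h2, h3⟩ := Solv.commutator_normal_in d.hPE
  by_contra hne
  obtain ⟨e, he, hxe⟩ := d.hne
  refine hxe (d.comm_eq_one he (commutatorElement_eq_one_iff_mul_comm.2 ?_))
  have hc := d.hmin _ h1 hne (fun a ha => mem_normalizer_of_cj_le (by
    rw [cj_commutator, cj_eq_self (d.hAE ha), cj_eq_self (d.hAP ha)])) h3 h2 d.hx
  refine (Subgroup.mem_centralizer_iff.1 hc _ ?_).symm
  rw [Subgroup.commutator_comm]
  exact Subgroup.commutator_mem_commutator d.hx he

/-- A proper invariant normal subgroup is central. -/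
theorem central {M : Subgroup G} (hM : M ≤ E) (hne : M ≠ E) (hA : A ≤ Subgroup.normalizer (M : Set G))
    (hP : P ≤ Subgroup.normalizer (M : Set G)) (hEM : E ≤ Subgroup.normalizer (M : Set G)) :
    M ≤ Subgroup.centralizer (E : Set G) := by
  have hc : ⁅M, P⁆ = ⊥ := Subgroup.commutator_eq_bot_iff_le_centralizer.2
    (Subgroup.le_centralizer_iff.1 (d.hmin M hM hne hA hP hEM))
  have h1 : ⁅⁅M, P⁆, E⁆ = ⊥ := by rw [hc, Subgroup.commutator_bot_left]
  have h2 : ⁅⁅E, M⁆, P⁆ = ⊥ := le_bot_iff.1 (hc ▸ Subgroup.commutator_mono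
    (Subgroup.commutator_le.2 fun e he m hm => comm_mem_right (hEM he) hm) le_rfl)
  have h3 : ⁅⁅P, E⁆, M⁆ = ⊥ := Subgroup.commutator_commutator_eq_bot_of_rotate h2 h1
  rw [Subgroup.commutator_comm P E, d.commutator_eq, Subgroup.commutator_comm,
    Subgroup.commutator_eq_bot_iff_le_centralizer] at h3
  exact h3

theorem ne_bot : E ≠ ⊥ := by
  rintro h
  obtain ⟨e, he, hxe⟩ := d.hne
  rw [h, Subgroup.mem_bot] at he
  exact hxe (by rw [he]; simp [commutatorElement_def])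

/-- The Frattini subgroup gives a proper invariant subgroup with elementary abelian factor. -/
theorem exists_phi : ∃ M : Subgroup G, M ≤ E ∧ M ≤ Subgroup.centralizer (E : Set G) ∧
    P ≤ Subgroup.centralizer (M : Set G) ∧ (∀ e ∈ E, e ^ r ∈ M) ∧ ∀ e ∈ E, ∀ f ∈ E, ⁅e, f⁆ ∈ M := by
  haveI := Fact.mk d.hr
  haveI := (Subgroup.nontrivial_iff_ne_bot E).2 d.ne_bot
  obtain ⟨M, hM⟩ : ∃ M, M = (frattini E).map E.subtype := ⟨_, rfl⟩
  have hle : M ≤ E := hM ▸ Subgroup.map_subtype_le _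
  have hne : M ≠ E := fun h => by
    obtain ⟨K, hK, -⟩ := (eq_top_or_exists_le_coatom (⊥ : Subgroup E)).resolve_left bot_ne_top
    refine hK.1 (eq_top_iff.2 (fun e _ => frattini_le_coatom hK ?_))
    have he : (e : G) ∈ M := by rw [h]; exact e.2
    rw [hM] at he
    obtain ⟨e', he', he''⟩ := he
    rwa [← Subtype.ext he'']
  have hn := normalizer_le_of_char (frattini E)
  rw [← hM] at hn
  refine ⟨M, hle, d.central hle hne (d.hAE.trans hn) (d.hPE.trans hn) (Subgroup.le_normalizer.trans hn),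
    d.hmin M hle hne (d.hAE.trans hn) (d.hPE.trans hn) (Subgroup.le_normalizer.trans hn),
    fun e he => hM ▸ ⟨⟨e, he⟩ ^ r, Solv.pow_mem_frattini d.hE _, rfl⟩,
    fun e he f hf => hM ▸ ⟨⁅(⟨e, he⟩ : E), ⟨f, hf⟩⁆, Solv.commutatorElement_mem_frattini d.hE _ _, rfl⟩⟩

theorem comm_central {e f : G} (he : e ∈ E) (hf : f ∈ E) {g : G} (hg : g ∈ E) :
    g * ⁅e, f⁆ = ⁅e, f⁆ * g := by
  obtain ⟨M, -, hMc, -, -, hcomm⟩ := d.exists_phi
  exact Subgroup.mem_centralizer_iff.1 (hMc (hcomm e he f hf)) g hg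

theorem comm_cent_P {e f : G} (he : e ∈ E) (hf : f ∈ E) {y : G} (hy : y ∈ P) :
    y * ⁅e, f⁆ = ⁅e, f⁆ * y := by
  obtain ⟨M, -, -, hMP, -, hcomm⟩ := d.exists_phi
  exact (Subgroup.mem_centralizer_iff.1 (hMP hy) _ (hcomm e he f hf)).symm

theorem comm_pow_r {e f : G} (he : e ∈ E) (hf : f ∈ E) : ⁅e, f⁆ ^ r = 1 := by
  obtain ⟨M, -, hMc, -, hpow, -⟩ := d.exists_phi
  have h1 : f * e ^ r = e ^ r * f := Subgroup.mem_centralizer_iff.1 (hMc (hpow e he)) f hf
  have h2 : ⁅e, f⁆ * (f * e * f⁻¹) = e := by rw [commutatorElement_def]; group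
  have h3 : Commute ⁅e, f⁆ (f * e * f⁻¹) :=
    (d.comm_central he hf (mul_mem (mul_mem hf he) (inv_mem hf))).symm
  have h4 := h3.mul_pow r
  rw [h2, conj_pow, h1, mul_inv_cancel_right] at h4
  exact mul_eq_right.1 h4.symm

/-- `[x, e]` for `x` in `P` has squares in the derived group when the prime is two. -/
theorem comm_sq {e : G} (he : e ∈ E) (h : r = 2) : ⁅x, e⁆ * ⁅x, e⁆ = ⁅⁅x, e⁆, e⁆ := by
  obtain ⟨M, -, hMc, hMP, hpow, -⟩ := d.exists_phi
  subst h
  obtain ⟨w, hw⟩ : ∃ w, w = ⁅x, e⁆ := ⟨_, rfl⟩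
  rw [← hw]
  have hwE : w ∈ E := hw ▸ comm_mem_right d.xE he
  have h1 : x * e ^ 2 * x⁻¹ = e ^ 2 := mul_inv_eq_iff_eq_mul.2
    (Subgroup.mem_centralizer_iff.1 (hMP d.hx) _ (hpow e he)).symm
  rw [← conj_pow, show x * e * x⁻¹ = w * e by rw [hw, commutatorElement_def]; group, pow_two, pow_two] at h1
  have h2 : w * e * w = e := mul_right_cancel (b := e) (by rw [← h1]; group)
  have h4 : w⁻¹ * e * w⁻¹ = e := by
    calc w⁻¹ * e * w⁻¹ = w⁻¹ * (w * e * w) * w⁻¹ := by rw [h2]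
      _ = e := by group
  have h5 : w * e * w⁻¹ * e⁻¹ = w * w := by
    calc w * e * w⁻¹ * e⁻¹ = w * w * (w⁻¹ * e * w⁻¹) * e⁻¹ := by group
      _ = w * w := by rw [h4, mul_inv_cancel_right]
  rw [commutatorElement_def, h5]

end NT

end Cfsg.Agent.SSF
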