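import Cfsg.Agent.Lib.SSF.HU

/-!
Completeness of solvable signalizer functors of rank at least three .
-/

set_option autoImplicit false
set_option linter.style.haveILetI false

open Cfsg Cfsg.Agent Cfsg.Agent.Fusion
open scoped commutatorElement Pointwise

namespace Cfsg.Agent.SSF

universe u

variable {p : ℕ} [hp : Fact p.Prime]

theorem Ctx.full_aux : ∀ (m : ℕ) (G : Type u) [Group G] [Finite G] (c : Ctx G p),
    c.n = m → c.Full := by
  intro m
  induction m using Nat.strong_induction_on with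
  | _ m ih =>
    intro G _ _ c hn
    by_contra hF
    have hc : Crit c := ⟨hF, fun G' _ _ d hlt => ih d.n (hn ▸ hlt) G' d rfl⟩
    have hs : Setup c := ⟨hc, fun H q hH hHq => Ctx.hu_of_crit hc H q hH hHq⟩
    by_cases h3 : c.Three
    · exact Ctx.three_false hs h3
    simp only [Ctx.Three, not_forall] at h3
    obtain ⟨a, b, h3⟩ := h3
    have hab : ∀ x ∈ c.primes, x = a ∨ x = b := fun x hx => by
      by_contra h
      exact h3 ⟨x, hx, fun e => h (Or.inl e), fun e => h (Or.inr e)⟩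
    -- one prime is excluded by the single-prime case
    have hone : ∀ x : ℕ, x.Prime → ∃ s ∈ c.primes, s ≠ x := fun x hx => by
      obtain ⟨e, he, he1, hs'⟩ := c.not_all hc hx
      simp only [Sig, not_forall] at hs'
      obtain ⟨s, hsp, hd, hne⟩ := hs'
      exact ⟨s, ⟨hsp, e, he, he1, hd⟩, hne⟩
    obtain ⟨q, hq, -⟩ := hone 2 Nat.prime_two
    obtain ⟨r, hr, hrq⟩ := hone q hq.1
    refine Ctx.Two.false (q := q) (r := r) ⟨hs, hq, hr, hrq.symm, fun x hx => ?_⟩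
    rcases hab q hq with rfl | rfl <;> rcases hab r hr with rfl | rfl <;> rcases hab x hx with rfl | rfl <;>
      first | exact Or.inl rfl | exact Or.inr rfl | exact absurd rfl hrq

/-- The solvable signalizer functor theorem. -/
theorem complete {G : Type u} [Group G] [Finite G] {A : Subgroup G} (hA : Cfsg.IsElementaryAbelian p A)
    (h3 : p ^ 3 ≤ Nat.card A) {θ : G → Subgroup G} (hθ : Cfsg.IsSolvableSignalizerFunctor p A θ) :
    (⨆ a : {a : G // a ∈ A ∧ a ≠ 1}, θ a) ∈ Cfsg.signalizerFamily p A θ ∧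
      ∀ a ∈ A, a ≠ 1 → (⨆ b : {a : G // a ∈ A ∧ a ≠ 1}, θ b) ⊓ Subgroup.centralizer {a} = θ a := by
  obtain ⟨K, hK, hKθ⟩ := Ctx.full_aux _ G ⟨A, θ, hA, h3, hθ⟩ rfl
  have hWK : (⨆ a : {a : G // a ∈ A ∧ a ≠ 1}, θ a) = K := by
    refine le_antisymm (iSup_le fun a => hKθ a a.2.1 a.2.2) ?_
    exact Ctx.le_of_theta (⟨A, θ, hA, h3, hθ⟩ : Ctx G p) hK fun a ha ha1 =>
      inf_le_right.trans (le_iSup (fun b : {a : G // a ∈ A ∧ a ≠ 1} => θ b) ⟨a, ha, ha1⟩)
  rw [hWK]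
  exact ⟨hK, fun a ha ha1 => le_antisymm (hK.2.2.2 a ha ha1) (le_inf (hKθ a ha ha1) (hθ.1.1 a ha ha1))⟩

/-- The odd-order case. -/
theorem complete_of_odd {G : Type u} [Group G] [Finite G] {A : Subgroup G} (hA : Cfsg.IsElementaryAbelian p A)
    (h3 : p ^ 3 ≤ Nat.card A) {θ : G → Subgroup G} (hθ : Cfsg.IsSolvableSignalizerFunctor p A θ)
    (_hodd : ∀ a ∈ A, a ≠ 1 → Odd (Nat.card (θ a))) :
    (⨆ a : {a : G // a ∈ A ∧ a ≠ 1}, θ a) ∈ Cfsg.signalizerFamily p A θ ∧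
      ∀ a ∈ A, a ≠ 1 → (⨆ b : {a : G // a ∈ A ∧ a ≠ 1}, θ b) ⊓ Subgroup.centralizer {a} = θ a :=
  complete hA h3 hθ

end Cfsg.Agent.SSF
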