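import Cfsg.Agent.Lib.SSF.HUGen
import Cfsg.Agent.Lib.Fusion.QdSection
import Cfsg.Agent.Lib.Fusion.ZJControl

/-!
A single-prime colour is determined by its prime.
-/

set_option autoImplicit false
set_option linter.style.haveILetI false

open Cfsg Cfsg.Agent Cfsg.Agent.Fusion
open scoped commutatorElement Pointwise

namespace Cfsg.Agent.SSF

universe u

theorem even_card_qd {q : ℕ} [hq : Fact q.Prime] (hq2 : q ≠ 2) : 2 ∣ Nat.card (Cfsg.qd q) := by
  haveI : Fact (2 < q) := ⟨lt_of_le_of_ne hq.out.two_le (Ne.symm hq2)⟩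
  let d : Fin 3 → ZMod q := ![-1, -1, 1]
  have hd : (Matrix.diagonal d).det = 1 := by simp [Matrix.det_diagonal, Fin.prod_univ_three, d]
  let M : Matrix.SpecialLinearGroup (Fin 3) (ZMod q) := ⟨Matrix.diagonal d, hd⟩
  have hM : M ∈ Cfsg.qd q := Subgroup.subset_closure ⟨by simp [M], by simp [M], by simp [M, d]⟩
  have h2 : M ^ 2 = 1 := Subtype.ext (by
    rw [Matrix.SpecialLinearGroup.coe_pow, Matrix.SpecialLinearGroup.coe_one]
    show Matrix.diagonal d ^ 2 = 1
    rw [Matrix.diagonal_pow, ← Matrix.diagonal_one]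
    congr 1
    funext i
    fin_cases i <;> simp [d])
  have h1 : M ≠ 1 := fun h => by
    have h' := congrArg (fun N : Matrix.SpecialLinearGroup (Fin 3) (ZMod q) =>
      (N : Matrix (Fin 3) (Fin 3) (ZMod q)) 0 0) h
    simp [M, d] at h'
    exact ZMod.neg_one_ne_one h'
  have ho : orderOf M = 2 := orderOf_eq_prime h2 h1
  rw [← ho, ← Subgroup.orderOf_mk M hM]
  exact orderOf_dvd_natCard _

theorem involves_card_dvd {H : Type*} [Group H] {K : Type*} [Group K] [Finite K] (h : Involves H K) :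
    Nat.card H ∣ Nat.card K := by
  obtain ⟨U, R, hR, ⟨e⟩⟩ := h
  rw [← Nat.card_congr e.toEquiv]
  exact (Subgroup.card_quotient_dvd_card _).trans (Subgroup.card_subgroup_dvd_card U)

/-- The embedding of `SL(2, q)` in `Qd(q)`. -/
noncomputable def sl2ToQd (q : ℕ) : Matrix.SpecialLinearGroup (Fin 2) (ZMod q) →* Cfsg.qd q :=
  MonoidHom.mk' (fun R => ⟨affMat q R 0, affMat_mem_qd q R 0⟩) fun R S => Subtype.ext (by
    show affMat q (R * S) 0 = affMat q R 0 * affMat q S 0
    rw [affMat_mul, Matrix.mulVec_zero, add_zero])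

theorem sl2ToQd_injective (q : ℕ) : Function.Injective (sl2ToQd q) := fun R S h => by
  have h' := congrArg (fun M : Cfsg.qd q =>
    ((M : Matrix.SpecialLinearGroup (Fin 3) (ZMod q)) : Matrix (Fin 3) (Fin 3) (ZMod q))) h
  refine Matrix.SpecialLinearGroup.ext _ _ fun i j => ?_
  fin_cases i <;> fin_cases j
  · simpa [sl2ToQd, affMat] using congrFun (congrFun h' 0) 0
  · simpa [sl2ToQd, affMat] using congrFun (congrFun h' 0) 1
  · simpa [sl2ToQd, affMat] using congrFun (congrFun h' 1) 0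
  · simpa [sl2ToQd, affMat] using congrFun (congrFun h' 1) 1

theorem qd_not_isSolvable {q : ℕ} [hq : Fact q.Prime] (h5 : 5 ≤ q) : ¬ Group.IsSolvable (Cfsg.qd q) := by
  intro h
  haveI := h
  haveI : Group.IsSolvable (Matrix.SpecialLinearGroup (Fin 2) (ZMod q)) :=
    Group.isSolvable_of_isSolvable_injective (sl2ToQd_injective q)
  have h2 : ((2 : ℕ) : ZMod q) ≠ 0 := fun h0 => by
    have := Nat.le_of_dvd (by norm_num) ((ZMod.natCast_eq_zero_iff 2 q).1 h0)
    omega
  have h3 : ((3 : ℕ) : ZMod q) ≠ 0 := fun h0 => by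
    have := Nat.le_of_dvd (by norm_num) ((ZMod.natCast_eq_zero_iff 3 q).1 h0)
    omega
  have htop := Matrix.SL2.commutator_eq_top (a := (2 : ZMod q)) (by exact_mod_cast h2) (fun h4 => h3 (by
    have : (2 : ZMod q) ^ 2 - 1 = 0 := sub_eq_zero.2 h4
    push_cast
    linear_combination this))
  haveI : Nontrivial (Matrix.SpecialLinearGroup (Fin 2) (ZMod q)) := by
    refine ⟨⟨⟨!![1, 1; 0, 1], by simp [Matrix.det_fin_two]⟩, 1, fun he => ?_⟩⟩
    have := congrArg (fun M : Matrix.SpecialLinearGroup (Fin 2) (ZMod q) =>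
      (M : Matrix (Fin 2) (Fin 2) (ZMod q)) 0 1) he
    simp at this
  exact (Group.IsSolvable.commutator_lt_top_of_nontrivial
    (Matrix.SpecialLinearGroup (Fin 2) (ZMod q))).ne htop

theorem isSolvable_of_involves {H : Type*} [Group H] {K : Type*} [Group K] [Group.IsSolvable K]
    (h : Involves H K) : Group.IsSolvable H := by
  obtain ⟨U, R, hR, ⟨e⟩⟩ := h
  haveI : Group.IsSolvable (U ⧸ R.subgroupOf U) :=
    Group.isSolvable_of_surjective (QuotientGroup.mk'_surjective _)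
  exact Group.isSolvable_of_surjective (f := e.toMonoidHom) e.surjective

variable {G : Type u} [Group G] [Finite G] {p : ℕ} [hp : Fact p.Prime]

namespace Ctx

variable {c : Ctx G p}

theorem odd_of_two (h2 : p = 2) {U : Subgroup G} (hU : c.fam U) : Odd (Nat.card U) := by
  rw [← Nat.not_even_iff_odd, even_iff_two_dvd]
  intro hd
  exact hU.2.1 (h2 ▸ hd)

/-- No member involves `Qd(q)` unless `q` is small and all orders are even. -/
theorem qd_free {q : ℕ} [hq : Fact q.Prime] (hq2 : q ≠ 2) (h : p = 2 ∨ 5 ≤ q) {U : Subgroup G} (hU : c.fam U) :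
    ¬ Involves (Cfsg.qd q) U := by
  intro hinv
  rcases h with h | h
  · exact (Nat.not_even_iff_odd.2 (odd_of_two h hU)) (even_iff_two_dvd.2
      ((even_card_qd hq2).trans (involves_card_dvd hinv)))
  · haveI := c.sol hU
    exact qd_not_isSolvable h (isSolvable_of_involves hinv)

/-- The data of a single-prime colour: a normal functor of a maximal member. -/
theorem hu_data (hc : Crit c) {H : Subgroup G} {q : ℕ} [hq : Fact q.Prime] (hq2 : q ≠ 2)
    (hfree : p = 2 ∨ 5 ≤ q) (hH : c.Colour H) (hHq : pi H = {q}) : ∃ Q, Q ≤ H ∧ c.fam Q ∧ IsPGroup q Q ∧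
      (∀ R, c.fam R → IsPGroup q R → Q ≤ R → R = Q) ∧
      H ≤ Subgroup.normalizer (inducedFunctor wZA Q : Set G) ∧
      ∀ U, c.fam U → U ≤ Subgroup.normalizer (inducedFunctor wZA Q : Set G) → U ≤ H := by
  have hqH : q ∈ pi H := prime_of_pi_eq hHq
  -- constraint and stability
  have h0 : pPrimeCore q ↥H = ⊥ := by
    refine (Subgroup.map_eq_bot_iff_of_injective _ H.subtype_injective).1 ?_
    refine normal_eq_bot hH.sol (Opc_le q H) (self_le_normalizer_Opc q H) fun r hr => ?_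
    by_cases hrH : r ∈ pi H
    · rw [hHq, Set.mem_singleton_iff] at hrH
      subst hrH
      exact coprime_inf_pGroup (Opc_coprime r H) (isPGroup_Ox r H)
    · rw [Ox_eq_bot hr hrH, inf_bot_eq]
  have hcent := centralizer_pCore_le_of_solvable hH.sol h0
  have hst : ∀ (P : Subgroup ↥H) [P.Normal], IsPGroup q P → IsPStableOn q P := fun P _ hP =>
    isPStableOn_of_qd_free hq2 (qd_free hq2 hfree hH.1) P hP
  obtain ⟨Q, hQ, hQA⟩ := Solv.exists_invariant_sylow (c.nrmA hH.1) (c.coprimeA hH.1) (Or.inr hH.sol) q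
  have hQf : c.fam Q := c.fam_le hH.1 hQ.1 hQA
  obtain ⟨T, hT⟩ := hQ.exists_sylow
  obtain ⟨X, hX⟩ : ∃ X, X = inducedFunctor wZA Q := ⟨_, rfl⟩
  have hcf := isConjugacyFunctor_induced (G := G) (isCharPFunctor_wZA (p := q))
  have hQp : IsPGroup q Q := hQ.isPGroup
  have hXQ : X ≤ Q := hX ▸ Subgroup.map_subtype_le _
  have hXeq : X = (inducedFunctor wZA (T : Subgroup ↥H)).map H.subtype := by
    rw [← inducedFunctor_map_of_injOn (isCharPFunctor_wZA (p := q)) H.subtype H.subtype_injective.injOn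
      T.isPGroup', hX]
    exact congrArg _ hT.symm
  have hHX : H ≤ Subgroup.normalizer (X : Set G) := by
    haveI := centerThompsonAOf_normal hq2 hcent hst T
    refine (Subgroup.normal_subgroupOf_iff_le_normalizer (hXQ.trans hQ.1)).1 ?_
    rw [hXeq, Subgroup.subgroupOf, Subgroup.comap_map_eq_self_of_injective H.subtype_injective]
    infer_instance
  have hQne : Q ≠ ⊥ := fun h => by
    refine hqH.2 (le_bot_iff.1 ?_)
    have := Subgroup.map_mono (f := H.subtype) (pCore_le_sylIn (sylIn_top T) : pCore q ↥H ≤ (T : Subgroup ↥H))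
    exact this.trans (hT.trans h).le
  have hNQ : Subgroup.normalizer (Q : Set G) ≤ Subgroup.normalizer (X : Set G) := fun g hg =>
    mem_normalizer_of_cj_le (by
      have := (hcf Q hQp).2.2 g
      rw [show Q.map (MulAut.conj g).toMonoidHom = Q from cj_eq_self hg] at this
      exact hX ▸ this.ge)
  have hXne : X ≠ ⊥ := hX ▸ (hcf Q hQp).2.1 hQne
  obtain ⟨K, hK, -, hgr⟩ := c.exists_gr hc (c.fam_le hQf hXQ (hQA.trans hNQ)) hXne
  have hKH : K = H := hH.2.2 K hK (hgr H hH.1 hHX)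
  subst hKH
  refine ⟨Q, hQ.1, hQf, hQp, fun R hR hRq hle => ?_, hX ▸ hHX, hX ▸ hgr⟩
  refine le_antisymm (le_of_normalizer_le hRq hle ?_) hle
  obtain ⟨N, hN⟩ : ∃ N, N = R ⊓ Subgroup.normalizer (Q : Set G) := ⟨_, rfl⟩
  rw [← hN]
  have hNR : N ≤ R := hN ▸ inf_le_left
  have hNH : N ≤ K := hgr N (c.fam_le hR hNR (fun a ha => mem_normalizer_of_cj_le (by
    rw [hN, cj_inf, cj_normalizer, cj_eq_self (c.nrm_a hR ha), cj_eq_self (hQA ha)])))
    (hN ▸ inf_le_right.trans hNQ)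
  have hQN : Q ≤ N := hN ▸ le_inf hle Subgroup.le_normalizer
  exact (hQ.eq_of_le (hRq.to_le hNR) hNH hQN).ge

theorem hu_of_free (hc : Crit c) (H : Subgroup G) (q : ℕ) (hH : c.Colour H) (hHq : pi H = {q})
    (hq2 : q ≠ 2) (hfree : p = 2 ∨ 5 ≤ q) :
    c.W q ≤ H ∧ ∀ H', c.Colour H' → pi H' = {q} → H' = H := by
  have hqH : q ∈ pi H := prime_of_pi_eq hHq
  haveI := Fact.mk hqH.1
  obtain ⟨Q, hQH, hQ, hQq, hQmax, hHX, hgr⟩ := hu_data hc hq2 hfree hH hHq
  obtain ⟨hWI, hWq⟩ := c.W_spec hc hqH.1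
  refine ⟨?_, fun H' hH' hH'q => ?_⟩
  · obtain ⟨g, hg, hle⟩ := member_conj_le c.hA c.h3 c.hθ hQ hQq hQmax hWI.1 hWq
    exact hle.trans ((cj_mono hQH g).trans (cj_eq_self_of_mem (hH.2.1 hg)).le)
  · obtain ⟨Q', -, hQ', hQ'q, hQ'max, hH'X, -⟩ := hu_data hc hq2 hfree hH' hH'q
    obtain ⟨g, hg, hle⟩ := member_conj_le c.hA c.h3 c.hθ hQ hQq hQmax hQ' hQ'q
    have he : cj Q g = Q' := hQ'max _ (fam_cj c.hθ hQ hg) (isPGroup_cj hQq g) hle
    have hX : inducedFunctor wZA Q' = inducedFunctor wZA Q := by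
      rw [← he, show cj Q g = Q.map (MulAut.conj g).toMonoidHom from rfl,
        (isConjugacyFunctor_induced (isCharPFunctor_wZA (p := q)) Q hQq).2.2 g]
      exact cj_eq_self (hHX (hH.2.1 hg))
    exact (hH'.2.2 H hH.1 (hgr H' hH'.1 (hX ▸ hH'X))).symm

theorem hu_of_crit (hc : Crit c) (H : Subgroup G) (q : ℕ) (hH : c.Colour H) (hHq : pi H = {q}) :
    c.W q ≤ H ∧ ∀ H', c.Colour H' → pi H' = {q} → H' = H := by
  have hqH : q ∈ pi H := prime_of_pi_eq hHq
  haveI := Fact.mk hqH.1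
  have hpq : p ≠ q := by
    rintro rfl
    obtain ⟨-, a, ha, ha1, hd⟩ := hH.mem_primes hqH
    exact c.hθ.1.2.1 a ha ha1 hd
  rcases eq_or_ne q 2 with h2 | hq2
  · have s : Single c q H := ⟨hc, hH, hHq, Or.inl ⟨h2, h2 ▸ hpq⟩⟩
    exact ⟨s.W_le, fun H' hH' hH'q => s.eq_of_single ⟨hc, hH', hH'q, s.hq23⟩⟩
  rcases eq_or_ne q 3 with h3 | hq3
  · by_cases hp2 : p = 2
    · exact hu_of_free hc H q hH hHq hq2 (Or.inl hp2)
    have hp5 : 5 ≤ p := by
      have := hp.out.two_le
      rcases Nat.lt_or_ge p 5 with h | h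
      · interval_cases p
        · exact absurd rfl hp2
        · exact absurd h3.symm hpq
        · exact absurd hp.out (by norm_num)
      · exact h
    have s : Single c q H := ⟨hc, hH, hHq, Or.inr ⟨h3, hp5⟩⟩
    exact ⟨s.W_le, fun H' hH' hH'q => s.eq_of_single ⟨hc, hH', hH'q, s.hq23⟩⟩
  refine hu_of_free hc H q hH hHq hq2 (Or.inr ?_)
  have := hqH.1.two_le
  by_contra h
  have h4 : q = 4 := by omega
  exact absurd (h4 ▸ hqH.1) (by norm_num)

end Ctx

end Cfsg.Agent.SSF
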