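import Cfsg.Agent.Lib.SSF.Tools
import Cfsg.Agent.Lib.Local.ElemAb
import Mathlib.LinearAlgebra.Matrix.GeneralLinearGroup.Card

/-!
The automorphism group of an elementary abelian group divides the order of the general linear group.
-/

set_option autoImplicit false
set_option linter.style.haveILetI false

open Cfsg Cfsg.Agent Cfsg.Agent.Fusion
open scoped commutatorElement Pointwise

namespace Cfsg.Agent.SSF

universe u

theorem card_linAut_dvd {q n : ℕ} [Fact q.Prime] {V : Type u} [AddCommGroup V] [Module (ZMod q) V]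
    [Finite V] (hn : Nat.card V = q ^ n) {Γ : Type u} [Group Γ] (φ : Γ → (V ≃+ V))
    (hmul : ∀ a b v, φ (a * b) v = φ a (φ b v)) (hinj : Function.Injective φ) :
    Nat.card Γ ∣ ∏ i : Fin n, (q ^ n - q ^ (i : ℕ)) := by
  let F : Γ →* LinearMap.GeneralLinearGroup (ZMod q) V :=
    MonoidHom.mk' (fun a => LinearMap.GeneralLinearGroup.ofLinearEquiv
      ((φ a).toLinearEquiv fun c v => ZMod.map_smul (φ a) c v))
      fun a b => Units.ext (LinearMap.ext fun v => hmul a b v)
  have hF : Function.Injective F := fun a b h => hinj (AddEquiv.ext fun v =>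
    LinearMap.congr_fun (congrArg Units.val h) v)
  haveI : Module.Finite (ZMod q) V := Module.Finite.of_finite
  have hfr : Module.finrank (ZMod q) V = n := by
    refine Nat.pow_right_injective (Fact.out : q.Prime).two_le ?_
    show q ^ _ = q ^ n
    rw [← hn, Nat.card_congr (Module.finBasis (ZMod q) V).equivFun.toEquiv, Nat.card_fun, Nat.card_fin,
      Nat.card_zmod]
  let b : Module.Basis (Fin n) (ZMod q) V := Module.finBasisOfFinrankEq (ZMod q) V hfr
  refine (Subgroup.card_dvd_of_injective F hF).trans (dvd_of_eq ?_)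
  rw [← Nat.card_congr (Matrix.GeneralLinearGroup.toLin' b).toEquiv, Matrix.card_GL_field, ZMod.card]

variable {G : Type u} [Group G] [Finite G]

theorem card_mulAut_dvd {q n : ℕ} [Fact q.Prime] {U : Subgroup G} (hU : IsElementaryAbelian q U)
    (hn : Nat.card U = q ^ n) : Nat.card (MulAut U) ∣ ∏ i : Fin n, (q ^ n - q ^ (i : ℕ)) := by
  classical
  letI : CommGroup U :=
    { U.toGroup with
      mul_comm := fun a b => Subtype.ext (Local.elemAb_commute hU a.2 b.2) }
  have hsmul : ∀ v : Additive U, q • v = 0 := fun v => by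
    refine Additive.toMul.injective (Subtype.ext ?_)
    show ((v.toMul : U) ^ q : U).1 = (1 : U).1
    rw [Subgroup.coe_pow, Subgroup.coe_one]
    exact hU.2 _ v.toMul.2
  letI : Module (ZMod q) (Additive U) := AddCommGroup.zmodModule hsmul
  haveI : Finite (Additive U) := Finite.of_equiv U Additive.ofMul
  exact card_linAut_dvd ((Nat.card_congr (Additive.ofMul : U ≃ Additive U)).symm.trans hn)
    (fun φ : MulAut U => MulEquiv.toAdditive φ) (fun _ _ _ => rfl) MulEquiv.toAdditive.injective

end Cfsg.Agent.SSF
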