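import Cfsg.Agent.Lib.SSF.Cores
import Cfsg.Agent.Lib.Fusion.Signalizer
import Cfsg.Agent.Lib.Solv.CoprimeHall
import Cfsg.Agent.S1280
import Cfsg.Agent.S1285

/-!
The setting of the solvable signalizer functor theorem: a minimal counterexample, the greatest
members in normalisers, and the greatest invariant members for a set of primes.
-/

set_option autoImplicit false
set_option linter.style.haveILetI false

open Cfsg Cfsg.Agent Cfsg.Agent.Fusion
open scoped commutatorElement Pointwise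

namespace Cfsg.Agent.SSF

universe u

/-- A solvable signalizer functor of rank at least three. -/
structure Ctx (G : Type u) [Group G] [Finite G] (p : ℕ) [Fact p.Prime] where
  A : Subgroup G
  θ : G → Subgroup G
  hA : Cfsg.IsElementaryAbelian p A
  h3 : p ^ 3 ≤ Nat.card A
  hθ : Cfsg.IsSolvableSignalizerFunctor p A θ

variable {G : Type u} [Group G] [Finite G] {p : ℕ} [hp : Fact p.Prime]

/-- All prime divisors of the order lie in `σ`. -/
def Sig (σ : ℕ → Prop) (U : Subgroup G) : Prop := ∀ r, r.Prime → r ∣ Nat.card U → σ r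

omit [Finite G] in
theorem Sig.mono {σ : ℕ → Prop} {U V : Subgroup G} (h : U ≤ V) (hV : Sig σ V) : Sig σ U :=
  fun r hr hd => hV r hr (hd.trans (Subgroup.card_dvd_of_le h))

theorem sig_eq_iff {x : ℕ} (hx : x.Prime) {U : Subgroup G} : Sig (· = x) U ↔ IsPGroup x U := by
  haveI := Fact.mk hx
  refine ⟨fun h => IsPGroup.iff_card.2 ⟨(Nat.card U).factorization x, ?_⟩, fun h r hr hd => ?_⟩
  · obtain ⟨k, hk⟩ : ∃ k, Nat.card U = x ^ k :=
      ⟨_, Nat.eq_prime_pow_of_unique_prime_dvd Nat.card_pos.ne' (fun {d} hd hdd => h d hd hdd)⟩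
    rw [hk, Nat.Prime.factorization_pow hx, Finsupp.single_eq_same]
  · obtain ⟨k, hk⟩ := IsPGroup.iff_card.1 h
    exact (Nat.prime_dvd_prime_iff_eq hr hx).1 (hr.dvd_of_dvd_pow (hk ▸ hd))

omit [Finite G] in
theorem sig_ne_iff {t : ℕ} (ht : t.Prime) {U : Subgroup G} : Sig (· ≠ t) U ↔ ¬ t ∣ Nat.card U :=
  ⟨fun h hd => h t ht hd rfl, fun h r _ hd he => h (he ▸ hd)⟩

namespace Ctx

variable (c : Ctx G p)

/-- Membership of the family. -/
abbrev fam (U : Subgroup G) : Prop := U ∈ Cfsg.signalizerFamily p c.A c.θ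

/-- The common part of all values. -/
abbrev C : Subgroup G := Cfsg.signalizerInf c.A c.θ

/-- A member normalised by the common part. -/
def Inv (U : Subgroup G) : Prop := c.fam U ∧ c.C ≤ Subgroup.normalizer (U : Set G)

/-- All values lie in one member. -/
def Full : Prop := ∃ K, c.fam K ∧ ∀ a ∈ c.A, a ≠ 1 → c.θ a ≤ K

/-- A subgroup of index `p` in `A`. -/
def Hyp (D : Subgroup G) : Prop := D ≤ c.A ∧ Nat.card c.A = p * Nat.card D

/-- A maximal member containing the common part. -/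
def Colour (M : Subgroup G) : Prop := c.fam M ∧ c.C ≤ M ∧ ∀ U, c.fam U → M ≤ U → U = M

theorem exists_ne_one : ∃ a ∈ c.A, a ≠ 1 := by
  by_contra hno
  have h := c.h3
  rw [(Subgroup.eq_bot_iff_forall _).2 fun a ha => by_contra fun h1 => hno ⟨a, ha, h1⟩,
    Subgroup.card_bot] at h
  exact absurd h (not_le.2 (Nat.one_lt_pow (by norm_num) hp.out.one_lt))

theorem h2 : p ^ 2 ≤ Nat.card c.A := (Nat.pow_le_pow_right hp.out.pos (by norm_num)).trans c.h3

theorem comm {a b : G} (ha : a ∈ c.A) (hb : b ∈ c.A) : a * b = b * a := elab_comm c.hA ha hb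

theorem pow_p {a : G} (ha : a ∈ c.A) : a ^ p = 1 := c.hA.2 a ha

theorem A_le_cent {D : Subgroup G} (hD : D ≤ c.A) : c.A ≤ Subgroup.centralizer (D : Set G) :=
  fun _ ha => Subgroup.mem_centralizer_iff.2 fun _ hd => c.comm (hD hd) ha

theorem nrmA {U : Subgroup G} (hU : c.fam U) : c.A ≤ Subgroup.normalizer (U : Set G) := fam_normalizer hU

theorem nrm_a {U : Subgroup G} (hU : c.fam U) {a : G} (ha : a ∈ c.A) :
    a ∈ Subgroup.normalizer (U : Set G) := c.nrmA hU ha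

theorem sol {U : Subgroup G} (hU : c.fam U) : Group.IsSolvable U := hU.1

theorem coprime_p {U : Subgroup G} (hU : c.fam U) : (Nat.card U).Coprime p :=
  ((Nat.Prime.coprime_iff_not_dvd hp.out).2 hU.2.1).symm

theorem coprimeA {U : Subgroup G} (hU : c.fam U) : (Nat.card c.A).Coprime (Nat.card U) :=
  elab_coprime c.hA hU.2.1

theorem inf_cent_le {U : Subgroup G} (hU : c.fam U) {a : G} (ha : a ∈ c.A) (ha1 : a ≠ 1) :
    U ⊓ Subgroup.centralizer {a} ≤ c.θ a := hU.2.2.2 a ha ha1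

theorem theta_fam {a : G} (ha : a ∈ c.A) (ha1 : a ≠ 1) : c.fam (c.θ a) := theta_mem_fam c.hθ ha ha1

theorem theta_cent {a : G} (ha : a ∈ c.A) (ha1 : a ≠ 1) : c.θ a ≤ Subgroup.centralizer {a} :=
  c.hθ.1.1 a ha ha1

theorem fam_le {U V : Subgroup G} (hU : c.fam U) (hV : V ≤ U)
    (hAV : c.A ≤ Subgroup.normalizer (V : Set G)) : c.fam V := fam_of_le hU hV hAV

theorem fam_sup {X Y : Subgroup G} (hX : c.fam X) (hY : c.fam Y)
    (hn : Y ≤ Subgroup.normalizer (X : Set G)) : c.fam (X ⊔ Y) :=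
  S1280.result p c.A c.hA c.h2 c.θ c.hθ X Y hX hY hn

theorem C_le_theta {a : G} (ha : a ∈ c.A) (ha1 : a ≠ 1) : c.C ≤ c.θ a :=
  iInf_le_of_le ⟨a, ha, ha1⟩ le_rfl

theorem C_le_centA : c.C ≤ Subgroup.centralizer (c.A : Set G) := signalizerInf_le_centralizer c.hθ

theorem A_le_centC : c.A ≤ Subgroup.centralizer (c.C : Set G) :=
  Subgroup.le_centralizer_iff.1 c.C_le_centA

theorem C_fam : c.fam c.C := by
  obtain ⟨a, ha, ha1⟩ := c.exists_ne_one
  exact c.fam_le (c.theta_fam ha ha1) (c.C_le_theta ha ha1)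
    (c.A_le_centC.trans (Subgroup.centralizer_le_normalizer _))

theorem inf_centA_le {U : Subgroup G} (hU : c.fam U) :
    U ⊓ Subgroup.centralizer (c.A : Set G) ≤ c.C :=
  le_iInf fun a => (inf_le_inf_left _ (Subgroup.centralizer_le (by simpa using a.2.1))).trans
    (c.inf_cent_le hU a.2.1 a.2.2)

theorem inf_centD_le {U : Subgroup G} (hU : c.fam U) {D : Subgroup G} {d : G} (hD : D ≤ c.A) (hd : d ∈ D)
    (hd1 : d ≠ 1) : U ⊓ Subgroup.centralizer (D : Set G) ≤ c.θ d :=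
  (inf_le_inf_left _ (Subgroup.centralizer_le (by simpa using hd))).trans (c.inf_cent_le hU (hD hd) hd1)

theorem cycQuot_cases {B : Subgroup G} (hB : B ∈ Solv.CycQuot c.A) : B = c.A ∨ c.Hyp B := by
  refine or_iff_not_imp_left.2 fun hne => ⟨hB.1, ?_⟩
  have h1 := card_le_mul_of_cycQuot c.hA hB
  obtain ⟨k, hk⟩ := Subgroup.card_dvd_of_le hB.1
  obtain ⟨n, hn⟩ := IsPGroup.iff_card.1 (elab_isPGroup c.hA)
  have hkd : k ∣ p ^ n := ⟨Nat.card B, by rw [← hn, hk, mul_comm]⟩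
  obtain ⟨i, -, rfl⟩ := (Nat.dvd_prime_pow hp.out).1 hkd
  have hi : i ≠ 0 := fun h => hne (Subgroup.eq_of_le_of_card_ge hB.1 (by rw [hk, h, pow_zero, mul_one]))
  have hle : p ^ i ≤ p := le_of_mul_le_mul_left (by rw [← hk, mul_comm]; exact h1) (Nat.card_pos (α := B))
  rw [hk, show p ^ i = p from le_antisymm hle (Nat.le_self_pow hi p), mul_comm]

/-- A member lies in `K` as soon as its fixed points of `A` and of the hyperplanes do. -/
theorem le_of_gen {U K : Subgroup G} (hU : c.fam U) (hC : U ⊓ c.C ≤ K)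
    (h : ∀ D, c.Hyp D → U ⊓ Subgroup.centralizer (D : Set G) ≤ K) : U ≤ K := by
  refine (Solv.gen_eq c.A U c.hA.1 (c.nrmA hU) (c.coprimeA hU)).ge.trans (iSup₂_le fun B hB => ?_)
  rcases c.cycQuot_cases hB with rfl | hB
  · exact (le_inf inf_le_left (c.inf_centA_le hU)).trans hC
  · exact h B hB

theorem hyp_ne_bot {D : Subgroup G} (hD : c.Hyp D) : ∃ d ∈ D, d ≠ 1 := by
  by_contra hno
  have h := c.h3
  rw [hD.2, (Subgroup.eq_bot_iff_forall D).2 fun a ha => by_contra fun h1 => hno ⟨a, ha, h1⟩,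
    Subgroup.card_bot, mul_one] at h
  exact absurd h (not_le.2 (lt_self_pow₀ hp.out.one_lt (by norm_num)))

theorem hyp_card {D : Subgroup G} (hD : c.Hyp D) : p ^ 2 ≤ Nat.card D := by
  have h := c.h3
  rw [hD.2, pow_succ'] at h
  exact Nat.le_of_mul_le_mul_left h hp.out.pos

theorem le_of_theta {U K : Subgroup G} (hU : c.fam U) (hK : ∀ a ∈ c.A, a ≠ 1 → U ⊓ c.θ a ≤ K) : U ≤ K := by
  refine c.le_of_gen hU ?_ fun D hD => ?_
  · obtain ⟨a, ha, ha1⟩ := c.exists_ne_one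
    exact (inf_le_inf_left _ (c.C_le_theta ha ha1)).trans (hK a ha ha1)
  · obtain ⟨d, hd, hd1⟩ := c.hyp_ne_bot hD
    exact (le_inf inf_le_left (c.inf_centD_le hU hD.1 hd hd1)).trans (hK d (hD.1 hd) hd1)

open Classical in
/-- The measure of the induction. -/
noncomputable def n : ℕ :=
  ∑ a ∈ ((c.A : Set G) \ {1}).toFinite.toFinset, Nat.card (c.θ a)

theorem n_lt (d : Ctx G p) (hA : d.A = c.A) (hle : ∀ a ∈ c.A, a ≠ 1 → d.θ a ≤ c.θ a)
    (hne : ∃ a ∈ c.A, a ≠ 1 ∧ d.θ a ≠ c.θ a) : d.n < c.n := by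
  rw [n, n]
  simp only [hA]
  obtain ⟨a, ha, ha1, hne⟩ := hne
  refine Finset.sum_lt_sum (fun b hb => ?_) ⟨a, by simp [ha, ha1], ?_⟩
  · rw [Set.Finite.mem_toFinset] at hb
    exact Subgroup.card_le_of_le (hle b hb.1 (by simpa using hb.2))
  · exact Solv.card_lt_of_lt (lt_of_le_of_ne (hle a ha ha1) hne)

end Ctx

/-- A minimal counterexample. -/
def Crit (c : Ctx G p) : Prop :=
  ¬ c.Full ∧ ∀ (G' : Type u) [Group G'] [Finite G'] (d : Ctx G' p), d.n < c.n → d.Full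

namespace Ctx

variable (c : Ctx G p)

/-- Restriction to a subgroup normalised by `A`. -/
def restr (H : Subgroup G) (hAH : c.A ≤ Subgroup.normalizer (H : Set G)) : Ctx G p where
  A := c.A
  θ := fun a => c.θ a ⊓ H
  hA := c.hA
  h3 := c.h3
  hθ := ⟨⟨fun a ha ha1 => inf_le_left.trans (c.theta_cent ha ha1),
    fun a ha ha1 h => c.hθ.1.2.1 a ha ha1 (h.trans (Subgroup.card_dvd_of_le inf_le_left)),
    fun a ha ha1 b hb x hx => Subgroup.mem_inf.2 ⟨c.hθ.1.2.2.1 a ha ha1 b hb x (Subgroup.mem_inf.1 hx).1,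
      nrm (hAH hb) (Subgroup.mem_inf.1 hx).2⟩,
    fun a ha ha1 b hb hb1 => le_inf
      ((inf_le_inf_right _ inf_le_left).trans (c.hθ.1.2.2.2 a ha ha1 b hb hb1))
      (inf_le_left.trans inf_le_right)⟩,
    fun a ha ha1 => Solv.isSolvable_of_le inf_le_left (c.hθ.2 a ha ha1)⟩

/-- When every value normalises `X`, a full functor on the quotient gives a full functor. -/
theorem full_of_normalized (hc : Crit c) {X : Subgroup G} (hX : c.fam X) (hne : X ≠ ⊥)
    (hall : ∀ a ∈ c.A, a ≠ 1 → c.θ a ≤ Subgroup.normalizer (X : Set G)) : False := by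
  classical
  obtain ⟨N, hN⟩ : ∃ N, N = Subgroup.normalizer (X : Set G) := ⟨_, rfl⟩
  have hXN : X ≤ N := hN ▸ Subgroup.le_normalizer
  have hAN : c.A ≤ N := hN ▸ c.nrmA hX
  haveI hXn : (X.subgroupOf N).Normal :=
    (Subgroup.normal_subgroupOf_iff_le_normalizer hXN).2 hN.le
  let π := QuotientGroup.mk' (X.subgroupOf N)
  have hker : ∀ g h : N, π g = π h ↔ (g : G)⁻¹ * h ∈ X := fun g h => by
    show QuotientGroup.mk g = QuotientGroup.mk h ↔ _
    rw [QuotientGroup.eq, Subgroup.mem_subgroupOf]; rfl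
  have hinj : ∀ a b : N, (a : G) ∈ c.A → (b : G) ∈ c.A → π a = π b → a = b := by
    intro a b ha hb h
    refine Subtype.ext (inv_mul_eq_one.1 (Subgroup.mem_bot.1 ?_))
    rw [← Subgroup.inf_eq_bot_of_coprime (c.coprimeA hX)]
    exact Subgroup.mem_inf.2 ⟨mul_mem (inv_mem ha) hb, (hker a b).1 h⟩
  let A' : Subgroup (N ⧸ X.subgroupOf N) := (c.A.subgroupOf N).map π
  let θ' : (N ⧸ X.subgroupOf N) → Subgroup (N ⧸ X.subgroupOf N) := fun b =>
    ⨆ a : {a : N // (a : G) ∈ c.A ∧ π a = b}, ((c.θ ((a : N) : G)).subgroupOf N).map π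
  have hθ' : ∀ a : N, (a : G) ∈ c.A → θ' (π a) = ((c.θ (a : G)).subgroupOf N).map π := fun a ha =>
    le_antisymm (iSup_le fun b => by rw [hinj b.1 a b.2.1 ha b.2.2])
      (le_iSup_of_le ⟨a, ha, rfl⟩ le_rfl)
  have hA' : ∀ b ∈ A', ∃ a : N, (a : G) ∈ c.A ∧ π a = b := fun b ⟨a, ha, he⟩ => ⟨a, ha, he⟩
  have hA'ne : ∀ a : N, π a ≠ 1 → (a : G) ≠ 1 := fun a h h1 => h (by
    rw [show a = 1 from Subtype.ext h1, map_one])
  have hcard : Nat.card A' = Nat.card c.A := by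
    rw [← Nat.card_congr (Subgroup.subgroupOfEquivOfLe hAN).toEquiv]
    refine Nat.card_congr (Equiv.ofBijective
      (fun a : c.A.subgroupOf N => (⟨π a.1, a.1, a.2, rfl⟩ : A')) ⟨fun a b h => Subtype.ext
        (hinj _ _ a.2 b.2 (congrArg Subtype.val h)), ?_⟩).symm
    rintro ⟨_, a, ha, rfl⟩
    exact ⟨⟨a, ha⟩, rfl⟩
  let d : Ctx (N ⧸ X.subgroupOf N) p :=
  { A := A'
    θ := θ'
    hA := by
      refine ⟨⟨⟨fun u v => Subtype.ext ?_⟩⟩, fun b hb => ?_⟩
      · obtain ⟨a, ha, hau⟩ := hA' u u.2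
        obtain ⟨a', ha', hav⟩ := hA' v v.2
        show (u : N ⧸ X.subgroupOf N) * v = v * u
        rw [← hau, ← hav, ← map_mul, ← map_mul, show a * a' = a' * a from Subtype.ext (c.comm ha ha')]
      · obtain ⟨a, ha, rfl⟩ := hA' b hb
        rw [← map_pow, show a ^ p = 1 from Subtype.ext (c.pow_p ha), map_one]
    h3 := hcard ▸ c.h3
    hθ := by
      refine ⟨⟨fun b hb hb1 => ?_, fun b hb hb1 => ?_, fun b hb hb1 b' hb' y hy => ?_,
        fun b hb hb1 b' hb' hb'1 => ?_⟩, fun b hb hb1 => ?_⟩ <;>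
        obtain ⟨a, ha, rfl⟩ := hA' b hb <;>
        have ha1 := hA'ne a hb1 <;>
        rw [hθ' a ha] at *
      · rintro _ ⟨u, hu, rfl⟩
        rw [Subgroup.mem_centralizer_singleton_iff, ← map_mul, ← map_mul]
        exact congrArg π (Subtype.ext (Subgroup.mem_centralizer_singleton_iff.1 (c.theta_cent ha ha1 hu)))
      · intro hd
        refine c.hθ.1.2.1 _ ha ha1 (hd.trans ((Subgroup.card_map_dvd _ π).trans ?_))
        rw [Nat.card_congr (Subgroup.subgroupOfEquivOfLe ((hall _ ha ha1).trans hN.ge)).toEquiv]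
      · obtain ⟨u, hu, rfl⟩ := hy
        obtain ⟨a', ha', rfl⟩ := hA' b' hb'
        rw [← map_inv, ← map_mul, ← map_mul]
        exact ⟨_, c.hθ.1.2.2.1 _ ha ha1 _ ha' _ hu, rfl⟩
      · obtain ⟨a', ha', rfl⟩ := hA' b' hb'
        rw [hθ' a' ha']
        have ha'1 := hA'ne a' hb'1
        intro y hy
        obtain ⟨⟨u, hu, rfl⟩, hy2⟩ := Subgroup.mem_inf.1 hy
        have huc : Commute (π u) (π a') := Subgroup.mem_centralizer_singleton_iff.1 hy2
        have hnθ : Subgroup.zpowers (a' : G) ≤ Subgroup.normalizer (c.θ (a : G) : Set G) :=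
          Subgroup.zpowers_le.2 (c.nrm_a (c.theta_fam ha ha1) ha')
        have hcop : (Nat.card ↥(Subgroup.zpowers (a' : G))).Coprime (Nat.card ↥(c.θ (a : G))) := by
          rw [Nat.card_zpowers]
          exact Nat.Coprime.coprime_dvd_left (orderOf_dvd_of_pow_eq_one (c.pow_p ha'))
            (c.coprime_p (c.theta_fam ha ha1)).symm
        have hfix : ∀ z ∈ Subgroup.zpowers (a' : G),
            (u : G)⁻¹ * (z * u * z⁻¹) ∈ c.θ (a : G) ⊓ X := fun z hz => by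
          refine Subgroup.mem_inf.2 ⟨mul_mem (inv_mem hu) (nrm (hnθ hz) hu), ?_⟩
          obtain ⟨i, rfl⟩ := Subgroup.mem_zpowers_iff.1 hz
          have h1 : π u = π (a' ^ i * u * (a' ^ i)⁻¹) := by
            rw [map_mul, map_mul, map_inv, map_zpow, ← (huc.zpow_right i).eq, mul_inv_cancel_right]
          have h2 := (hker _ _).1 h1
          simpa using h2
        obtain ⟨v, hv, hvu⟩ := Solv.exists_fixed_in_coset' (Subgroup.zpowers (a' : G)) (c.θ (a : G))
          (c.θ (a : G) ⊓ X) hnθ hcop (Or.inr (c.hθ.2 _ ha ha1)) inf_le_left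
          (fun z hz => mem_normalizer_of_cj_le (by
            rw [cj_inf, cj_eq_self (hnθ hz), cj_eq_self ((Subgroup.zpowers_le.2 (c.nrm_a hX ha')) hz)]))
          hu hfix
        have hvθ : v ∈ c.θ (a' : G) := c.hθ.1.2.2.2 _ ha ha1 _ ha' ha'1 (Subgroup.mem_inf.2
          ⟨(Subgroup.mem_inf.1 hv).1, Subgroup.mem_centralizer_singleton_iff.2
            (Subgroup.mem_centralizer_iff.1 (Subgroup.mem_inf.1 hv).2 _ (Subgroup.mem_zpowers _)).symm⟩)
        refine ⟨⟨v, (hall _ ha' ha'1).trans hN.ge hvθ⟩, hvθ, ?_⟩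
        exact ((hker _ _).2 (Subgroup.mem_inf.1 hvu).2).symm
      · exact Solv.isSolvable_map π (Solv.isSolvable_subgroupOf ((hall _ ha ha1).trans hN.ge)
          (c.hθ.2 _ ha ha1)) }
  obtain ⟨a₀, ha₀, ha₀1, hmeet⟩ : ∃ a ∈ c.A, a ≠ 1 ∧ X ⊓ c.θ a ≠ ⊥ := by
    by_contra hno
    push Not at hno
    exact hne (eq_bot_iff.2 (c.le_of_theta hX fun a ha ha1 => (hno a ha ha1).le))
  have hlt : d.n < c.n := by
    rw [Ctx.n, Ctx.n]
    let e : G → N ⧸ X.subgroupOf N := fun a => if h : a ∈ N then π ⟨a, h⟩ else 1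
    have hs : ((A' : Set (N ⧸ X.subgroupOf N)) \ {1}).toFinite.toFinset =
        (((c.A : Set G) \ {1}).toFinite.toFinset).image e := by
      ext b
      simp only [Set.Finite.mem_toFinset, Finset.mem_image, Set.mem_sdiff, SetLike.mem_coe,
        Set.mem_singleton_iff]
      constructor
      · rintro ⟨hb, hb1⟩
        obtain ⟨a, ha, rfl⟩ := hA' b hb
        exact ⟨(a : G), ⟨ha, hA'ne a hb1⟩, by simp [e]⟩
      · rintro ⟨a, ⟨ha, ha1⟩, rfl⟩
        simp only [e, dif_pos (hAN ha)]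
        exact ⟨⟨⟨a, hAN ha⟩, ha, rfl⟩, fun h => ha1 (congrArg Subtype.val
          (hinj ⟨a, hAN ha⟩ 1 ha (one_mem _) (h.trans (map_one π).symm)))⟩
    show (∑ b ∈ ((A' : Set (N ⧸ X.subgroupOf N)) \ {1}).toFinite.toFinset, Nat.card (θ' b)) < _
    rw [hs, Finset.sum_image]
    · refine Finset.sum_lt_sum (fun a ha => ?_) ⟨a₀, by simp [ha₀, ha₀1], ?_⟩
      · simp only [Set.Finite.mem_toFinset, Set.mem_sdiff, SetLike.mem_coe, Set.mem_singleton_iff] at ha
        simp only [e, dif_pos (hAN ha.1)]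
        rw [hθ' ⟨a, hAN ha.1⟩ ha.1]
        refine (Nat.le_of_dvd Nat.card_pos (Subgroup.card_map_dvd _ π)).trans ?_
        rw [Nat.card_congr (Subgroup.subgroupOfEquivOfLe ((hall _ ha.1 ha.2).trans hN.ge)).toEquiv]
      · simp only [e, dif_pos (hAN ha₀)]
        rw [hθ' ⟨a₀, hAN ha₀⟩ ha₀,
          ← Nat.card_congr (Subgroup.subgroupOfEquivOfLe ((hall _ ha₀ ha₀1).trans hN.ge)).toEquiv]
        refine lt_of_le_of_ne (Nat.le_of_dvd Nat.card_pos (Subgroup.card_map_dvd _ π)) fun heq => hmeet ?_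
        refine (Subgroup.eq_bot_iff_forall _).2 fun x hx => ?_
        obtain ⟨hxX, hxθ⟩ := Subgroup.mem_inf.1 hx
        have hinj' : Function.Injective (π.subgroupMap ((c.θ a₀).subgroupOf N)) :=
          ((Nat.bijective_iff_surjective_and_card _).2 ⟨π.subgroupMap_surjective _, heq.symm⟩).1
        have h1 := @hinj' ⟨⟨x, hXN hxX⟩, hxθ⟩ 1 (Subtype.ext
          ((QuotientGroup.eq_one_iff _).2 hxX))
        exact congrArg (fun z => ((z.1 : N) : G)) h1
    · intro a ha b hb hab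
      simp only [Set.Finite.coe_toFinset, Set.mem_sdiff, SetLike.mem_coe] at ha hb
      simp only [e, dif_pos (hAN ha.1), dif_pos (hAN hb.1)] at hab
      exact congrArg Subtype.val (hinj _ _ ha.1 hb.1 hab)
  obtain ⟨K', hK', hK'θ⟩ := hc.2 _ d hlt
  refine hc.1 ⟨(K'.comap π).map N.subtype, ⟨?_, ?_, ?_, ?_⟩, fun a ha ha1 x hx => ?_⟩
  · haveI := hK'.1
    haveI := hX.1
    haveI hXs : Group.IsSolvable (X.subgroupOf N) :=
      Group.isSolvable_of_isSolvable_injective (f := (Subgroup.subgroupOfEquivOfLe hXN).toMonoidHom)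
        (Subgroup.subgroupOfEquivOfLe hXN).injective
    haveI : Group.IsSolvable (K'.comap π) := by
      refine Group.isSolvable_of_ker_le_range (Subgroup.inclusion
        (show X.subgroupOf N ≤ K'.comap π from fun x hx => by
          rw [Subgroup.mem_comap, show π x = 1 from (QuotientGroup.eq_one_iff x).2 hx]; exact one_mem _))
        (π.subgroupComap K') ?_
      intro x hx
      refine ⟨⟨x.1, (QuotientGroup.eq_one_iff _).1 (congrArg Subtype.val hx)⟩, rfl⟩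
    exact Solv.isSolvable_map _ inferInstance
  · rw [Subgroup.card_map_of_injective N.subtype_injective]
    intro hd
    have h1 : Nat.card (K'.comap π) = Nat.card K' * Nat.card (X.subgroupOf N) := by
      rw [← Subgroup.card_mul_index ((X.subgroupOf N).subgroupOf (K'.comap π)), mul_comm]
      congr 1
      · have : (X.subgroupOf N).subgroupOf (K'.comap π) = (π.subgroupComap K').ker := by
          ext x
          exact ⟨fun hx => Subtype.ext ((QuotientGroup.eq_one_iff _).2 hx),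
            fun hx => (QuotientGroup.eq_one_iff (x : N)).1 (congrArg Subtype.val hx)⟩
        rw [this, Subgroup.index_ker, MonoidHom.range_eq_top.2
          (MonoidHom.subgroupComap_surjective_of_surjective π K' (QuotientGroup.mk'_surjective _)),
          Subgroup.card_top]
      · refine Nat.card_congr (Subgroup.subgroupOfEquivOfLe ?_).toEquiv
        intro x hx
        rw [Subgroup.mem_comap, show π x = 1 from (QuotientGroup.eq_one_iff x).2 hx]; exact one_mem _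
    rw [h1, Nat.card_congr (Subgroup.subgroupOfEquivOfLe hXN).toEquiv] at hd
    exact (hp.out.dvd_mul.1 hd).elim hK'.2.1 hX.2.1
  · rintro b hb _ ⟨u, hu, rfl⟩
    refine ⟨⟨b, hAN hb⟩ * u * ⟨b, hAN hb⟩⁻¹, ?_, by simp⟩
    simp only [SetLike.mem_coe, Subgroup.mem_comap, map_mul, map_inv] at hu ⊢
    exact hK'.2.2.1 _ ⟨⟨b, hAN hb⟩, hb, rfl⟩ _ hu
  · intro a ha ha1 x hx
    obtain ⟨⟨u, hu, rfl⟩, hxa⟩ := Subgroup.mem_inf.1 hx
    have hb1 : π ⟨a, hAN ha⟩ ≠ 1 := fun h => ha1 (congrArg Subtype.val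
      (hinj ⟨a, hAN ha⟩ 1 ha (one_mem _) (h.trans (map_one π).symm)))
    have h1 := hK'.2.2.2 (π ⟨a, hAN ha⟩) ⟨⟨a, hAN ha⟩, ha, rfl⟩ hb1 (Subgroup.mem_inf.2 ⟨hu, by
      rw [Subgroup.mem_centralizer_singleton_iff, ← map_mul, ← map_mul]
      exact congrArg π (Subtype.ext (Subgroup.mem_centralizer_singleton_iff.1 hxa))⟩)
    rw [show d.θ = θ' from rfl, hθ' _ ha] at h1
    obtain ⟨v, hv, hvu⟩ := h1
    have hX' : (v : G)⁻¹ * (u : G) ∈ X ⊓ Subgroup.centralizer {a} := Subgroup.mem_inf.2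
      ⟨(hker v u).1 hvu, mul_mem (inv_mem (c.theta_cent ha ha1 hv)) hxa⟩
    have := mul_mem (show (v : G) ∈ c.θ a from hv) (c.inf_cent_le hX ha ha1 hX')
    rwa [mul_inv_cancel_left] at this
  · have hxN : x ∈ N := (hall a ha ha1).trans hN.ge hx
    refine ⟨⟨x, hxN⟩, hK'θ (π ⟨a, hAN ha⟩) ⟨⟨a, hAN ha⟩, ha, rfl⟩ ?_ ?_, rfl⟩
    · exact fun h => ha1 (congrArg Subtype.val (hinj ⟨a, hAN ha⟩ 1 ha (one_mem _) (h.trans (map_one π).symm)))
    · rw [show d.θ = θ' from rfl, hθ' _ ha]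
      exact ⟨⟨x, hxN⟩, hx, rfl⟩

/-- The greatest member normalising a non-trivial member. -/
theorem exists_gr (hc : Crit c) {X : Subgroup G} (hX : c.fam X) (hne : X ≠ ⊥) :
    ∃ K, c.fam K ∧ K ≤ Subgroup.normalizer (X : Set G) ∧
      ∀ U, c.fam U → U ≤ Subgroup.normalizer (X : Set G) → U ≤ K := by
  obtain ⟨H, hH⟩ : ∃ H, H = Subgroup.normalizer (X : Set G) := ⟨_, rfl⟩
  rw [← hH]
  have hAH : c.A ≤ Subgroup.normalizer (H : Set G) := (hH ▸ c.nrmA hX).trans Subgroup.le_normalizer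
  obtain ⟨K, hK, hKθ⟩ : (c.restr H hAH).Full := by
    refine hc.2 G _ (c.n_lt _ rfl (fun a _ _ => inf_le_left) ?_)
    by_contra hno
    push Not at hno
    exact c.full_of_normalized hc hX hne fun a ha ha1 => hH ▸ (hno a ha ha1).ge.trans inf_le_right
  refine ⟨K, ⟨hK.1, hK.2.1, hK.2.2.1, fun a ha ha1 => (hK.2.2.2 a ha ha1).trans inf_le_left⟩, ?_,
    fun U hU hUH => ?_⟩
  · exact (c.restr H hAH).le_of_theta hK fun a ha ha1 => inf_le_right.trans inf_le_right
  · exact c.le_of_theta hU fun a ha ha1 => (le_inf inf_le_right (inf_le_left.trans hUH)).trans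
      (hKθ a ha ha1)

/-- Splitting of the order for a set of primes. -/
theorem sig_split {σ : ℕ → Prop} (hσ : (∃ x, x.Prime ∧ σ = (· = x)) ∨ ∃ t, t.Prime ∧ σ = (· ≠ t))
    (K : Subgroup G) : ∃ m n, Nat.card K = m * n ∧ m.Coprime n ∧
      ∀ U : Subgroup G, Nat.card U ∣ Nat.card K → (Sig σ U ↔ (Nat.card U).Coprime n) := by
  have hK0 : Nat.card K ≠ 0 := Nat.card_pos.ne'
  rcases hσ with ⟨x, hx, rfl⟩ | ⟨t, ht, rfl⟩
  · refine ⟨ordProj[x] (Nat.card K), ordCompl[x] (Nat.card K),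
      (Nat.ordProj_mul_ordCompl_eq_self _ x).symm, (Nat.coprime_ordCompl hx hK0).pow_left _, fun U hU => ?_⟩
    refine ⟨fun h => ?_, fun h r hr hd => ?_⟩
    · haveI := Fact.mk hx
      obtain ⟨k, hk⟩ := IsPGroup.iff_card.1 ((sig_eq_iff hx).1 h)
      rw [hk]; exact (Nat.coprime_ordCompl hx hK0).pow_left k
    · by_contra hne
      have hrn : ¬ r ∣ ordCompl[x] (Nat.card K) := fun hd' =>
        hr.one_lt.ne' (Nat.eq_one_of_dvd_coprimes h hd hd')
      have hcop : r.Coprime (ordCompl[x] (Nat.card K)) := (Nat.Prime.coprime_iff_not_dvd hr).2 hrn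
      have h1 : r ∣ ordProj[x] (Nat.card K) := hcop.dvd_of_dvd_mul_right
        ((Nat.ordProj_mul_ordCompl_eq_self (Nat.card K) x).symm ▸ hd.trans hU)
      exact hne ((Nat.prime_dvd_prime_iff_eq hr hx).1 (hr.dvd_of_dvd_pow h1))
  · refine ⟨ordCompl[t] (Nat.card K), ordProj[t] (Nat.card K),
      (by rw [mul_comm]; exact (Nat.ordProj_mul_ordCompl_eq_self _ t).symm),
      ((Nat.coprime_ordCompl ht hK0).pow_left _).symm, fun U hU => ?_⟩
    rw [sig_ne_iff ht]
    refine ⟨fun h => ((Nat.Prime.coprime_iff_not_dvd ht).2 h).symm.pow_right _, fun h hd => ?_⟩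
    refine ht.one_lt.ne' (Nat.eq_one_of_dvd_coprimes h hd (dvd_pow_self t ?_))
    exact (ht.factorization_pos_of_dvd hK0 (hd.trans hU)).ne'

/-- The value of the `σ`-restricted functor. -/
def sigθ (σ : ℕ → Prop) (a : G) : Subgroup G :=
  sSup {U | U ≤ c.θ a ∧ c.A ≤ Subgroup.normalizer (U : Set G) ∧
    c.C ≤ Subgroup.normalizer (U : Set G) ∧ Sig σ U}

theorem sigθ_le (σ : ℕ → Prop) (a : G) : c.sigθ σ a ≤ c.θ a := sSup_le fun _ h => h.1

theorem le_sigθ {σ : ℕ → Prop} {a : G} {U : Subgroup G} (h1 : U ≤ c.θ a)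
    (h2 : c.A ≤ Subgroup.normalizer (U : Set G)) (h3 : c.C ≤ Subgroup.normalizer (U : Set G))
    (h4 : Sig σ U) : U ≤ c.sigθ σ a := le_sSup ⟨h1, h2, h3, h4⟩

theorem sigθ_normalizer {σ : ℕ → Prop} {a : G} {g : G}
    (hg : g ∈ c.A ∨ g ∈ c.C) : g ∈ Subgroup.normalizer (c.sigθ σ a : Set G) := by
  rw [sigθ, sSup_eq_iSup]
  refine Solv.normalizer_biSup_le _ _ fun U hU => ?_
  rcases hg with hg | hg
  exacts [hU.2.1 hg, hU.2.2.1 hg]

theorem sigθ_sig {σ : ℕ → Prop} (hσ : (∃ x, x.Prime ∧ σ = (· = x)) ∨ ∃ t, t.Prime ∧ σ = (· ≠ t))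
    {a : G} (ha : a ∈ c.A) (ha1 : a ≠ 1) : Sig σ (c.sigθ σ a) := by
  obtain ⟨m, n, hmn, hco, hiff⟩ := sig_split hσ (c.θ a)
  have hf := c.theta_fam ha ha1
  obtain ⟨H, hH, hHc, hHA⟩ := Solv.exists_invariant_hall (c.nrmA hf) (c.coprimeA hf) (c.sol hf) hmn hco
  have hle : c.sigθ σ a ≤ H := sSup_le fun U hU => by
    obtain ⟨hU1, hU2, hU3, hU4⟩ := hU
    obtain ⟨H', hH', hH'c, hH'A, hUH'⟩ := Solv.invariant_hall_contain (c.nrmA hf) (c.coprimeA hf) (c.sol hf)
      hmn hco U hU1 hU2 ((hiff U (Subgroup.card_dvd_of_le hU1)).1 hU4)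
    obtain ⟨g, hg, he⟩ := Solv.invariant_hall_conj (c.nrmA hf) (c.coprimeA hf) (c.sol hf) hmn hco
      hH' hH'c hH'A hH hHc hHA
    rw [← he, Solv.conj_smul_eq_map]
    exact (cj_eq_self (hU3 (c.inf_centA_le hf hg))).ge.trans (cj_mono hUH' g)
  exact Sig.mono hle ((hiff H (Subgroup.card_dvd_of_le hH)).2 (hHc ▸ hco))

/-- The greatest invariant member for a set of primes. -/
theorem exists_great (hc : Crit c) {σ : ℕ → Prop}
    (hσ : (∃ x, x.Prime ∧ σ = (· = x)) ∨ ∃ t, t.Prime ∧ σ = (· ≠ t))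
    (hmiss : ∃ a ∈ c.A, a ≠ 1 ∧ ¬ Sig σ (c.θ a)) :
    ∃ K, c.Inv K ∧ Sig σ K ∧ ∀ U, c.Inv U → Sig σ U → U ≤ K := by
  let d : Ctx G p :=
  { A := c.A
    θ := c.sigθ σ
    hA := c.hA
    h3 := c.h3
    hθ := ⟨⟨fun a ha ha1 => (c.sigθ_le σ a).trans (c.theta_cent ha ha1),
      fun a ha ha1 h => c.hθ.1.2.1 a ha ha1 (h.trans (Subgroup.card_dvd_of_le (c.sigθ_le σ a))),
      fun a _ _ b hb x hx => nrm (c.sigθ_normalizer (Or.inl hb)) hx,
      fun a ha ha1 b hb hb1 => c.le_sigθ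
        ((inf_le_inf_right _ (c.sigθ_le σ a)).trans (c.hθ.1.2.2.2 a ha ha1 b hb hb1))
        (fun g hg => mem_normalizer_of_cj_le (by
          rw [cj_inf, cj_eq_self (c.sigθ_normalizer (Or.inl hg)), cj_eq_self_of_mem
            (show g ∈ Subgroup.centralizer ({b} : Set G) from
              Subgroup.mem_centralizer_singleton_iff.2 (c.comm hg hb))]))
        (fun g hg => mem_normalizer_of_cj_le (by
          rw [cj_inf, cj_eq_self (c.sigθ_normalizer (Or.inr hg)), cj_eq_self_of_mem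
            (c.theta_cent hb hb1 (c.C_le_theta hb hb1 hg))]))
        (Sig.mono inf_le_left (c.sigθ_sig hσ ha ha1))⟩,
      fun a ha ha1 => Solv.isSolvable_of_le (c.sigθ_le σ a) (c.hθ.2 a ha ha1)⟩ }
  obtain ⟨K, hK, hKθ⟩ : d.Full := by
    refine hc.2 G d (c.n_lt d rfl (fun a _ _ => c.sigθ_le σ a) ?_)
    obtain ⟨a, ha, ha1, h⟩ := hmiss
    exact ⟨a, ha, ha1, fun he => h (he ▸ c.sigθ_sig hσ ha ha1)⟩
  have hKc : c.fam K :=
    ⟨hK.1, hK.2.1, hK.2.2.1, fun a ha ha1 => (hK.2.2.2 a ha ha1).trans (c.sigθ_le σ a)⟩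
  have hsup : K = ⨆ a ∈ ((c.A : Set G) \ {1}), c.sigθ σ a := by
    refine le_antisymm (d.le_of_theta hK fun a ha ha1 => ?_) (iSup₂_le fun a ha => hKθ a ha.1 ha.2)
    exact inf_le_right.trans (le_iSup₂_of_le a ⟨ha, ha1⟩ le_rfl)
  refine ⟨K, ⟨hKc, fun g hg => ?_⟩, fun r hr hd => ?_, fun U hU hUs => ?_⟩
  · rw [hsup]
    exact Solv.normalizer_biSup_le _ _ fun a _ => c.sigθ_normalizer (Or.inr hg)
  · by_contra hne
    haveI := Fact.mk hr
    obtain ⟨R, hR, hRA⟩ := Solv.exists_invariant_sylow (d.nrmA hK) (d.coprimeA hK) (Or.inr (d.sol hK)) r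
    have hRb : R ≤ (⊥ : Subgroup G) := d.le_of_theta (d.fam_le hK hR.1 hRA) fun a ha ha1 => by
      rw [le_bot_iff, ← Subgroup.card_eq_one]
      by_contra h1
      obtain ⟨k, hk, hdk⟩ := Nat.exists_prime_and_dvd h1
      obtain rfl : k = r := (sig_eq_iff hr).2 (hR.isPGroup.to_le inf_le_left) k hk hdk
      exact hne (Sig.mono inf_le_right (c.sigθ_sig hσ ha ha1) k hk hdk)
    have h1 : Nat.card R = 1 := Subgroup.card_eq_one.2 (le_bot_iff.1 hRb)
    rw [hR.2, Nat.pow_eq_one] at h1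
    rcases h1 with h1 | h1
    · exact hr.one_lt.ne' h1
    · exact (hr.factorization_pos_of_dvd Nat.card_pos.ne' hd).ne' h1
  · refine c.le_of_theta hU.1 fun a ha ha1 => (c.le_sigθ inf_le_right ?_ ?_ ?_).trans (hKθ a ha ha1)
    · exact fun g hg => mem_normalizer_of_cj_le (by
        rw [cj_inf, cj_eq_self (c.nrm_a hU.1 hg), cj_eq_self (c.nrm_a (c.theta_fam ha ha1) hg)])
    · exact fun g hg => mem_normalizer_of_cj_le (by
        rw [cj_inf, cj_eq_self (hU.2 hg), cj_eq_self_of_mem (c.C_le_theta ha ha1 hg)])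
    · exact Sig.mono inf_le_left hUs

end Ctx

end Cfsg.Agent.SSF
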