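import Cfsg.Agent.Lib.SSF.Layer

/-!
Members normalising the Thompson subgroup of a suitable subgroup of the centraliser of the reduced
module lie in the colour.
-/

set_option autoImplicit false
set_option linter.style.haveILetI false

open Cfsg Cfsg.Agent Cfsg.Agent.Fusion
open scoped commutatorElement Pointwise

namespace Cfsg.Agent.SSF

universe u

variable {G : Type u} [Group G] [Finite G] {p q : ℕ} [hp : Fact p.Prime] [hq : Fact q.Prime]

omit hp hq in
/-- In a group that is a `q`-group above a normal subgroup, proper subgroups grow in normalisers. -/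
theorem exists_norm_not_mem (r : ℕ) [Fact r.Prime] {D N₀ N₁ : Subgroup G} (hD : D ≤ N₀) (h₀ : N₀ < N₁)
    (hn : N₁ ≤ Subgroup.normalizer (D : Set G)) (hq' : ∀ g ∈ N₁, ∃ k : ℕ, g ^ r ^ k ∈ D) :
    ∃ y ∈ N₁, y ∈ Subgroup.normalizer (N₀ : Set G) ∧ y ∉ N₀ := by
  haveI : (D.subgroupOf N₁).Normal :=
    (Subgroup.normal_subgroupOf_iff_le_normalizer (hD.trans h₀.le)).2 hn
  let π := QuotientGroup.mk' (D.subgroupOf N₁)
  have hQ : IsPGroup r (N₁ ⧸ D.subgroupOf N₁) := fun y => by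
    obtain ⟨g, rfl⟩ := QuotientGroup.mk_surjective y
    obtain ⟨k, hk⟩ := hq' g g.2
    exact ⟨k, (QuotientGroup.eq_one_iff _).2 (by rwa [Subgroup.mem_subgroupOf, Subgroup.coe_pow])⟩
  haveI := hQ.isNilpotent
  obtain ⟨S, hS⟩ : ∃ S, S = (N₀.subgroupOf N₁).map π := ⟨_, rfl⟩
  have hmem : ∀ g : N₁, π g ∈ S ↔ (g : G) ∈ N₀ := fun g => by
    refine ⟨fun h => ?_, fun h => hS ▸ ⟨g, h, rfl⟩⟩
    rw [hS] at h
    obtain ⟨g', hg', he⟩ := h
    have h1 : (g' : G)⁻¹ * g ∈ D := Subgroup.mem_subgroupOf.1 (QuotientGroup.eq.1 he)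
    have := mul_mem (show (g' : G) ∈ N₀ from hg') (hD h1)
    rwa [mul_inv_cancel_left] at this
  have hlt : S < ⊤ := lt_top_iff_ne_top.2 fun h => h₀.not_ge fun g hg =>
    (hmem ⟨g, hg⟩).1 (h ▸ Subgroup.mem_top _)
  obtain ⟨y, hy, hyS⟩ := SetLike.exists_of_lt (Group.normalizerCondition_of_isNilpotent S hlt)
  obtain ⟨g, rfl⟩ := QuotientGroup.mk'_surjective _ y
  refine ⟨g, g.2, mem_normalizer_of_cj_le ?_, fun h => hyS ((hmem g).2 h)⟩
  rintro _ ⟨t, ht, rfl⟩
  refine (hmem (g * ⟨t, h₀.le ht⟩ * g⁻¹)).1 ?_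
  rw [map_mul, map_mul, map_inv]
  exact (Subgroup.mem_normalizer_iff.1 hy _).1 ((hmem ⟨t, h₀.le ht⟩).2 ht)

namespace Single

variable {c : Ctx G p} {H : Subgroup G} (s : Single c q H)

include s

/-- The reducedness of the module for subgroups that are only invariant modulo the centraliser. -/
theorem red_sup {N : Subgroup G} (hN : N ≤ H) (hn : H ≤ Subgroup.normalizer ((N ⊔ redC q H : Subgroup G) : Set G))
    (hq' : ∀ g ∈ N, ∃ k : ℕ, g ^ q ^ k ∈ Subgroup.centralizer (redU q H : Set G)) :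
    N ≤ redC q H := by
  obtain ⟨D, hD⟩ : ∃ D, D = redC q H := ⟨_, rfl⟩
  rw [← hD] at hn ⊢
  have hDn : N ≤ Subgroup.normalizer (D : Set G) := hD ▸ hN.trans s.H_normalizer_Cu
  refine le_inf hN ?_ |>.trans hD.ge
  refine (le_sup_left : N ≤ N ⊔ D).trans (s.U_red (N ⊔ D) (sup_le hN (hD ▸ s.Cu_le)) hn
    (hD ▸ le_sup_right) fun g hg => ?_)
  have hg' : g ∈ ((D ⊔ N : Subgroup G) : Set G) := sup_comm N D ▸ hg
  rw [Subgroup.coe_mul_of_right_le_normalizer_left D N hDn] at hg'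
  obtain ⟨d, hd, n, hn', rfl⟩ := hg'
  obtain ⟨k, hk⟩ := hq' n hn'
  refine ⟨k, ?_⟩
  have key : ∀ m : ℕ, (d * n) ^ m * (n ^ m)⁻¹ ∈ D := by
    intro m
    induction m with
    | zero => simp
    | succ m ih =>
      have e : (d * n) ^ (m + 1) * (n ^ (m + 1))⁻¹ = d * (n * ((d * n) ^ m * (n ^ m)⁻¹) * n⁻¹) := by
        rw [pow_succ', pow_succ']; group
      rw [e]
      exact mul_mem hd (nrm (hDn hn') ih)
  have h1 := hD ▸ key (q ^ k)
  have h2 := mul_mem (Subgroup.mem_inf.1 h1).2 hk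
  rwa [inv_mul_cancel_right] at h2

/-- An element of the centraliser centralising a Sylow subgroup of it and of period `q` lies in the module. -/
theorem mem_U {R : Subgroup G} (hR : Solv.IsSylIn q R (redC q H)) {x : G} (hx : x ∈ redC q H)
    (hxR : x ∈ Subgroup.centralizer (R : Set G)) (hxq : x ^ q = 1) : x ∈ redU q H := by
  have hxQ : x ∈ Subgroup.centralizer (Ox q H : Set G) := Subgroup.centralizer_le (s.Q_le_sylow hR) hxR
  exact s.fixed_le_U hR (Subgroup.mem_inf.2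
    ⟨mem_omegaZ (s.cent_Q_le (Subgroup.mem_inf.2 ⟨s.Cu_le hx, hxQ⟩)) hxQ hxq, hxR⟩)

theorem climb {R : Subgroup G} (hR : Solv.IsSylIn q R (redC q H)) :
    ∀ (Γ : Subgroup G), c.A ≤ Subgroup.normalizer (Γ : Set G) → R ≤ Γ → Γ ≤ redC q H →
      H ≤ redC q H ⊔ (H ⊓ Subgroup.normalizer (Γ : Set G)) → c.gr (jElem q Γ) ≤ H := by
  suffices key : ∀ (n : ℕ) (Γ : Subgroup G), Nat.card (redC q H) - Nat.card Γ = n →
      c.A ≤ Subgroup.normalizer (Γ : Set G) → R ≤ Γ → Γ ≤ redC q H →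
        H ≤ redC q H ⊔ (H ⊓ Subgroup.normalizer (Γ : Set G)) → c.gr (jElem q Γ) ≤ H from
    fun Γ => key _ Γ rfl
  intro n
  induction n using Nat.strong_induction_on with
  | _ n ih =>
  intro Γ hn hAΓ hRΓ hΓCu hH
  obtain ⟨J, hJ⟩ : ∃ J, J = jElem q Γ := ⟨_, rfl⟩
  rw [← hJ]
  have hJΓ : J ≤ Γ := hJ ▸ jElem_le Γ
  obtain ⟨E₀, hE₀⟩ := (replFamily_elementary q).maxIn_nonempty Γ
  have hUE : ∀ E ∈ maxIn (fun A : Subgroup G => IsElementaryAbelian q A) Γ, redU q H ≤ E := by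
    intro E hE x hx
    refine mem_of_maxIn hE (hRΓ (s.Q_le_sylow hR (s.U_le_Q hx)))
      (isElementaryAbelian_closure_insert hE.2.1 (fun e he => ?_) (s.U_elem.2 x hx))
    exact Subgroup.mem_centralizer_iff.1 (Subgroup.mem_inf.1 (hΓCu (hE.1 he))).2 x hx
  have hUJ : redU q H ≤ J := hJ ▸ (hUE E₀ hE₀).trans (le_sSup hE₀)
  have hUJc : redU q H ≤ Subgroup.centralizer (J : Set G) :=
    Subgroup.le_centralizer_iff.1 ((hJΓ.trans hΓCu).trans inf_le_right)
  have hAJ : c.A ≤ Subgroup.normalizer (J : Set G) := hJ ▸ hAΓ.trans (normalizer_le_jElem Γ)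
  have hJfam : c.fam J := c.fam_le s.Cu_fam (hJΓ.trans hΓCu) hAJ
  obtain ⟨hG₀, hG₀n, hG₀gr, hAG₀⟩ := Ctx.gr_spec s.crit hJfam (fun h => s.U_ne_bot (le_bot_iff.1 (h ▸ hUJ)))
  obtain ⟨G₀, hG₀def⟩ : ∃ G₀, G₀ = c.gr J := ⟨_, rfl⟩
  rw [← hG₀def] at hG₀ hG₀n hG₀gr hAG₀ ⊢
  have hNΓG₀ : H ⊓ Subgroup.normalizer (Γ : Set G) ≤ G₀ := by
    refine hG₀gr _ (c.fam_le s.colour.1 inf_le_left fun a ha => mem_normalizer_of_cj_le (by
      rw [cj_inf, cj_normalizer, cj_eq_self (c.nrm_a s.colour.1 ha), cj_eq_self (hAΓ ha)])) ?_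
    exact inf_le_right.trans (hJ ▸ normalizer_le_jElem Γ)
  have hΓG₀ : Γ ≤ G₀ := (le_inf (hΓCu.trans s.Cu_le) Subgroup.le_normalizer).trans hNΓG₀
  obtain ⟨W, hW⟩ : ∃ W, W = ⨆ g ∈ (G₀ : Set G), cj (redU q H) g := ⟨_, rfl⟩
  have hUW : redU q H ≤ W := hW ▸ le_iSup₂_of_le (f := fun g (_ : g ∈ (G₀ : Set G)) => cj (redU q H) g) 1
    (one_mem _) (cj_one _).ge
  have hWz : W ≤ J ⊓ Subgroup.centralizer (J : Set G) := hW ▸ iSup₂_le fun g hg => le_inf
    ((cj_mono hUJ g).trans (cj_eq_self (hG₀n hg)).le) ((cj_mono hUJc g).trans (by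
      rw [cj_centralizer, cj_eq_self (hG₀n hg)]))
  have hWe : IsElementaryAbelian q W := by
    have hcl : W ≤ Subgroup.closure {x | x ∈ J ⊓ Subgroup.centralizer (J : Set G) ∧ x ^ q = 1} :=
      hW ▸ iSup₂_le fun g hg x hx => Subgroup.subset_closure
        ⟨hWz (hW ▸ Subgroup.mem_iSup_of_mem g (Subgroup.mem_iSup_of_mem hg hx)), by
          obtain ⟨u, hu, rfl⟩ := hx
          rw [← map_pow, s.U_elem.2 u hu, map_one]⟩
    exact Local.elemAb_mono (Local.elemAb_closure _ (fun a ha b hb => Subgroup.mem_centralizer_iff.1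
      (Subgroup.mem_inf.1 hb.1).2 a (Subgroup.mem_inf.1 ha.1).1) fun a ha => ha.2) hcl
  have hG₀W : G₀ ≤ Subgroup.normalizer (W : Set G) := fun g hg => mem_normalizer_of_cj_le (by
    rw [hW, cj, Subgroup.map_iSup]
    refine iSup_le fun x => ?_
    rw [Subgroup.map_iSup]
    exact iSup_le fun hx => le_iSup₂_of_le (g * x) (mul_mem hg hx) (cj_cj _ x g).le)
  have hAW : c.A ≤ Subgroup.normalizer (W : Set G) := fun a ha => mem_normalizer_of_cj_le (by
    rw [hW, cj, Subgroup.map_iSup]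
    refine iSup_le fun x => ?_
    rw [Subgroup.map_iSup]
    refine iSup_le fun hx => le_iSup₂_of_le (a * x * a⁻¹) (nrm (hAG₀ ha) hx) ?_
    show cj (cj (redU q H) x) a ≤ _
    have e1 : cj (redU q H) (a * x) = cj (redU q H) (a * x * a⁻¹) := by
      rw [← cj_mul_of_norm (s.A_normalizer_U ha) (a * x * a⁻¹), inv_mul_cancel_right]
    rw [cj_cj, e1])
  have hWCu : W ≤ redC q H := (hWz.trans inf_le_left).trans (hJΓ.trans hΓCu)
  have hWne : W ≠ ⊥ := fun h => s.U_ne_bot (le_bot_iff.1 (h ▸ hUW))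
  obtain ⟨hM, hMW, hMgr, hAM⟩ := Ctx.gr_spec s.crit (c.fam_le s.Cu_fam hWCu hAW) hWne
  obtain ⟨M, hMdef⟩ : ∃ M, M = c.gr W := ⟨_, rfl⟩
  rw [← hMdef] at hM hMW hMgr hAM
  have hG₀M : G₀ ≤ M := hMgr G₀ hG₀ hG₀W
  have hRM : R ≤ M := (hRΓ.trans hΓG₀).trans hG₀M
  have hMNU : M ⊓ Subgroup.normalizer (redU q H : Set G) ≤ H :=
    s.le_H_of_norm_U (c.fam_le hM inf_le_left fun a ha => mem_normalizer_of_cj_le (by
      rw [cj_inf, cj_normalizer, cj_eq_self (hAM ha), cj_eq_self (s.A_normalizer_U ha)])) inf_le_right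
  have hCW : M ⊓ Subgroup.centralizer (W : Set G) ≤ redC q H := by
    have h1 : M ⊓ Subgroup.centralizer (W : Set G) ≤ Subgroup.centralizer (redU q H : Set G) :=
      inf_le_right.trans (Subgroup.centralizer_le hUW)
    exact le_inf ((le_inf inf_le_left (h1.trans (Subgroup.centralizer_le_normalizer _))).trans hMNU) h1
  have hred : Red q M W := by
    intro N hNM hMN hDN hq'
    have hNH : N ⊓ H ≤ redC q H := by
      refine s.red_sup inf_le_right (hH.trans (sup_le ?_ fun g hg => mem_normalizer_of_cj_le ?_))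
        fun g hg => (hq' g (Subgroup.mem_inf.1 hg).1).imp fun k hk => Subgroup.centralizer_le hUW hk
      · exact le_sup_right.trans Subgroup.le_normalizer
      · rw [cj_sup, cj_inf, cj_eq_self (hMN (hG₀M (hNΓG₀ hg))), cj_eq_self_of_mem (Subgroup.mem_inf.1 hg).1,
          cj_eq_self (s.H_normalizer_Cu (Subgroup.mem_inf.1 hg).1)]
    have hNle : N ≤ H := by
      by_contra hcon
      obtain ⟨N₀, hN₀⟩ : ∃ N₀, N₀ = (N ⊓ H) ⊔ R := ⟨_, rfl⟩
      obtain ⟨N₁, hN₁⟩ : ∃ N₁, N₁ = N ⊔ R := ⟨_, rfl⟩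
      obtain ⟨D, hD⟩ : ∃ D, D = M ⊓ Subgroup.centralizer (W : Set G) := ⟨_, rfl⟩
      have hN₀Cu : N₀ ≤ redC q H := hN₀ ▸ sup_le hNH hR.1
      have hlt : N₀ < N₁ := lt_of_le_of_ne (hN₀ ▸ hN₁ ▸ sup_le_sup_right inf_le_left R) fun he =>
        hcon ((le_sup_left.trans hN₁.ge).trans (he.ge.trans (hN₀Cu.trans s.Cu_le)))
      have hRN : R ≤ Subgroup.normalizer (N : Set G) := hRM.trans hMN
      have hDM : M ≤ Subgroup.normalizer (D : Set G) := fun g hg => mem_normalizer_of_cj_le (by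
        rw [hD, cj_inf, cj_centralizer, cj_eq_self_of_mem hg, cj_eq_self (hMW hg)])
      obtain ⟨y, hy, hyn, hy₀⟩ := exists_norm_not_mem q (D := D)
        (hN₀ ▸ hD ▸ le_sup_of_le_left (le_inf hDN (hCW.trans s.Cu_le))) hlt
        (hN₁ ▸ (sup_le hNM hRM).trans hDM) (by
          intro g hg
          rw [hN₁] at hg
          have hg' : g ∈ ((N ⊔ R : Subgroup G) : Set G) := hg
          rw [Subgroup.coe_mul_of_right_le_normalizer_left N R hRN] at hg'
          obtain ⟨a, ha, r, hr, rfl⟩ := hg'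
          obtain ⟨i, hi⟩ := hR.isPGroup ⟨r, hr⟩
          have h1 : (a * r) ^ q ^ i ∈ N := by
            have key : ∀ m : ℕ, (a * r) ^ m * (r ^ m)⁻¹ ∈ N := by
              intro m
              induction m with
              | zero => simp
              | succ m ih =>
                have e : (a * r) ^ (m + 1) * (r ^ (m + 1))⁻¹ =
                    a * (r * ((a * r) ^ m * (r ^ m)⁻¹) * r⁻¹) := by
                  rw [pow_succ', pow_succ']; group
                rw [e]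
                exact mul_mem ha (nrm (hRN hr) ih)
            have := key (q ^ i)
            rwa [show r ^ q ^ i = 1 from congrArg Subtype.val hi, inv_one, mul_one] at this
          obtain ⟨k, hk⟩ := hq' _ h1
          refine ⟨i + k, hD ▸ Subgroup.mem_inf.2 ⟨pow_mem (mul_mem (hNM ha) (hRM hr)) _, ?_⟩⟩
          rwa [pow_add, pow_mul])
      have hyM : y ∈ M := ((hN₁ ▸ sup_le hNM hRM : N₁ ≤ M)) hy
      have hyU : y ∈ Subgroup.normalizer (redU q H : Set G) := mem_normalizer_of_cj_le fun x hx => by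
        have hxW : x ∈ W := ((cj_mono hUW y).trans (cj_eq_self (hMW hyM)).le) hx
        have hxR : x ∈ Subgroup.centralizer (R : Set G) := by
          have h1 : cj (redU q H) y ≤ Subgroup.centralizer (N₀ : Set G) := by
            rw [← cj_eq_self hyn, ← cj_centralizer]
            exact cj_mono (Subgroup.le_centralizer_iff.1 (hN₀Cu.trans inf_le_right)) y
          exact Subgroup.centralizer_le (hN₀ ▸ le_sup_right : R ≤ N₀) (h1 hx)
        exact s.mem_U hR (hWCu hxW) hxR (hWe.2 x hxW)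
      refine hy₀ ?_
      have hyH : y ∈ H := hMNU (Subgroup.mem_inf.2 ⟨hyM, hyU⟩)
      have hy' : y ∈ ((N ⊔ R : Subgroup G) : Set G) := hN₁ ▸ hy
      rw [Subgroup.coe_mul_of_right_le_normalizer_left N R hRN] at hy'
      obtain ⟨a, ha, r, hr, rfl⟩ := hy'
      rw [hN₀]
      refine mul_mem (Subgroup.mem_sup_left (Subgroup.mem_inf.2 ⟨ha, ?_⟩)) (Subgroup.mem_sup_right hr)
      have := mul_mem hyH (inv_mem (s.Cu_le (hR.1 hr)))
      rwa [mul_inv_cancel_right] at this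
    have hNU : N ≤ Subgroup.centralizer (redU q H : Set G) :=
      ((le_inf le_rfl hNle).trans hNH).trans inf_le_right
    refine Subgroup.le_centralizer_iff.1 ?_
    rw [hW]
    refine iSup₂_le fun g hg => Subgroup.le_centralizer_iff.1 ?_
    rw [← cj_centralizer]
    exact (cj_eq_self (hMN (hG₀M hg))).ge.trans (cj_mono hNU g)
  have d : Layer c q H R M W := ⟨s, hR, hWe, hWne, hWCu, hAW, hM, hMW, hMgr, hRM, hred⟩
  obtain ⟨Γ', hΓ'⟩ : ∃ Γ', Γ' = redC q H ⊓ M := ⟨_, rfl⟩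
  have hmax : ∀ E ∈ maxIn (fun A : Subgroup G => IsElementaryAbelian q A) Γ',
      E ≤ M ⊓ Subgroup.centralizer (W : Set G) := by
    intro E hE
    refine le_inf ((hE.1.trans hΓ'.le).trans inf_le_right) ?_
    rcases d.good (hE.1.trans hΓ'.le) (fun b hb => by rw [hE.2.1.2 b hb]; exact one_mem _)
        (fun b hb b' hb' => by
          rw [commutatorElement_eq_one_iff_mul_comm.2 (Local.elemAb_commute hE.2.1 hb hb')]
          exact one_mem _) with h | h
    · exact h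
    exfalso
    obtain ⟨C₀, hC₀⟩ : ∃ C₀, C₀ = E ⊓ Subgroup.centralizer (W : Set G) := ⟨_, rfl⟩
    rw [← hC₀] at h
    have hC₀c : C₀ ≤ Subgroup.centralizer (W : Set G) := hC₀ ▸ inf_le_right
    have h1 : Nat.card W * Nat.card C₀ ≤ Nat.card E * Nat.card ↥(W ⊓ Subgroup.centralizer (E : Set G)) := by
      rw [← Solv.card_sup_mul_card_inf' W C₀ (hC₀c.trans (Subgroup.centralizer_le_normalizer _))]
      refine Nat.mul_le_mul (hE.2.2 _ ?_ (Local.elemAb_sup hWe (Local.elemAb_mono hE.2.1 (hC₀ ▸ inf_le_left))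
        fun a ha b hb => Subgroup.mem_centralizer_iff.1 (hC₀c hb) a ha)) (Subgroup.card_le_of_le ?_)
      · exact sup_le (hΓ' ▸ le_inf hWCu d.W_le_M) ((hC₀ ▸ inf_le_left : C₀ ≤ E).trans hE.1)
      · exact inf_le_inf_left _ ((hC₀ ▸ inf_le_left : C₀ ≤ E).trans fun e he =>
          Subgroup.mem_centralizer_iff.2 fun x hx => Local.elemAb_commute hE.2.1 hx he)
    exact no_gain (q := q) Nat.card_pos h (h1.trans (Nat.mul_le_mul_right _
      (Nat.le_mul_of_pos_left _ hq.out.pos))) Nat.card_pos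
  have hMJ : M ≤ Subgroup.normalizer (jElem q Γ' : Set G) := by
    have heq : jElem q Γ' = jElem q (M ⊓ Subgroup.centralizer (W : Set G)) := by
      rw [jElem, jElem, maxIn_eq_of_le (replFamily_elementary q) (hΓ' ▸ le_inf hCW inf_le_left) hmax]
    rw [heq]
    refine le_trans (fun g hg => mem_normalizer_of_cj_le ?_) (normalizer_le_jElem _)
    rw [cj_inf, cj_centralizer, cj_eq_self_of_mem hg, cj_eq_self (hMW hg)]
  have hΓΓ' : Γ ≤ Γ' := hΓ' ▸ le_inf hΓCu (hΓG₀.trans hG₀M)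
  rcases hΓΓ'.lt_or_eq with hlt | heq
  · have hAΓ' : c.A ≤ Subgroup.normalizer (Γ' : Set G) := fun a ha => mem_normalizer_of_cj_le (by
      rw [hΓ', cj_inf, cj_eq_self (s.A_normalizer_Cu ha), cj_eq_self (hAM ha)])
    refine hG₀M.trans ((c.le_gr hM hMJ).trans (ih _ ?_ Γ' rfl hAΓ' (hRΓ.trans hΓΓ') (hΓ' ▸ inf_le_left) ?_))
    · have h1 := Solv.card_lt_of_lt hlt
      have h2 := Subgroup.card_le_of_le (hΓ' ▸ inf_le_left : Γ' ≤ redC q H)
      omega
    · refine hH.trans (sup_le_sup_left (le_inf inf_le_left fun g hg => mem_normalizer_of_cj_le ?_) _)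
      rw [hΓ', cj_inf, cj_eq_self (s.H_normalizer_Cu (Subgroup.mem_inf.1 hg).1),
        cj_eq_self_of_mem (hG₀M (hNΓG₀ hg))]
  · have hMG₀ : M ≤ G₀ := hG₀gr M hM (by rw [hJ, heq]; exact hMJ)
    have hCuM : redC q H ≤ M := d.red_le fun X hX hn => (hG₀gr X hX (by
      rw [hJ, heq, hΓ']; exact hn)).trans hG₀M
    have hΓeq : Γ = redC q H := heq.trans (hΓ'.trans (inf_eq_left.2 hCuM))
    have hHJ : H ≤ Subgroup.normalizer (J : Set G) :=
      hJ ▸ hΓeq ▸ s.H_normalizer_Cu.trans (normalizer_le_jElem _)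
    exact s.colour.le_of_norm s.crit ⟨hAJ, s.colour.2.1.trans hHJ⟩ (hJΓ.trans (hΓCu.trans s.Cu_le))
      (fun h => s.U_ne_bot (le_bot_iff.1 (h ▸ hUJ))) hHJ hG₀ hG₀n

/-- A member normalising the Thompson subgroup of an invariant Sylow subgroup lies in the colour. -/
theorem le_H_of_norm_J {R : Subgroup G} (hR : Solv.IsSylIn q R (redC q H))
    (hAR : c.A ≤ Subgroup.normalizer (R : Set G)) {X : Subgroup G} (hX : c.fam X)
    (hn : X ≤ Subgroup.normalizer (jElem q R : Set G)) : X ≤ H := by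
  refine (c.le_gr hX hn).trans (s.climb hR R hAR le_rfl hR.1 fun h hh => ?_)
  obtain ⟨k, hk, hke⟩ := (hR.conj (g := h) (s.H_normalizer_Cu hh)).exists_conj hR
  have hkh : k * h ∈ H ⊓ Subgroup.normalizer (R : Set G) := Subgroup.mem_inf.2
    ⟨mul_mem (s.Cu_le hk) hh, Solv.mem_normalizer_of_conj_smul (by rw [← Solv.conj_smul_conj, hke])⟩
  have := mul_mem (Subgroup.mem_sup_left (inv_mem hk) : k⁻¹ ∈ redC q H ⊔ (H ⊓ Subgroup.normalizer (R : Set G)))
    (Subgroup.mem_sup_right hkh)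
  rwa [inv_mul_cancel_left] at this

end Single

end Cfsg.Agent.SSF
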