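import Cfsg.Agent.Lib.SSF.Basic

/-!
Maximal members containing the common part ("colours"), their Fitting primes, and how they meet.
-/

set_option autoImplicit false
set_option linter.style.haveILetI false

open Cfsg Cfsg.Agent Cfsg.Agent.Fusion
open scoped commutatorElement Pointwise

namespace Cfsg.Agent.SSF

universe u

variable {G : Type u} [Group G]

/-- The primes of the Fitting subgroup. -/
def pi (M : Subgroup G) : Set ℕ := {x | x.Prime ∧ Ox x M ≠ ⊥}

/-- The centre of `O_x(M)`. -/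
def Zc (x : ℕ) (M : Subgroup G) : Subgroup G :=
  Ox x M ⊓ Subgroup.centralizer (Ox x M : Set G)

/-- At least two Fitting primes. -/
def Mixed (M : Subgroup G) : Prop := ∃ x ∈ pi M, ∃ u ∈ pi M, x ≠ u

/-- The Fitting subgroup of `M` lies in `N`. -/
def FLe (M N : Subgroup G) : Prop := ∀ x : ℕ, x.Prime → Ox x M ≤ N

theorem Ox_eq_bot {M : Subgroup G} {x : ℕ} (hx : x.Prime) (h : x ∉ pi M) : Ox x M = ⊥ :=
  by_contra fun hne => h ⟨hx, hne⟩

theorem Zc_le_Ox (x : ℕ) (M : Subgroup G) : Zc x M ≤ Ox x M := inf_le_left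

theorem isPGroup_Zc (x : ℕ) (M : Subgroup G) : IsPGroup x (Zc x M) :=
  (isPGroup_Ox x M).to_le inf_le_left

theorem Zc_comm (x : ℕ) (M : Subgroup G) : IsMulCommutative (Zc x M) :=
  ⟨⟨fun a b => Subtype.ext (Subgroup.mem_centralizer_iff.1 (Subgroup.mem_inf.1 b.2).2 a
    (Subgroup.mem_inf.1 a.2).1)⟩⟩

theorem exists_pi_ne {M : Subgroup G} (h : Mixed M) (x : ℕ) : ∃ u ∈ pi M, u ≠ x := by
  obtain ⟨a, ha, b, hb, hab⟩ := h
  rcases eq_or_ne a x with rfl | hax
  exacts [⟨b, hb, hab.symm⟩, ⟨a, ha, hax⟩]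

theorem mixed_or_eq {M : Subgroup G} {q : ℕ} (hq : q ∈ pi M) : Mixed M ∨ pi M = {q} :=
  or_iff_not_imp_left.2 fun h => Set.eq_singleton_iff_unique_mem.2
    ⟨hq, fun r hr => by_contra fun hne => h ⟨r, hr, q, hq, hne⟩⟩

variable [Finite G]

theorem Zc_ne_bot {M : Subgroup G} {x : ℕ} (h : x ∈ pi M) : Zc x M ≠ ⊥ :=
  haveI := Fact.mk h.1
  meet_center (isPGroup_Ox x M) le_rfl Subgroup.le_normalizer h.2

theorem normalizer_le_normalizer_centralizer (S : Subgroup G) :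
    Subgroup.normalizer (S : Set G) ≤ Subgroup.normalizer (Subgroup.centralizer (S : Set G) : Set G) :=
  fun g hg => mem_normalizer_of_cj_le (by rw [cj_centralizer, cj_eq_self hg])

theorem normalizer_le_normalizer_Zc (x : ℕ) (M : Subgroup G) :
    Subgroup.normalizer (M : Set G) ≤ Subgroup.normalizer (Zc x M : Set G) := fun g hg =>
  mem_normalizer_of_cj_le (by
    rw [Zc, cj_inf, cj_eq_self (normalizer_le_normalizer_Ox x M hg),
      cj_eq_self (normalizer_le_normalizer_centralizer _ (normalizer_le_normalizer_Ox x M hg))])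

theorem self_le_normalizer_Zc (x : ℕ) (M : Subgroup G) : M ≤ Subgroup.normalizer (Zc x M : Set G) :=
  Subgroup.le_normalizer.trans (normalizer_le_normalizer_Zc x M)

variable {p : ℕ} [hp : Fact p.Prime]

namespace Ctx

variable (c : Ctx G p)

/-- Normalised by `A` and by the common part. -/
def Stab (S : Subgroup G) : Prop :=
  c.A ≤ Subgroup.normalizer (S : Set G) ∧ c.C ≤ Subgroup.normalizer (S : Set G)

theorem Inv.stab {c : Ctx G p} {U : Subgroup G} (h : c.Inv U) : c.Stab U := ⟨c.nrmA h.1, h.2⟩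

theorem inv_of_le {U V : Subgroup G} (hU : c.fam U) (hV : V ≤ U) (hs : c.Stab V) : c.Inv V :=
  ⟨c.fam_le hU hV hs.1, hs.2⟩

theorem stab_of {S T : Subgroup G} (h : c.Stab S)
    (hle : Subgroup.normalizer (S : Set G) ≤ Subgroup.normalizer (T : Set G)) : c.Stab T :=
  ⟨h.1.trans hle, h.2.trans hle⟩

theorem stab_inf {S T : Subgroup G} (hS : c.Stab S) (hT : c.Stab T) : c.Stab (S ⊓ T) :=
  ⟨fun g hg => mem_normalizer_of_cj_le (by rw [cj_inf, cj_eq_self (hS.1 hg), cj_eq_self (hT.1 hg)]),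
    fun g hg => mem_normalizer_of_cj_le (by rw [cj_inf, cj_eq_self (hS.2 hg), cj_eq_self (hT.2 hg)])⟩

theorem stab_sup {S T : Subgroup G} (hS : c.Stab S) (hT : c.Stab T) : c.Stab (S ⊔ T) :=
  ⟨fun g hg => mem_normalizer_of_cj_le (by rw [cj_sup, cj_eq_self (hS.1 hg), cj_eq_self (hT.1 hg)]),
    fun g hg => mem_normalizer_of_cj_le (by rw [cj_sup, cj_eq_self (hS.2 hg), cj_eq_self (hT.2 hg)])⟩

theorem stab_commutator {S T : Subgroup G} (hS : c.Stab S) (hT : c.Stab T) : c.Stab ⁅S, T⁆ :=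
  ⟨fun g hg => mem_normalizer_of_cj_le (by rw [cj_commutator, cj_eq_self (hS.1 hg), cj_eq_self (hT.1 hg)]),
    fun g hg => mem_normalizer_of_cj_le (by rw [cj_commutator, cj_eq_self (hS.2 hg), cj_eq_self (hT.2 hg)])⟩

theorem stab_centralizer {S : Subgroup G} (hS : c.Stab S) : c.Stab (Subgroup.centralizer (S : Set G)) :=
  c.stab_of hS (normalizer_le_normalizer_centralizer S)

theorem stab_normalizer {S : Subgroup G} (hS : c.Stab S) : c.Stab (Subgroup.normalizer (S : Set G)) :=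
  c.stab_of hS Subgroup.le_normalizer

theorem stab_of_le_A {D : Subgroup G} (hD : D ≤ c.A) : c.Stab D :=
  ⟨(c.A_le_cent hD).trans (Subgroup.centralizer_le_normalizer _),
    (c.C_le_centA.trans (Subgroup.centralizer_le hD)).trans (Subgroup.centralizer_le_normalizer _)⟩

theorem stab_cent_singleton {a : G} (ha : a ∈ c.A) : c.Stab (Subgroup.centralizer {a}) := by
  refine ⟨fun g hg => Subgroup.le_normalizer (Subgroup.mem_centralizer_singleton_iff.2 (c.comm hg ha)),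
    fun g hg => Subgroup.le_normalizer (Subgroup.mem_centralizer_singleton_iff.2 ?_)⟩
  exact (Subgroup.mem_centralizer_iff.1 (c.C_le_centA hg) a ha).symm

theorem stab_C : c.Stab c.C :=
  ⟨c.A_le_centC.trans (Subgroup.centralizer_le_normalizer _), Subgroup.le_normalizer⟩

variable {c}

theorem Colour.inv {M : Subgroup G} (hM : c.Colour M) : c.Inv M :=
  ⟨hM.1, hM.2.1.trans Subgroup.le_normalizer⟩

theorem Colour.stab_Ox {M : Subgroup G} (hM : c.Colour M) (x : ℕ) : c.Stab (Ox x M) :=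
  c.stab_of (Colour.inv hM).stab (normalizer_le_normalizer_Ox x M)

theorem Colour.stab_Zc {M : Subgroup G} (hM : c.Colour M) (x : ℕ) : c.Stab (Zc x M) :=
  c.stab_of (Colour.inv hM).stab (normalizer_le_normalizer_Zc x M)

theorem Colour.inv_Ox {M : Subgroup G} (hM : c.Colour M) (x : ℕ) : c.Inv (Ox x M) :=
  c.inv_of_le hM.1 (Ox_le x M) (hM.stab_Ox x)

theorem Colour.inv_Zc {M : Subgroup G} (hM : c.Colour M) (x : ℕ) : c.Inv (Zc x M) :=
  c.inv_of_le hM.1 ((Zc_le_Ox x M).trans (Ox_le x M)) (hM.stab_Zc x)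

theorem Colour.sol {M : Subgroup G} (hM : c.Colour M) : Group.IsSolvable M := c.sol hM.1

variable (c)

/-- The greatest invariant `x`-member. -/
def W (x : ℕ) : Subgroup G := sSup {U | c.Inv U ∧ IsPGroup x U}

/-- The centre of the greatest invariant `x`-member. -/
def z (x : ℕ) : Subgroup G := c.W x ⊓ Subgroup.centralizer (c.W x : Set G)

/-- The greatest invariant member of order prime to `t`. -/
def Wc (t : ℕ) : Subgroup G := sSup {U | c.Inv U ∧ ¬ t ∣ Nat.card U}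

/-- The primes of the functor. -/
def primes : Set ℕ := {x | x.Prime ∧ ∃ a ∈ c.A, a ≠ 1 ∧ x ∣ Nat.card (c.θ a)}

theorem exists_colour {U : Subgroup G} (hU : c.fam U) (hC : c.C ≤ U) :
    ∃ P, c.Colour P ∧ U ≤ P := by
  obtain ⟨P, hUP, hP⟩ := Finite.exists_le_maximal (p := fun P : Subgroup G => c.fam P) (a := U) hU
  exact ⟨P, ⟨hP.1, hC.trans hUP, fun V hV hle => le_antisymm (hP.2 hV hle) hle⟩, hUP⟩

theorem theta_colour {a : G} (ha : a ∈ c.A) (ha1 : a ≠ 1) : ∃ P, c.Colour P ∧ c.θ a ≤ P :=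
  c.exists_colour (c.theta_fam ha ha1) (c.C_le_theta ha ha1)

theorem exists_colour_ge {U : Subgroup G} (hU : c.Inv U) : ∃ P, c.Colour P ∧ U ≤ P := by
  obtain ⟨P, hP, hle⟩ := c.exists_colour (c.fam_sup hU.1 c.C_fam hU.2) le_sup_right
  exact ⟨P, hP, le_sup_left.trans hle⟩

theorem exists_colour_norm (hc : Crit c) {X : Subgroup G} (hX : c.Inv X) (hne : X ≠ ⊥) :
    ∃ P, c.Colour P ∧ ∀ U, c.fam U → U ≤ Subgroup.normalizer (X : Set G) → U ≤ P := by
  obtain ⟨K, hK, -, hgr⟩ := c.exists_gr hc hX.1 hne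
  obtain ⟨P, hP, hle⟩ := c.exists_colour hK (hgr _ c.C_fam hX.2)
  exact ⟨P, hP, fun U hU hUn => (hgr U hU hUn).trans hle⟩

theorem not_all (hc : Crit c) {x : ℕ} (hx : x.Prime) : ∃ a ∈ c.A, a ≠ 1 ∧ ¬ Sig (· = x) (c.θ a) := by
  by_contra hno
  push Not at hno
  haveI := Fact.mk hx
  obtain ⟨-, X, hXA, hXp, hXθ⟩ := S1285.result p c.A c.hA c.h3 c.θ c.hθ x fun a ha ha1 =>
    (sig_eq_iff hx).1 (hno a ha ha1)
  have hAX : c.A ≤ Subgroup.normalizer (X : Set G) := fun a ha => mem_normalizer_of_cj_le (by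
    rintro _ ⟨u, hu, rfl⟩; exact hXA a ha u hu)
  have hco := elab_coprime c.hA hXp
  have hsolA : Group.IsSolvable c.A :=
    Group.isSolvable_of_comm fun a b => Subtype.ext (c.comm a.2 b.2)
  have hXx : IsPGroup x X := by
    refine (sig_eq_iff hx).1 fun r hr hd => by_contra fun hne => ?_
    haveI := Fact.mk hr
    obtain ⟨R, hR, hRA⟩ := Solv.exists_invariant_sylow hAX hco (Or.inl hsolA) r
    have hRb : R = ⊥ := by
      refine eq_bot_iff.2 ((Solv.gen_eq c.A R c.hA.1 hRA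
        (hco.coprime_dvd_right (Subgroup.card_dvd_of_le hR.1))).ge.trans (iSup₂_le fun B hB => ?_))
      obtain ⟨d, hd, hd1⟩ : ∃ d ∈ B, d ≠ 1 := by
        by_contra h
        exact cycQuot_inf_ne_bot c.hA c.h3 hB hB (by
          rw [inf_idem]; exact (Subgroup.eq_bot_iff_forall _).2 fun y hy => by_contra fun h1 => h ⟨y, hy, h1⟩)
      refine le_trans (le_inf inf_le_left ?_) (inf_bot_of_ne hr hx hne hR.isPGroup
        ((sig_eq_iff hx).1 (hno d (hB.1 hd) hd1))).le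
      rw [← hXθ d (hB.1 hd) hd1]
      exact inf_le_inf hR.1 (Subgroup.centralizer_le (by simpa using hd))
    have h1 := hR.2
    rw [hRb, Subgroup.card_bot] at h1
    rcases Nat.pow_eq_one.1 h1.symm with h1 | h1
    · exact hr.one_lt.ne' h1
    · exact (hr.factorization_pos_of_dvd Nat.card_pos.ne' hd).ne' h1
  exact hc.1 ⟨X, ⟨by haveI := hXx.isNilpotent; infer_instance, hXp, hXA,
    fun a ha ha1 => (hXθ a ha ha1).le⟩, fun a ha ha1 => (hXθ a ha ha1).ge.trans inf_le_left⟩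

theorem W_spec (hc : Crit c) {x : ℕ} (hx : x.Prime) :
    c.Inv (c.W x) ∧ IsPGroup x (c.W x) := by
  obtain ⟨K, hK, hKs, hgr⟩ := c.exists_great hc (Or.inl ⟨x, hx, rfl⟩) (c.not_all hc hx)
  have : c.W x = K := le_antisymm (sSup_le fun U hU => hgr U hU.1 ((sig_eq_iff hx).2 hU.2))
    (le_sSup ⟨hK, (sig_eq_iff hx).1 hKs⟩)
  exact this.symm ▸ ⟨hK, (sig_eq_iff hx).1 hKs⟩

theorem le_W {x : ℕ} {U : Subgroup G} (hU : c.Inv U) (hUx : IsPGroup x U) : U ≤ c.W x :=
  le_sSup ⟨hU, hUx⟩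

theorem Wc_spec (hc : Crit c) {t : ℕ} (ht : t ∈ c.primes) :
    c.Inv (c.Wc t) ∧ ¬ t ∣ Nat.card (c.Wc t) := by
  obtain ⟨a, ha, ha1, hd⟩ := ht.2
  obtain ⟨K, hK, hKs, hgr⟩ := c.exists_great hc (Or.inr ⟨t, ht.1, rfl⟩)
    ⟨a, ha, ha1, fun h => (sig_ne_iff ht.1).1 h hd⟩
  have : c.Wc t = K := le_antisymm (sSup_le fun U hU => hgr U hU.1 ((sig_ne_iff ht.1).2 hU.2))
    (le_sSup ⟨hK, (sig_ne_iff ht.1).1 hKs⟩)
  exact this.symm ▸ ⟨hK, (sig_ne_iff ht.1).1 hKs⟩

theorem W_le_Wc (hc : Crit c) {x t : ℕ} (hx : x.Prime) (ht : t.Prime) (hne : x ≠ t) :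
    c.W x ≤ c.Wc t := by
  obtain ⟨h1, h2⟩ := c.W_spec hc hx
  exact le_sSup ⟨h1, fun hd => hne ((sig_eq_iff hx).2 h2 t ht hd).symm⟩

theorem stab_z (hc : Crit c) {x : ℕ} (hx : x.Prime) : c.Stab (c.z x) :=
  c.stab_inf (c.W_spec hc hx).1.stab (c.stab_centralizer (c.W_spec hc hx).1.stab)

theorem inv_z (hc : Crit c) {x : ℕ} (hx : x.Prime) : c.Inv (c.z x) :=
  c.inv_of_le (c.W_spec hc hx).1.1 inf_le_left (c.stab_z hc hx)

theorem z_cent {x : ℕ} {U : Subgroup G} (hU : U ≤ c.W x) :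
    c.z x ≤ Subgroup.centralizer (U : Set G) :=
  inf_le_right.trans (Subgroup.centralizer_le hU)

theorem mem_primes_of_dvd {U : Subgroup G} (hU : c.fam U) {r : ℕ} (hr : r.Prime)
    (hd : r ∣ Nat.card U) : r ∈ c.primes := by
  refine ⟨hr, by_contra fun hno => ?_⟩
  push Not at hno
  haveI := Fact.mk hr
  obtain ⟨R, hR, hRA⟩ := Solv.exists_invariant_sylow (c.nrmA hU) (c.coprimeA hU) (Or.inr (c.sol hU)) r
  have hRb : R ≤ (⊥ : Subgroup G) := c.le_of_theta (c.fam_le hU hR.1 hRA) fun a ha ha1 => by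
    rw [le_bot_iff, ← Subgroup.card_eq_one]
    by_contra h1
    obtain ⟨k, hk, hdk⟩ := Nat.exists_prime_and_dvd h1
    obtain rfl : k = r := (sig_eq_iff hr).2 (hR.isPGroup.to_le inf_le_left) k hk hdk
    exact hno a ha ha1 (hdk.trans (Subgroup.card_dvd_of_le inf_le_right))
  have h1 := hR.2
  rw [le_bot_iff.1 hRb, Subgroup.card_bot] at h1
  rcases Nat.pow_eq_one.1 h1.symm with h1 | h1
  · exact hr.one_lt.ne' h1
  · exact (hr.factorization_pos_of_dvd Nat.card_pos.ne' hd).ne' h1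

variable {c}

theorem Colour.mem_primes {M : Subgroup G} (hM : c.Colour M) {x : ℕ} (hx : x ∈ pi M) : x ∈ c.primes := by
  refine c.mem_primes_of_dvd hM.1 hx.1 (dvd_trans ?_ (Subgroup.card_dvd_of_le (Ox_le x M)))
  haveI := Fact.mk hx.1
  obtain ⟨k, hk⟩ := IsPGroup.iff_card.1 (isPGroup_Ox x M)
  rcases k with _ | k
  · exact absurd (Subgroup.card_eq_one.1 (by simpa using hk)) hx.2
  · exact hk ▸ dvd_pow_self x (Nat.succ_ne_zero k)

theorem Colour.Ox_le_W {M : Subgroup G} (hM : c.Colour M) (x : ℕ) : Ox x M ≤ c.W x :=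
  c.le_W (hM.inv_Ox x) (isPGroup_Ox x M)

theorem Colour.pi_nonempty (hc : Crit c) {M : Subgroup G} (hM : c.Colour M) : (pi M).Nonempty := by
  have hne : M ≠ ⊥ := fun h => hc.1 ⟨M, hM.1, fun a ha ha1 =>
    (hM.2.2 _ (c.theta_fam ha ha1) (h ▸ bot_le)).le⟩
  obtain ⟨q, hq, hqb⟩ := exists_Ox_ne_bot hM.sol hne
  exact ⟨q, hq, hqb⟩

theorem Colour.mixed_or_single (hc : Crit c) {M : Subgroup G} (hM : c.Colour M) :
    Mixed M ∨ ∃ q, pi M = {q} := by
  obtain ⟨q, hq⟩ := hM.pi_nonempty hc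
  exact (mixed_or_eq hq).imp id fun h => ⟨q, h⟩

theorem Colour.le_of_norm (hc : Crit c) {M X U : Subgroup G} (hM : c.Colour M) (hXs : c.Stab X)
    (hXM : X ≤ M) (hne : X ≠ ⊥) (hMX : M ≤ Subgroup.normalizer (X : Set G)) (hU : c.fam U)
    (hUX : U ≤ Subgroup.normalizer (X : Set G)) : U ≤ M := by
  obtain ⟨K, hK, -, hgr⟩ := c.exists_gr hc (c.fam_le hM.1 hXM hXs.1) hne
  exact (hgr U hU hUX).trans (hM.2.2 K hK (hgr M hM.1 hMX)).le

/-- A member normalising `O_x(M)` lies in `M`. -/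
theorem Colour.le_of_norm_Ox (hc : Crit c) {M U : Subgroup G} (hM : c.Colour M) {x : ℕ} (hx : x ∈ pi M)
    (hU : c.fam U) (hUX : U ≤ Subgroup.normalizer (Ox x M : Set G)) : U ≤ M :=
  hM.le_of_norm hc (hM.stab_Ox x) (Ox_le x M) hx.2 (self_le_normalizer_Ox x M) hU hUX

/-- A member normalising `Z(O_x(M))` lies in `M`. -/
theorem Colour.le_of_norm_Zc (hc : Crit c) {M U : Subgroup G} (hM : c.Colour M) {x : ℕ} (hx : x ∈ pi M)
    (hU : c.fam U) (hUX : U ≤ Subgroup.normalizer (Zc x M : Set G)) : U ≤ M :=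
  hM.le_of_norm hc (hM.stab_Zc x) ((Zc_le_Ox x M).trans (Ox_le x M)) (Zc_ne_bot hx)
    (self_le_normalizer_Zc x M) hU hUX

theorem Colour.z_le (hc : Crit c) {M : Subgroup G} (hM : c.Colour M) {x : ℕ} (hx : x ∈ pi M) :
    c.z x ≤ M :=
  hM.le_of_norm_Ox hc hx (c.inv_z hc hx.1).1
    ((Ctx.z_cent c (hM.Ox_le_W x)).trans (Subgroup.centralizer_le_normalizer _))

theorem Colour.le_Ox_of_comm {M U : Subgroup G} (hM : c.Colour M) {x : ℕ} (hx : x.Prime) (hU : U ≤ M)
    (hUx : IsPGroup x U) (h : ∀ q ∈ pi M, U ≤ Subgroup.centralizer (Ox q M : Set G)) : U ≤ Ox x M := by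
  haveI := Fact.mk hx
  refine le_Ox_of_centralizes hM.sol hU hUx fun q hq => ?_
  by_cases hqM : q ∈ pi M
  · exact h q hqM
  · rw [Ox_eq_bot hq hqM]
    exact fun u _ => Subgroup.mem_centralizer_iff.2 fun v hv => by
      rw [Subgroup.mem_bot.1 hv, one_mul, mul_one]

theorem Colour.eq_bot_of_comm {M U : Subgroup G} (hM : c.Colour M) {x : ℕ} (hx : x.Prime) (hU : U ≤ M)
    (hUx : IsPGroup x U) (hxM : x ∉ pi M)
    (h : ∀ q ∈ pi M, U ≤ Subgroup.centralizer (Ox q M : Set G)) : U = ⊥ :=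
  le_bot_iff.1 ((hM.le_Ox_of_comm hx hU hUx h).trans (Ox_eq_bot hx hxM).le)

/-- An `x`-subgroup of `M` normalised by `O_q(M)` and normalising it centralises it, `q ≠ x`. -/
theorem cent_of_mutual {x q : ℕ} (hx : x.Prime) (hq : q.Prime) (hne : x ≠ q) {U V : Subgroup G}
    (hU : IsPGroup x U) (hV : IsPGroup q V) (hUV : U ≤ Subgroup.normalizer (V : Set G))
    (hVU : V ≤ Subgroup.normalizer (U : Set G)) : U ≤ Subgroup.centralizer (V : Set G) :=
  comm_of_inf (inf_bot_of_ne hx hq hne hU hV) hUV hVU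

theorem Ox_cent_Ox {M : Subgroup G} {x u : ℕ} (hx : x.Prime) (hu : u.Prime) (hne : x ≠ u) :
    Ox x M ≤ Subgroup.centralizer (Ox u M : Set G) :=
  cent_of_mutual hx hu hne (isPGroup_Ox x M) (isPGroup_Ox u M)
    ((Ox_le x M).trans (self_le_normalizer_Ox u M)) ((Ox_le u M).trans (self_le_normalizer_Ox x M))

theorem Zc_cent_Ox {M : Subgroup G} {x u : ℕ} (hx : x.Prime) (hu : u.Prime) :
    Zc x M ≤ Subgroup.centralizer (Ox u M : Set G) := by
  rcases eq_or_ne x u with rfl | hne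
  exacts [inf_le_right, (Zc_le_Ox x M).trans (Ox_cent_Ox hx hu hne)]

/-- The Fitting primes of `N` outside those of `M` meet `M` trivially when `F(M) ≤ N`. -/
theorem arrow₂ {M N : Subgroup G} (hM : c.Colour M) (hle : FLe M N) {s : ℕ} (hs : s ∈ pi N)
    (hsM : s ∉ pi M) : Ox s N ⊓ M = ⊥ := by
  refine hM.eq_bot_of_comm hs.1 inf_le_right ((isPGroup_Ox s N).to_le inf_le_left) hsM fun q hq =>
    cent_of_mutual hs.1 hq.1 (fun h => hsM (h ▸ hq)) ((isPGroup_Ox s N).to_le inf_le_left)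
      (isPGroup_Ox q M) (inf_le_right.trans (self_le_normalizer_Ox q M)) fun g hg =>
      mem_normalizer_of_cj_le (by
        rw [cj_inf, cj_eq_self (self_le_normalizer_Ox s N (hle q hq.1 hg)),
          cj_eq_self_of_mem (Ox_le q M hg)])

theorem Ox_le_Ox_of_mutual (hc : Crit c) {M N : Subgroup G} (hM : c.Colour M) (hN : c.Colour N) (hmix : Mixed M)
    (hpi : pi N = pi M) (hMN : FLe M N) {x : ℕ} (hx : x ∈ pi M) : Ox x M ≤ Ox x N := by
  obtain ⟨U, hU⟩ : ∃ U : ℕ → Subgroup G, U = fun u => N ⊓ ⨅ r : {r // r ∈ pi N ∧ r ≠ u}, Opc (r : ℕ) N :=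
    ⟨_, rfl⟩
  have hUN : ∀ u, U u ≤ N := fun u => hU ▸ inf_le_left
  have hUn : ∀ u, Subgroup.normalizer (N : Set G) ≤ Subgroup.normalizer (U u : Set G) := fun u g hg =>
    mem_normalizer_of_cj_le (by
      rw [hU, cj_inf, cj_eq_self hg]
      refine inf_le_inf_left _ (le_iInf fun r => (cj_mono (iInf_le _ r) g).trans ?_)
      rw [cj_eq_self (normalizer_le_normalizer_Opc (r : ℕ) N hg)])
  have hin : ∀ u ∈ pi M, Ox u M ≤ U u := fun u hu => by
    rw [hU]
    refine le_inf (hMN u hu.1) (le_iInf fun ⟨r, hr, hru⟩ => ?_)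
    rw [hpi] at hr
    haveI := Fact.mk hr.1
    haveI := Fact.mk hu.1
    obtain ⟨k, hk⟩ := IsPGroup.iff_card.1 (isPGroup_Ox u M)
    refine bel hN.sol ((Zc_le_Ox r M).trans (hMN r hr.1)) (isPGroup_Zc r M) (hMN u hu.1)
      (hk ▸ ((Nat.coprime_primes hu.1 hr.1).2 (Ne.symm hru)).pow_left k)
      ((Ox_cent_Ox hu.1 hr.1 (Ne.symm hru)).trans (Subgroup.centralizer_le (Zc_le_Ox r M))) ?_
    refine le_trans ?_ (self_le_normalizer_Ox u M)
    exact hM.le_of_norm_Zc hc hr (c.fam_le hN.1 inf_le_left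
      (c.stab_inf hN.inv.stab (c.stab_centralizer (hM.stab_Zc r))).1)
      (inf_le_right.trans (Subgroup.centralizer_le_normalizer _))
  have hUM : U x ≤ M := by
    obtain ⟨u, hu, hux⟩ := exists_pi_ne hmix x
    have hdis : U x ⊓ U u = ⊥ := by
      refine normal_eq_bot hN.sol (inf_le_left.trans (hUN x)) (fun g hg => mem_normalizer_of_cj_le (by
        rw [cj_inf, cj_eq_self (hUn x (Subgroup.le_normalizer hg)),
          cj_eq_self (hUn u (Subgroup.le_normalizer hg))])) fun q hq => ?_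
      by_cases hqN : q ∈ pi N
      · have hkey : ∀ w, q ≠ w → U w ⊓ Ox q N = ⊥ := fun w hqw => by
          refine le_bot_iff.1 (le_trans (b := Opc q N ⊓ Ox q N) (inf_le_inf_right _ ?_) (le_of_eq ?_))
          · rw [hU]; exact inf_le_right.trans (iInf_le _ (⟨q, hqN, hqw⟩ : {r // r ∈ pi N ∧ r ≠ w}))
          · haveI := Fact.mk hq
            exact coprime_inf_pGroup (Opc_coprime q N) (isPGroup_Ox q N)
        rcases eq_or_ne q x with rfl | hqx
        · exact le_bot_iff.1 ((inf_le_inf_right _ inf_le_right).trans (hkey u (Ne.symm hux)).le)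
        · exact le_bot_iff.1 ((inf_le_inf_right _ inf_le_left).trans (hkey x hqx).le)
      · rw [Ox_eq_bot hq hqN, inf_bot_eq]
    have hcent : U x ≤ Subgroup.centralizer (U u : Set G) := comm_of_inf hdis
      ((hUN x).trans (Subgroup.le_normalizer.trans (hUn u)))
      ((hUN u).trans (Subgroup.le_normalizer.trans (hUn x)))
    refine hM.le_of_norm_Zc hc hu (c.fam_le hN.1 (hUN x) ((c.nrmA hN.1).trans (hUn x))) ?_
    exact (hcent.trans (Subgroup.centralizer_le ((Zc_le_Ox u M).trans (hin u hu)))).trans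
      (Subgroup.centralizer_le_normalizer _)
  exact subnormal_le_Ox (hin x hx) (hUM.trans (self_le_normalizer_Ox x M)) (hUN x)
    (Subgroup.le_normalizer.trans (hUn x)) (isPGroup_Ox x M)

theorem pi_subset_of_fle {M N : Subgroup G} (hM : c.Colour M) (hN : c.Colour N) (hle : FLe M N)
    (hle' : FLe N M) : pi N ⊆ pi M := fun s hs => by_contra fun hsM => hs.2 (by
  have h := arrow₂ hM hle hs hsM
  rwa [inf_eq_left.2 (hle' s hs.1)] at h)

theorem eq_of_mutual (hc : Crit c) {M N : Subgroup G} (hM : c.Colour M) (hN : c.Colour N) (hmix : Mixed M)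
    (hle : FLe M N) (hle' : FLe N M) : N = M := by
  have hpi : pi N = pi M := (pi_subset_of_fle hM hN hle hle').antisymm (pi_subset_of_fle hN hM hle' hle)
  obtain ⟨x, hx, -⟩ := id hmix
  have h1 := Ox_le_Ox_of_mutual hc hM hN hmix hpi hle hx
  have h2 := Ox_le_Ox_of_mutual hc hN hM (by rwa [Mixed, hpi]) hpi.symm hle' (hpi ▸ hx)
  have hNM : N ≤ M := hM.le_of_norm_Ox hc hx hN.1 (by
    rw [le_antisymm h1 h2]; exact self_le_normalizer_Ox x N)
  exact (hN.2.2 M hM.1 hNM).symm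

/-- If `F(M) ≤ N` for a mixed `M` and `N ≠ M`, then `N` has a new Fitting prime. -/
theorem arrow₁ (hc : Crit c) {M N : Subgroup G} (hM : c.Colour M) (hN : c.Colour N) (hmix : Mixed M)
    (hle : FLe M N) (hne : N ≠ M) : ∃ s ∈ pi N, s ∉ pi M := by
  by_contra hno
  push Not at hno
  refine hne (eq_of_mutual hc hM hN hmix hle fun x hx => ?_)
  by_cases hxN : x ∈ pi N
  swap
  · rw [Ox_eq_bot hx hxN]; exact bot_le
  obtain ⟨u, hu, hux⟩ := exists_pi_ne hmix x
  haveI := Fact.mk hx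
  have hxM := hno x hxN
  have hR : Ox x N ⊓ Subgroup.centralizer (Zc x M : Set G) ≤ M :=
    hM.le_of_norm_Zc hc hxM (c.fam_le hN.1 (inf_le_left.trans (Ox_le x N))
      (c.stab_inf (hN.stab_Ox x) (c.stab_centralizer (hM.stab_Zc x))).1)
      (inf_le_right.trans (Subgroup.centralizer_le_normalizer _))
  have hcent : Zc u M ≤ Subgroup.centralizer (Ox x N : Set G) := fun t ht => by
    refine mem_centralizer_of_AB (T := Zc x M) (isPGroup_Ox x N) (isPGroup_Zc x M)
      (((Zc_le_Ox x M).trans (hle x hx)).trans (self_le_normalizer_Ox x N))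
      (self_le_normalizer_Ox x N (hle u hu.1 (Zc_le_Ox u M ht)))
      (fun v hv => ((Subgroup.mem_centralizer_iff.1 (Zc_cent_Ox hu.1 hx ht)) v (Zc_le_Ox x M hv)).symm) ?_
      fun r hr hrT => ?_
    · haveI := Fact.mk hu.1
      obtain ⟨k, hk⟩ := IsPGroup.iff_card.1 (isPGroup_Ox u M)
      refine (Nat.Coprime.pow_left k ((Nat.coprime_primes hu.1 hx).2 hux)).coprime_dvd_left ?_
      rw [← hk, ← Subgroup.orderOf_mk t (Zc_le_Ox u M ht)]
      exact orderOf_dvd_natCard _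
    · have hrM : r ∈ M := hR (Subgroup.mem_inf.2 ⟨hr, Subgroup.mem_centralizer_iff.2 fun v hv =>
        (hrT v hv).symm⟩)
      exact (comm_one (inf_bot_of_ne hx hu.1 hux.symm (isPGroup_Ox x N) (isPGroup_Ox u M)) hr
        (Zc_le_Ox u M ht) (self_le_normalizer_Ox x N (hle u hu.1 (Zc_le_Ox u M ht)))
        (self_le_normalizer_Ox u M hrM)).symm
  exact hM.le_of_norm_Zc hc hu (hN.inv_Ox x).1
    ((Subgroup.le_centralizer_iff.1 hcent).trans (Subgroup.centralizer_le_normalizer _))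

end Ctx

/-- A minimal counterexample together with the uniqueness of single-prime colours. -/
structure Setup (c : Ctx G p) : Prop where
  crit : Crit c
  hu : ∀ H q, c.Colour H → pi H = {q} →
    c.W q ≤ H ∧ ∀ H', c.Colour H' → pi H' = {q} → H' = H

namespace Ctx

variable {c : Ctx G p}

theorem prime_of_pi_eq {H : Subgroup G} {q : ℕ} (h : pi H = {q}) : q ∈ pi H := h ▸ rfl

/-- A single-prime colour for `q` meets `O_u(M)` trivially when `q` is a Fitting prime of the mixed `M`. -/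
theorem pq (hs : Setup c) {H M : Subgroup G} {q u : ℕ} (hH : c.Colour H) (hHq : pi H = {q})
    (hM : c.Colour M) (hq : q ∈ pi M) (hu : u ∈ pi M) (hne : u ≠ q) : Ox u M ⊓ H = ⊥ := by
  haveI := Fact.mk hq.1
  haveI := Fact.mk hu.1
  have hQH : Ox q M ≤ H := (hM.Ox_le_W q).trans (hs.hu H q hH hHq).1
  have hR : Ox q H ⊓ Subgroup.centralizer (Ox q M : Set G) ≤ M :=
    hM.le_of_norm_Ox hs.crit hq (c.fam_le hH.1 (inf_le_left.trans (Ox_le q H))
      (c.stab_inf (hH.stab_Ox q) (c.stab_centralizer (hM.stab_Ox q))).1)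
      (inf_le_right.trans (Subgroup.centralizer_le_normalizer _))
  have hcent : Ox u M ⊓ H ≤ Subgroup.centralizer (Ox q H : Set G) := fun t ht => by
    obtain ⟨htU, htH⟩ := Subgroup.mem_inf.1 ht
    refine mem_centralizer_of_AB (T := Ox q M) (isPGroup_Ox q H) (isPGroup_Ox q M)
      (hQH.trans (self_le_normalizer_Ox q H)) (self_le_normalizer_Ox q H htH)
      (fun v hv => (Subgroup.mem_centralizer_iff.1 (Ox_cent_Ox hu.1 hq.1 hne htU) v hv).symm) ?_
      fun r hr hrT => ?_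
    · obtain ⟨k, hk⟩ := IsPGroup.iff_card.1 (isPGroup_Ox u M)
      refine (Nat.Coprime.pow_left k ((Nat.coprime_primes hu.1 hq.1).2 hne)).coprime_dvd_left ?_
      rw [← hk, ← Subgroup.orderOf_mk t htU]
      exact orderOf_dvd_natCard _
    · have hrM : r ∈ M := hR (Subgroup.mem_inf.2 ⟨hr, Subgroup.mem_centralizer_iff.2 fun v hv =>
        (hrT v hv).symm⟩)
      exact (comm_one (inf_bot_of_ne hq.1 hu.1 hne.symm (isPGroup_Ox q H) (isPGroup_Ox u M)) hr
        htU (self_le_normalizer_Ox q H htH) (self_le_normalizer_Ox u M hrM)).symm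
  refine hH.eq_bot_of_comm hu.1 inf_le_right ((isPGroup_Ox u M).to_le inf_le_left)
    (fun h => hne (by rw [hHq] at h; exact h)) fun r hr => ?_
  rw [hHq, Set.mem_singleton_iff] at hr
  exact hr ▸ hcent

end Ctx

end Cfsg.Agent.SSF
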