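import Cfsg.Agent.Lib.SSF.Main
import Cfsg.Agent.Lib.Fusion.LocalConstrained

/-!
Equivariant solvable signalizer functors on elements with centralisers of rank three, and balance
for groups whose centralisers have trivial layers for the prime.
-/

set_option autoImplicit false
set_option linter.style.haveILetI false

open Cfsg Cfsg.Agent Cfsg.Agent.Fusion
open scoped commutatorElement Pointwise

namespace Cfsg.Agent.SSF

universe u

variable {G : Type u} [Group G] [Finite G] {p : ℕ} [hp : Fact p.Prime]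

/-- An element of order `p` whose centraliser has rank at least three. -/
def Big3 (p : ℕ) (a : G) : Prop :=
  orderOf a = p ∧ ¬ Cfsg.PRankLE p 2 ↥(Subgroup.centralizer ({a} : Set G))

theorem exists_big {H : Subgroup G} (h : ¬ Cfsg.PRankLE p 2 H) :
    ∃ A ≤ H, Cfsg.IsElementaryAbelian p A ∧ p ^ 3 ≤ Nat.card A := by
  simp only [Cfsg.PRankLE, not_forall] at h
  obtain ⟨A, hA, hAp, hcard⟩ := h
  have hA' : Cfsg.IsElementaryAbelian p A := ⟨hA, hAp⟩
  refine ⟨A.map H.subtype, Subgroup.map_subtype_le A, ?_, ?_⟩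
  · refine ⟨Fusion.isMulCommutative_map _ hA, ?_⟩
    rintro _ ⟨a, ha, rfl⟩
    rw [← map_pow, hAp a ha, map_one]
  · rw [Subgroup.card_map_of_injective H.subtype_injective]
    obtain ⟨n, hn⟩ := IsPGroup.iff_card.1 (Local.elemAb_isPGroup hA')
    rw [hn] at hcard ⊢
    refine Nat.pow_le_pow_right hp.out.pos ?_
    by_contra h3
    exact hcard (Nat.pow_le_pow_right hp.out.pos (by omega))

theorem not_rankLE {A H : Subgroup G} (hA : Cfsg.IsElementaryAbelian p A) (h3 : p ^ 3 ≤ Nat.card A)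
    (hle : A ≤ H) : ¬ Cfsg.PRankLE p 2 H := fun h => by
  have h1 := h (A.subgroupOf H) ⟨⟨fun x y => Subtype.ext (Subtype.ext
    (Local.elemAb_commute hA x.2 y.2))⟩⟩ fun x hx => Subtype.ext (hA.2 _ hx)
  rw [Nat.card_congr (Subgroup.subgroupOfEquivOfLe hle).toEquiv] at h1
  exact absurd (h3.trans h1) (not_le.2 (Nat.pow_lt_pow_right hp.out.one_lt (by norm_num)))

theorem big3_of_mem {A : Subgroup G} (hA : Cfsg.IsElementaryAbelian p A) (h3 : p ^ 3 ≤ Nat.card A)
    {a : G} (ha : a ∈ A) (ha1 : a ≠ 1) : Big3 p a :=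
  ⟨orderOf_eq_prime (hA.2 a ha) ha1, not_rankLE hA h3 fun x hx =>
    Subgroup.mem_centralizer_singleton_iff.2 (Local.elemAb_commute hA hx ha)⟩

variable {θ : G → Subgroup G}
  (hC : ∀ a, Big3 p a → θ a ≤ Subgroup.centralizer ({a} : Set G) ∧ ¬ p ∣ Nat.card ↥(θ a) ∧
    Group.IsSolvable ↥(θ a))
  (heq : ∀ a g : G, Big3 p a → θ (g * a * g⁻¹) = (θ a).map (MulAut.conj g).toMonoidHom)
  (hbal : ∀ a b : G, Big3 p a → Big3 p b → a * b = b * a → θ a ⊓ Subgroup.centralizer {b} ≤ θ b)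

include hC heq hbal

theorem functor_of_equivariant {A : Subgroup G} (hA : Cfsg.IsElementaryAbelian p A)
    (h3 : p ^ 3 ≤ Nat.card A) : Cfsg.IsSolvableSignalizerFunctor p A θ := by
  refine ⟨⟨fun a ha ha1 => (hC a (big3_of_mem hA h3 ha ha1)).1,
    fun a ha ha1 => (hC a (big3_of_mem hA h3 ha ha1)).2.1, fun a ha ha1 b hb x hx => ?_,
    fun a ha ha1 b hb hb1 => hbal a b (big3_of_mem hA h3 ha ha1) (big3_of_mem hA h3 hb hb1)
      (Local.elemAb_commute hA ha hb)⟩, fun a ha ha1 => (hC a (big3_of_mem hA h3 ha ha1)).2.2⟩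
  have h := heq a b (big3_of_mem hA h3 ha ha1)
  rw [Local.elemAb_commute hA hb ha, mul_inv_cancel_right] at h
  rw [h]
  exact ⟨x, hx, rfl⟩

/-- The closure over a noncyclic subgroup is the closure over the whole group. -/
theorem closure_eq {A E : Subgroup G} (hA : Cfsg.IsElementaryAbelian p A) (h3 : p ^ 3 ≤ Nat.card A)
    (hEA : E ≤ A) (hE : p ^ 2 ≤ Nat.card E) :
    (⨆ e : {e : G // e ∈ E ∧ e ≠ 1}, θ e) = ⨆ a : {a : G // a ∈ A ∧ a ≠ 1}, θ a := by
  obtain ⟨hW, hWθ⟩ := complete hA h3 (functor_of_equivariant hC heq hbal hA h3)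
  refine le_antisymm (iSup_le fun e => le_iSup (fun a : {a : G // a ∈ A ∧ a ≠ 1} => θ a)
    ⟨e.1, hEA e.2.1, e.2.2⟩) ?_
  obtain ⟨K, hK⟩ : ∃ K, K = ⨆ a : {a : G // a ∈ A ∧ a ≠ 1}, θ a := ⟨_, rfl⟩
  rw [← hK] at hW hWθ ⊢
  have hEe : Cfsg.IsElementaryAbelian p E := Local.elemAb_mono hA hEA
  refine (Solv.gen_eq E K hEe.1 (hEA.trans (fam_normalizer hW)) (elab_coprime hEe hW.2.1)).ge.trans
    (iSup₂_le fun B hB => ?_)
  obtain ⟨b, hb, hb1⟩ : ∃ b ∈ B, b ≠ 1 := by
    by_contra hno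
    have h := hE.trans (card_le_mul_of_cycQuot hEe hB)
    rw [(Subgroup.eq_bot_iff_forall B).2 fun y hy => by_contra fun h1 => hno ⟨y, hy, h1⟩,
      Subgroup.card_bot, mul_one] at h
    exact absurd h (not_le.2 (lt_self_pow₀ hp.out.one_lt (by norm_num)))
  refine le_iSup_of_le ⟨b, hB.1 hb, hb1⟩ ?_
  rw [← hWθ b (hEA (hB.1 hb)) hb1]
  exact inf_le_inf_left _ (Subgroup.centralizer_le (by simpa using hb))

theorem equivariant_trivial (hO : Cfsg.pPrimeCore p G = ⊥) (hconn : Cfsg.IsRankGraphConnected p 2 G)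
    {a : G} (ha : Big3 p a) : θ a = ⊥ := by
  obtain ⟨Wv, hWv⟩ : ∃ Wv : Subgroup G → Subgroup G,
      Wv = fun E => ⨆ e : {e : G // e ∈ E ∧ e ≠ 1}, θ e := ⟨_, rfl⟩
  have hedge : ∀ E E' : Subgroup G, Cfsg.IsRankGraphVertex p 2 E → Cfsg.IsRankGraphVertex p 2 E' →
      (∀ x ∈ E, ∀ y ∈ E', x * y = y * x) → Wv E = Wv E' := by
    intro E E' hE hE' hc
    have hB := Local.elemAb_sup hE.1 hE'.1 hc
    rw [hWv]
    by_cases h3 : p ^ 3 ≤ Nat.card ↥(E ⊔ E')
    · show (⨆ e : {e : G // e ∈ E ∧ e ≠ 1}, θ e) = ⨆ e : {e : G // e ∈ E' ∧ e ≠ 1}, θ e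
      rw [closure_eq hC heq hbal hB h3 le_sup_left hE.2.1, closure_eq hC heq hbal hB h3 le_sup_right hE'.2.1]
    · obtain ⟨n, hn⟩ := IsPGroup.iff_card.1 (Local.elemAb_isPGroup hB)
      have hle : Nat.card ↥(E ⊔ E') ≤ p ^ 2 := by
        rw [hn] at h3 ⊢
        refine Nat.pow_le_pow_right hp.out.pos ?_
        by_contra h
        exact h3 (Nat.pow_le_pow_right hp.out.pos (by omega))
      have h1 := Subgroup.eq_of_le_of_card_ge (le_sup_left : E ≤ E ⊔ E') (hle.trans hE.2.1)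
      have h2 := Subgroup.eq_of_le_of_card_ge (le_sup_right : E' ≤ E ⊔ E') (hle.trans hE'.2.1)
      rw [h1.trans h2.symm]
  have hconst : ∀ E E' : Subgroup G, Cfsg.IsRankGraphVertex p 2 E → Cfsg.IsRankGraphVertex p 2 E' →
      Wv E = Wv E' := by
    intro E E' hE hE'
    induction hconn E E' hE hE' with
    | refl => rfl
    | tail _ h ih => exact (ih h.1).trans (hedge _ _ h.1 h.2.1 h.2.2)
  obtain ⟨A₀, hA₀a, hA₀, h3₀⟩ := exists_big ha.2
  obtain ⟨A, hAd⟩ : ∃ A, A = A₀ ⊔ Subgroup.zpowers a := ⟨_, rfl⟩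
  have hA : Cfsg.IsElementaryAbelian p A := hAd ▸ Local.elemAb_sup hA₀
    (Local.elemAb_zpowers (ha.1 ▸ pow_orderOf_eq_one a)) (fun x hx y hy => by
      obtain ⟨i, rfl⟩ := Subgroup.mem_zpowers_iff.1 hy
      exact ((show Commute x a from Subgroup.mem_centralizer_singleton_iff.1 (hA₀a hx)).zpow_right i).eq)
  have h3 : p ^ 3 ≤ Nat.card A := h3₀.trans (Subgroup.card_le_of_le (hAd ▸ le_sup_left))
  have hAv : Cfsg.IsRankGraphVertex p 2 A := ⟨hA, (Nat.pow_le_pow_right hp.out.pos (by norm_num)).trans h3,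
    not_rankLE hA h3 fun x hx => Subgroup.mem_centralizer_iff.2 fun y hy => Local.elemAb_commute hA hy hx⟩
  have ha1 : a ≠ 1 := fun h => hp.out.one_lt.ne' (by rw [← ha.1, h, orderOf_one])
  have haA : a ∈ A := hAd ▸ Subgroup.mem_sup_right (Subgroup.mem_zpowers a)
  obtain ⟨hW, -⟩ := complete hA h3 (functor_of_equivariant hC heq hbal hA h3)
  have hn : (Wv A).Normal := by
    refine ⟨fun x hx g => ?_⟩
    have hcjA : Cfsg.IsElementaryAbelian p (cj A g) := (replFamily_elementary p).map_equiv hA _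
    have h3' : p ^ 3 ≤ Nat.card (cj A g) := by rw [card_cj]; exact h3
    have hv : Cfsg.IsRankGraphVertex p 2 (cj A g) := ⟨hcjA,
      (Nat.pow_le_pow_right hp.out.pos (by norm_num)).trans h3',
      not_rankLE hcjA h3' fun x hx => Subgroup.mem_centralizer_iff.2 fun y hy => Local.elemAb_commute hcjA hy hx⟩
    have hle : cj (Wv A) g ≤ Wv (cj A g) := by
      rw [hWv, cj, Subgroup.map_iSup]
      refine iSup_le fun e => ?_
      rw [← heq e.1 g (big3_of_mem hA h3 e.2.1 e.2.2)]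
      exact le_iSup (fun f : {f : G // f ∈ cj A g ∧ f ≠ 1} => θ f) ⟨g * e.1 * g⁻¹, conj_mem_cj e.2.1,
        fun h => e.2.2 (conj_eq_one_iff.1 h)⟩
    exact hconst _ _ hv hAv ▸ hle (conj_mem_cj hx)
  have hWeq : Wv A = ⨆ e : {e : G // e ∈ A ∧ e ≠ 1}, θ e := by rw [hWv]
  have hbot : Wv A ≤ ⊥ := by
    haveI := hn
    rw [← hO]
    exact le_pPrimeCore (hWeq ▸ ((Nat.Prime.coprime_iff_not_dvd hp.out).2 hW.2.1).symm)
  exact le_bot_iff.1 ((le_iSup (fun e : {e : G // e ∈ A ∧ e ≠ 1} => θ e) ⟨a, haA, ha1⟩).trans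
    (hWeq.ge.trans hbot))

omit hp hC heq hbal in
theorem cj_Opc (K : Subgroup G) (g : G) : cj (Opc p K) g = Opc p (cj K g) := by
  have key : ∀ (L : Subgroup G) (x : G), cj (Opc p L) x ≤ Opc p (cj L x) := fun L x =>
    le_Opc (cj_mono (Opc_le p L) x) (by
      rw [← cj_normalizer]; exact cj_mono (self_le_normalizer_Opc p L) x)
      (by rw [card_cj]; exact Opc_coprime p L)
  refine le_antisymm (key K g) ?_
  have h := cj_mono (key (cj K g) g⁻¹) g
  rwa [cj_inv_cj, cj_cj_inv] at h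

omit hC heq hbal in
/-- A p'-group normalised by the centraliser of a p-group and centralising it lies in the p'-core. -/
theorem le_core_of_cent {K : Type u} [Group K] [Finite K] (hL : Cfsg.pLayer p K = ⊥) {P W : Subgroup K}
    (hP : IsPGroup p P) (hW : (Nat.card W).Coprime p) (hWP : W ≤ Subgroup.centralizer (P : Set K))
    (hn : Subgroup.centralizer (P : Set K) ≤ Subgroup.normalizer (W : Set K)) :
    W ≤ Cfsg.pPrimeCore p K := by
  obtain ⟨-, h2⟩ := normalizer_pConstrained (isPConstrained_iff_pLayer.2 hL) hP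
  refine le_trans ((le_Opc hWP hn hW).trans (le_Opc (N := Subgroup.normalizer (P : Set K))
    ((Opc_le p _).trans (Subgroup.centralizer_le_normalizer _)) ?_ (Opc_coprime p _))) h2
  refine le_trans ?_ (normalizer_le_normalizer_Opc p _)
  exact fun g hg => mem_normalizer_of_cj_le (by rw [cj_centralizer, cj_eq_self hg])

omit hC heq hbal in
/-- Balance for the cores of centralisers. -/
theorem core_balance {a b : G} (hpa : orderOf a = p) (hab : a * b = b * a)
    (hL : Cfsg.pLayer p ↥(Subgroup.centralizer ({b} : Set G)) = ⊥) :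
    Cfsg.centralizerPPrimeCore p a ⊓ Subgroup.centralizer {b} ≤ Cfsg.centralizerPPrimeCore p b := by
  obtain ⟨K, hK⟩ : ∃ K, K = Subgroup.centralizer ({b} : Set G) := ⟨_, rfl⟩
  obtain ⟨S, hS⟩ : ∃ S, S = Cfsg.centralizerPPrimeCore p a ⊓ K := ⟨_, rfl⟩
  have haK : a ∈ K := hK ▸ Subgroup.mem_centralizer_singleton_iff.2 hab
  have hSC : Cfsg.centralizerPPrimeCore p a ≤ Subgroup.centralizer {a} := Opc_le p _
  have hle : S.subgroupOf (Subgroup.centralizer ({b} : Set G)) ≤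
      Cfsg.pPrimeCore p ↥(Subgroup.centralizer ({b} : Set G)) := by
    subst hK
    refine le_core_of_cent hL (P := Subgroup.zpowers ⟨a, haK⟩) ?_ ?_ (fun x hx => ?_) fun x hx => ?_
    · refine IsPGroup.of_card (n := 1) ?_
      rw [Nat.card_zpowers, Subgroup.orderOf_mk, hpa, pow_one]
    · rw [Nat.card_congr (Subgroup.subgroupOfEquivOfLe (hS ▸ inf_le_right)).toEquiv]
      exact (Opc_coprime p _).coprime_dvd_left (Subgroup.card_dvd_of_le (hS ▸ inf_le_left : S ≤
        Opc p (Subgroup.centralizer ({a} : Set G))))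
    · refine Subgroup.mem_centralizer_iff.2 fun y hy => ?_
      obtain ⟨i, rfl⟩ := Subgroup.mem_zpowers_iff.1 hy
      refine Subtype.ext ?_
      rw [Subgroup.coe_mul, Subgroup.coe_mul, Subgroup.coe_zpow]
      exact ((show Commute (x : G) a from Subgroup.mem_centralizer_singleton_iff.1
        (hSC (Subgroup.mem_inf.1 (hS ▸ Subgroup.mem_subgroupOf.1 hx)).1)).zpow_right i).eq.symm
    · have hxa : (x : G) ∈ Subgroup.centralizer ({a} : Set G) :=
        Subgroup.mem_centralizer_singleton_iff.2 (congrArg Subtype.val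
          (Subgroup.mem_centralizer_iff.1 hx ⟨a, haK⟩ (Subgroup.mem_zpowers _))).symm
      rw [← Subgroup.subgroupOf_normalizer_eq (hS ▸ inf_le_right)]
      refine mem_normalizer_of_cj_le ?_
      rw [hS, cj_inf, cj_eq_self_of_mem (show (Subgroup.centralizer ({b} : Set G)).subtype x ∈ Subgroup.centralizer ({b} : Set G) from x.2)]
      exact inf_le_inf_right _ (cj_eq_self (self_le_normalizer_Opc p _ hxa)).le
  intro x hx
  have hxS : x ∈ S := hS ▸ hK ▸ hx
  exact ⟨⟨x, (Subgroup.mem_inf.1 hx).2⟩, hle hxS, rfl⟩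

omit hC heq hbal in
theorem gfit_eq_of_core_bot {K : Type u} [Group K] [Finite K] (h0 : Cfsg.pPrimeCore p K = ⊥)
    (hL : Cfsg.pLayer p K = ⊥) : Cfsg.generalizedFittingSubgroup K = Cfsg.pCore p K := by
  refine gfit_eq_pCore_iff.2 ?_
  have h := isPConstrained_iff.1 (isPConstrained_iff_pLayer.2 hL)
  exact centralizer_pCore_equiv
    ((QuotientGroup.quotientBot (G := K)).symm.trans (QuotientGroup.quotientMulEquivOfEq h0.symm)) h

end Cfsg.Agent.SSF
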