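import Cfsg.Agent.Lib.SSF.Cores

/-!
An element `e` whose fixed points on a p-group `V` are centralised by an abelian group `X`
forces `⁅X, e⁆` to centralise `V`.
-/

set_option autoImplicit false
set_option linter.style.haveILetI false

open Cfsg Cfsg.Agent Cfsg.Agent.Fusion
open scoped commutatorElement Pointwise

namespace Cfsg.Agent.SSF

variable {G : Type*} [Group G]

theorem cj_comm_zpowers {X : Subgroup G} {e g : G} (hgX : g ∈ Subgroup.normalizer (X : Set G))
    (hge : g * e = e * g) :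
    cj ⁅X, Subgroup.zpowers e⁆ g = ⁅X, Subgroup.zpowers e⁆ := by
  rw [cj_commutator, cj_eq_self hgX, cj_eq_self (Subgroup.centralizer_le_normalizer _
    (Subgroup.mem_centralizer_iff.2 fun t ht => ?_))]
  obtain ⟨i, rfl⟩ := Subgroup.mem_zpowers_iff.1 ht
  exact ((show Commute g e from hge).zpow_right i).eq.symm

theorem fpf_gen [Finite G] {v p : ℕ} [Fact v.Prime] (hp : p.Prime) (V X : Subgroup G)
    (hV : IsPGroup v V) (hX : IsMulCommutative X) {e : G} (hep : e ^ p = 1)
    (heV : e ∈ Subgroup.normalizer (V : Set G)) (heX : e ∈ Subgroup.normalizer (X : Set G))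
    (hXV : X ≤ Subgroup.normalizer (V : Set G)) (hvp : p ≠ v)
    (hcp : (Nat.card X).Coprime p) (hcv : (Nat.card X).Coprime v)
    (hfix : V ⊓ Subgroup.centralizer {e} ≤ Subgroup.centralizer (X : Set G)) :
    ⁅X, Subgroup.zpowers e⁆ ≤ Subgroup.centralizer (V : Set G) := by
  obtain ⟨S, hS⟩ : ∃ S, S = ⁅X, Subgroup.zpowers e⁆ := ⟨_, rfl⟩
  rw [← hS]
  have hzX : Subgroup.zpowers e ≤ Subgroup.normalizer (X : Set G) := Subgroup.zpowers_le.2 heX
  have hSX : S ≤ X := hS ▸ Subgroup.commutator_le.2 fun x hx t ht => comm_mem_left (hzX ht) hx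
  suffices key : ∀ (n : ℕ) (V : Subgroup G), Nat.card V = n → IsPGroup v V →
      e ∈ Subgroup.normalizer (V : Set G) → X ≤ Subgroup.normalizer (V : Set G) →
      V ⊓ Subgroup.centralizer {e} ≤ Subgroup.centralizer (X : Set G) →
      V ≤ Subgroup.centralizer (S : Set G) from
    Subgroup.le_centralizer_iff.1 (key _ V rfl hV heV hXV hfix)
  intro n
  induction n using Nat.strong_induction_on with
  | _ n ih =>
    intro V hn hV heV hXV hfix
    obtain ⟨W, hW⟩ : ∃ W, W = V ⊓ Subgroup.centralizer (S : Set G) := ⟨_, rfl⟩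
    by_cases heq : W = V
    · exact heq ▸ hW ▸ inf_le_right
    exfalso
    have hWV : W ≤ V := hW ▸ inf_le_left
    have heS : e ∈ Subgroup.normalizer (S : Set G) := mem_normalizer_of_cj_le (hS ▸ (cj_comm_zpowers heX rfl).le)
    have hXS : X ≤ Subgroup.normalizer (S : Set G) := fun x hx => Subgroup.centralizer_le_normalizer _
      (Subgroup.mem_centralizer_iff.2 fun s hs =>
        congrArg Subtype.val (hX.1.1 ⟨s, hSX hs⟩ ⟨x, hx⟩))
    have hnW : ∀ g, g ∈ Subgroup.normalizer (V : Set G) → g ∈ Subgroup.normalizer (S : Set G) →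
        g ∈ Subgroup.normalizer (W : Set G) := fun g h1 h2 => mem_normalizer_of_cj_le (by
      rw [hW, cj_inf, cj_eq_self h1, cj_centralizer, cj_eq_self h2])
    have heW := hnW e heV heS
    have hXW : X ≤ Subgroup.normalizer (W : Set G) := fun x hx => hnW x (hXV hx) (hXS hx)
    -- `W` is normal in `V` by induction
    have hWn : V ≤ Subgroup.normalizer (W : Set G) := by
      by_contra hn'
      obtain ⟨V₁, hV₁⟩ : ∃ V₁, V₁ = V ⊓ Subgroup.normalizer (W : Set G) := ⟨_, rfl⟩
      have hlt : V₁ < V := lt_of_le_not_ge (hV₁ ▸ inf_le_left) fun h => hn' (h.trans (hV₁ ▸ inf_le_right))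
      have hN1 : ∀ g, g ∈ Subgroup.normalizer (V : Set G) → g ∈ Subgroup.normalizer (W : Set G) →
          g ∈ Subgroup.normalizer (V₁ : Set G) := fun g h1 h2 => mem_normalizer_of_cj_le (by
        rw [hV₁, cj_inf, cj_eq_self h1, cj_normalizer, cj_eq_self h2])
      have h := ih _ (hn ▸ Solv.card_lt_of_lt hlt) V₁ rfl (hV.to_le hlt.le) (hN1 e heV heW)
        (fun x hx => hN1 x (hXV hx) (hXW hx)) ((inf_le_inf_right _ hlt.le).trans hfix)
      have hgrow := SylIn.normalizer_growth hWV heq hV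
      rw [← hV₁] at hgrow
      exact hgrow.not_ge (hW ▸ le_inf hlt.le h)
    -- pass to the quotient by `W`
    obtain ⟨N, hN⟩ : ∃ N, N = Subgroup.normalizer (W : Set G) := ⟨_, rfl⟩
    rw [← hN] at hWn hXW heW
    have hWN : W ≤ N := hN ▸ Subgroup.le_normalizer
    haveI : (W.subgroupOf N).Normal := (Subgroup.normal_subgroupOf_iff_le_normalizer hWN).2 hN.le
    let π := QuotientGroup.mk' (W.subgroupOf N)
    let eN : N := ⟨e, heW⟩
    have hsub : ∀ K : Subgroup G, K ≤ N → e ∈ Subgroup.normalizer (K : Set G) →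
        π eN ∈ Subgroup.normalizer ((K.subgroupOf N).map π : Set (N ⧸ W.subgroupOf N)) :=
      fun K hK heK => Subgroup.le_normalizer_map π (Subgroup.mem_map_of_mem π (by
        rw [← Subgroup.subgroupOf_normalizer_eq hK]; exact heK))
    have hcc : (Nat.card ↥((X.subgroupOf N).map π)) ∣ Nat.card X :=
      (Subgroup.card_map_dvd _ π).trans (Nat.card_congr (Subgroup.subgroupOfEquivOfLe hXW).toEquiv).dvd
    have hcomm : IsMulCommutative ↥((X.subgroupOf N).map π) := by
      refine ⟨⟨?_⟩⟩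
      rintro ⟨_, a, ha, rfl⟩ ⟨_, b, hb, rfl⟩
      refine Subtype.ext (show π a * π b = π b * π a from ?_)
      rw [← map_mul, ← map_mul]
      exact congrArg π (Subtype.ext (congrArg Subtype.val (hX.1.1 ⟨(a : G), ha⟩ ⟨(b : G), hb⟩) : (a : G) * b = b * a))
    have hfix' : (V.subgroupOf N).map π ⊓ Subgroup.centralizer {π eN} = ⊥ := by
      refine (Subgroup.eq_bot_iff_forall _).2 fun q hq => ?_
      obtain ⟨⟨w, hw, rfl⟩, hq2⟩ := Subgroup.mem_inf.1 hq
      have hqc : Commute (π w) (π eN) := Subgroup.mem_centralizer_singleton_iff.1 hq2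
      have hzV : Subgroup.zpowers e ≤ Subgroup.normalizer (V : Set G) := Subgroup.zpowers_le.2 heV
      obtain ⟨k, hk⟩ := IsPGroup.iff_card.1 hV
      obtain ⟨u, hu, huw⟩ := Solv.exists_fixed_in_coset' (Subgroup.zpowers e) V W hzV
        (by
          rw [Nat.card_zpowers, hk]
          exact Nat.Coprime.coprime_dvd_left (orderOf_dvd_of_pow_eq_one hep)
            (((Nat.coprime_primes hp (Fact.out : v.Prime)).2 hvp).pow_right k))
        (Or.inr (by haveI := hV.isNilpotent; infer_instance)) hWV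
        ((Subgroup.zpowers_le.2 heW).trans hN.le) (x := (w : G)) hw (fun z hz => by
          obtain ⟨i, rfl⟩ := Subgroup.mem_zpowers_iff.1 hz
          have h1 : π w = π (eN ^ i * w * (eN ^ i)⁻¹) := by
            rw [map_mul, map_mul, map_inv, map_zpow, ← (hqc.zpow_right i).eq, mul_inv_cancel_right]
          have h2 := QuotientGroup.eq.1 h1
          simpa [Subgroup.mem_subgroupOf, eN] using h2)
      have hue : u ∈ V ⊓ Subgroup.centralizer {e} := Subgroup.mem_inf.2 ⟨(Subgroup.mem_inf.1 hu).1,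
        Subgroup.mem_centralizer_singleton_iff.2
          (Subgroup.mem_centralizer_iff.1 (Subgroup.mem_inf.1 hu).2 e (Subgroup.mem_zpowers e)).symm⟩
      have huW : u ∈ W := hW ▸ Subgroup.mem_inf.2
        ⟨(Subgroup.mem_inf.1 hu).1, Subgroup.centralizer_le hSX (hfix hue)⟩
      refine (QuotientGroup.eq_one_iff w).2 ?_
      have := mul_mem huW (inv_mem huw)
      rwa [mul_inv_rev, inv_inv, mul_inv_cancel_left] at this
    have hco : (Nat.card ↥((X.subgroupOf N).map π)).Coprime (Nat.card ↥((V.subgroupOf N).map π)) := by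
      refine (Nat.Coprime.coprime_dvd_left hcc ?_).coprime_dvd_right
        ((Subgroup.card_map_dvd _ π).trans (Nat.card_congr (Subgroup.subgroupOfEquivOfLe hWn).toEquiv).dvd)
      obtain ⟨k, hk⟩ := IsPGroup.iff_card.1 hV
      exact hk ▸ hcv.pow_right k
    have h := fpf ((V.subgroupOf N).map π) ((X.subgroupOf N).map π) hcomm hp
      (e := π eN) (by rw [← map_pow, show eN ^ p = 1 from Subtype.ext hep, map_one])
      (hsub V hWn heV) (hsub X hXW heX)
      (by
        refine (Subgroup.map_mono ?_).trans (Subgroup.le_normalizer_map π)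
        intro x hx
        rw [← Subgroup.subgroupOf_normalizer_eq hWn]
        exact hXV hx)
      hfix' (hcp.coprime_dvd_left hcc) hco
    -- `S` acts trivially on `V / W`
    have hVS : ⁅V, S⁆ ≤ W := Subgroup.commutator_le.2 fun w hw s hs => by
      have hsπ : π ⟨s, hXW (hSX hs)⟩ ∈ ⁅(X.subgroupOf N).map π, Subgroup.zpowers (π eN)⁆ := by
        rw [← MonoidHom.map_zpowers, ← Subgroup.map_commutator]
        refine Subgroup.mem_map_of_mem π ?_
        have hmap : (⁅X.subgroupOf N, Subgroup.zpowers eN⁆).map N.subtype = S := by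
          rw [Subgroup.map_commutator, Subgroup.map_subgroupOf_eq_of_le hXW, MonoidHom.map_zpowers]
          exact hS.symm
        obtain ⟨s', hs', he⟩ := hmap.ge hs
        rwa [show (⟨s, hXW (hSX hs)⟩ : N) = s' from Subtype.ext he.symm]
      have h1 := Subgroup.mem_centralizer_iff.1 (h hsπ) (π ⟨w, hWn hw⟩) ⟨⟨w, hWn hw⟩, hw, rfl⟩
      have h2 : π ⁅(⟨w, hWn hw⟩ : N), ⟨s, hXW (hSX hs)⟩⁆ = 1 := by
        rw [map_commutatorElement, commutatorElement_eq_one_iff_mul_comm]; exact h1
      exact (QuotientGroup.eq_one_iff (⁅(⟨w, hWn hw⟩ : N), ⟨s, hXW (hSX hs)⟩⁆ : N)).1 h2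
    -- hence `⁅V, S⁆ = ⁅V, S, S⁆ = 1`
    have hsolV : Group.IsSolvable V := by haveI := hV.isNilpotent; infer_instance
    have hSV : S ≤ Subgroup.normalizer (V : Set G) := hSX.trans hXV
    have hcoS : (Nat.card S).Coprime (Nat.card V) := by
      obtain ⟨k, hk⟩ := IsPGroup.iff_card.1 hV
      exact hk ▸ (hcv.coprime_dvd_left (Subgroup.card_dvd_of_le hSX)).pow_right k
    refine heq (le_antisymm hWV (hW ▸ le_inf le_rfl ?_))
    rw [← Subgroup.commutator_eq_bot_iff_le_centralizer]
    rw [← Solv.commutator_commutator_eq hSV hcoS (Or.inr hsolV), eq_bot_iff]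
    refine (Subgroup.commutator_mono hVS le_rfl).trans (le_of_eq ?_)
    rw [Subgroup.commutator_eq_bot_iff_le_centralizer, hW]
    exact inf_le_right

end Cfsg.Agent.SSF
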