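import Cfsg.Agent.Lib.SSF.GoodBar

/-!
Elementary sections of a suitable invariant subgroup have large index on a reduced module.
-/

set_option autoImplicit false
set_option linter.style.haveILetI false

open Cfsg Cfsg.Agent Cfsg.Agent.Fusion
open scoped commutatorElement Pointwise

namespace Cfsg.Agent.SSF

universe u

variable {G : Type u} [Group G] [Finite G] {p q : ℕ} [hp : Fact p.Prime] [hq : Fact q.Prime]

/-- No normal subgroup acts on `W` as a non-trivial `q`-group. -/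
def Red (q : ℕ) (M W : Subgroup G) : Prop :=
  ∀ N : Subgroup G, N ≤ M → M ≤ Subgroup.normalizer (N : Set G) →
    M ⊓ Subgroup.centralizer (W : Set G) ≤ N →
      (∀ g ∈ N, ∃ k : ℕ, g ^ q ^ k ∈ Subgroup.centralizer (W : Set G)) →
        N ≤ Subgroup.centralizer (W : Set G)

theorem good_act (hq23 : (q = 2 ∧ p ≠ 2) ∨ (q = 3 ∧ 5 ≤ p)) {W A M X R : Subgroup G}
    (hW : IsElementaryAbelian q W) (hA : IsElementaryAbelian p A)
    (hAW : A ≤ Subgroup.normalizer (W : Set G)) (hMW : M ≤ Subgroup.normalizer (W : Set G))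
    (hAM : A ≤ Subgroup.normalizer (M : Set G)) (hMs : Group.IsSolvable M) (hpM : ¬ p ∣ Nat.card M)
    (hred : Red q M W) (hXM : X ≤ M) (hAX : A ≤ Subgroup.normalizer (X : Set G))
    (hCX : M ⊓ Subgroup.centralizer (A : Set G) ≤ Subgroup.normalizer (X : Set G)) (hRX : R ≤ X)
    (hR : IsPGroup q R)
    (hkill : ∀ y ∈ X, (orderOf y).Coprime q →
      y ∈ Subgroup.centralizer (↑(W ⊓ Subgroup.centralizer (R : Set G)) : Set G))
    {B : Subgroup G} (hBX : B ≤ X) (hBq : ∀ b ∈ B, b ^ q ∈ Subgroup.centralizer (W : Set G))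
    (hBc : ∀ b ∈ B, ∀ b' ∈ B, ⁅b, b'⁆ ∈ Subgroup.centralizer (W : Set G)) :
    B ≤ Subgroup.centralizer (W : Set G) ∨
      q ^ 2 * Nat.card B * Nat.card ↥(W ⊓ Subgroup.centralizer (B : Set G)) ≤
        Nat.card W * Nat.card ↥(B ⊓ Subgroup.centralizer (W : Set G)) := by
  classical
  obtain ⟨N, hN⟩ : ∃ N, N = Subgroup.normalizer (W : Set G) := ⟨_, rfl⟩
  let φ₀ : N →* MulAut W := W.normalizerMonoidHom.comp (Subgroup.inclusion hN.le)
  let Γ := W ⋊[MonoidHom.id (MulAut W)] MulAut W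
  haveI : Finite Γ := Finite.of_equiv (W × MulAut W) SemidirectProduct.equivProd.symm
  let ι : W →* Γ := SemidirectProduct.inl
  let ψ : N →* Γ := SemidirectProduct.inr.comp φ₀
  let im : Subgroup G → Subgroup Γ := fun S => (S.subgroupOf N).map ψ
  have hconj : ∀ (g : N) (w : W), ψ g * ι w * (ψ g)⁻¹ =
      ι ⟨(g : G) * w * (g : G)⁻¹, nrm (hN.le g.2) w.2⟩ := fun g w => by
    show SemidirectProduct.inr (φ₀ g) * SemidirectProduct.inl w * (SemidirectProduct.inr (φ₀ g))⁻¹ = _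
    rw [← map_inv SemidirectProduct.inr, ← SemidirectProduct.inl_aut]
    rfl
  have hker : ∀ g : N, ψ g = 1 ↔ (g : G) ∈ Subgroup.centralizer (W : Set G) := fun g => by
    show SemidirectProduct.inr (φ₀ g) = (1 : Γ) ↔ _
    rw [← map_one SemidirectProduct.inr, SemidirectProduct.inr_injective.eq_iff, ← MonoidHom.mem_ker]
    show Subgroup.inclusion hN.le g ∈ W.normalizerMonoidHom.ker ↔ _
    rw [Subgroup.normalizerMonoidHom_ker, Subgroup.mem_subgroupOf]
    rfl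
  have hmem : ∀ {S : Subgroup G}, S ≤ N → ∀ {y : Γ}, y ∈ im S ↔ ∃ g : N, (g : G) ∈ S ∧ ψ g = y :=
    fun _ _ => ⟨fun ⟨g, hg, h⟩ => ⟨g, hg, h⟩, fun ⟨g, hg, h⟩ => ⟨g, hg, h⟩⟩
  have hAN : A ≤ N := hN ▸ hAW
  have hMN : M ≤ N := hN ▸ hMW
  have hXN : X ≤ N := hXM.trans hMN
  have hBN : B ≤ N := hBX.trans hXN
  have hnrm : ∀ {S T : Subgroup G}, S ≤ N → T ≤ N → S ≤ Subgroup.normalizer (T : Set G) →
      im S ≤ Subgroup.normalizer (im T : Set Γ) := by
    intro S T hS hT h y hy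
    obtain ⟨g, hg, rfl⟩ := (hmem hS).1 hy
    refine mem_normalizer_of_cj_le ?_
    rintro _ ⟨z, hz, rfl⟩
    obtain ⟨t, ht, rfl⟩ := (hmem hT).1 hz
    exact (hmem hT).2 ⟨g * t * g⁻¹, nrm (h hg) ht, by rw [map_mul, map_mul, map_inv]; rfl⟩
  obtain ⟨W', hW'⟩ : ∃ W', W' = ι.range := ⟨_, rfl⟩
  have hmW : ∀ w : W, ι w ∈ W' := fun w => hW' ▸ ⟨w, rfl⟩
  have hWc : ∀ {S : Subgroup G}, S ≤ N → im S ≤ Subgroup.normalizer (W' : Set Γ) := by
    intro S hS y hy
    obtain ⟨g, -, rfl⟩ := (hmem hS).1 hy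
    refine mem_normalizer_of_cj_le ?_
    rintro _ ⟨z, hz, rfl⟩
    rw [hW'] at hz
    obtain ⟨w, rfl⟩ := hz
    show ψ g * ι w * (ψ g)⁻¹ ∈ W'
    rw [hconj]
    exact hmW _
  have hfix : ∀ {S : Subgroup G}, S ≤ N → ∀ w : W, ι w ∈ Subgroup.centralizer (im S : Set Γ) ↔
      (w : G) ∈ Subgroup.centralizer (S : Set G) := by
    intro S hS w
    rw [Subgroup.mem_centralizer_iff, Subgroup.mem_centralizer_iff]
    constructor
    · intro h g hg
      have h2 := hconj ⟨g, hS hg⟩ w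
      rw [h _ ((hmem hS).2 ⟨⟨g, hS hg⟩, hg, rfl⟩), mul_inv_cancel_right] at h2
      exact mul_inv_eq_iff_eq_mul.1 (congrArg Subtype.val (SemidirectProduct.inl_injective h2)).symm
    · intro h y hy
      obtain ⟨g, hg, rfl⟩ := (hmem hS).1 hy
      have h2 := hconj g w
      rw [show (⟨(g : G) * w * (g : G)⁻¹, nrm (hN.le g.2) w.2⟩ : W) = w from
        Subtype.ext (mul_inv_eq_iff_eq_mul.2 (h g hg))] at h2
      exact mul_inv_eq_iff_eq_mul.1 h2
  have hfaithful : ∀ g : N, ψ g ∈ Subgroup.centralizer (W' : Set Γ) → ψ g = 1 := fun g hg =>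
    (hker g).2 (Subgroup.mem_centralizer_iff.2 fun w hw => by
      have h2 := hconj g ⟨w, hw⟩
      rw [(Subgroup.mem_centralizer_iff.1 hg _ (hmW ⟨w, hw⟩)).symm, mul_inv_cancel_right] at h2
      exact (mul_inv_eq_iff_eq_mul.1 (congrArg Subtype.val (SemidirectProduct.inl_injective h2)).symm).symm)
  have hW'e : IsElementaryAbelian q W' := by
    subst hW'
    refine ⟨⟨⟨fun a b => Subtype.ext ?_⟩⟩, ?_⟩
    · obtain ⟨v, hv⟩ := a.2
      obtain ⟨w, hw⟩ := b.2
      show (a : Γ) * b = b * a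
      rw [← hv, ← hw, ← map_mul, ← map_mul,
        show v * w = w * v from Subtype.ext (Local.elemAb_commute hW v.2 w.2)]
    · rintro _ ⟨w, rfl⟩
      rw [← map_pow, show w ^ q = 1 from Subtype.ext (hW.2 w w.2), map_one]
  have hA'e : IsElementaryAbelian p (im A) := by
    refine ⟨⟨⟨fun a b => Subtype.ext ?_⟩⟩, fun y hy => ?_⟩
    · obtain ⟨g, hg, hg'⟩ := (hmem hAN).1 a.2
      obtain ⟨h, hh, hh'⟩ := (hmem hAN).1 b.2
      show (a : Γ) * b = b * a
      rw [← hg', ← hh', ← map_mul, ← map_mul,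
        show g * h = h * g from Subtype.ext (Local.elemAb_commute hA hg hh)]
    · obtain ⟨g, hg, rfl⟩ := (hmem hAN).1 hy
      rw [← map_pow, show g ^ p = 1 from Subtype.ext (hA.2 g hg), map_one]
  have hcard : ∀ S : Subgroup G, S ≤ N → Nat.card (im S) ∣ Nat.card S := fun S hS =>
    (Subgroup.card_map_dvd _ ψ).trans (dvd_of_eq (Nat.card_congr (Subgroup.subgroupOfEquivOfLe hS).toEquiv))
  have d : GoodCtx p q W' (im A) (im M) (im X) (im R) := by
    refine ⟨hq23, hW'e, hA'e, hWc hAN, hWc hMN, hnrm hAN hMN hAM,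
      Solv.isSolvable_map ψ (Solv.isSolvable_subgroupOf hMN hMs), fun h => hpM (h.trans (hcard M hMN)),
      ?_, ?_, Subgroup.map_mono (Subgroup.comap_mono hXM), hnrm hAN hXN hAX, ?_,
      Subgroup.map_mono (Subgroup.comap_mono hRX),
      (hR.of_equiv (Subgroup.subgroupOfEquivOfLe (hRX.trans hXN)).symm).map ψ, ?_⟩
    · refine (Subgroup.eq_bot_iff_forall _).2 fun y hy => ?_
      obtain ⟨g, -, rfl⟩ := (hmem hMN).1 (Subgroup.mem_inf.1 hy).1
      exact hfaithful g (Subgroup.mem_inf.1 hy).2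
    · -- the preimage of the core
      obtain ⟨O, hO⟩ : ∃ O, O = Ox q (im M) := ⟨_, rfl⟩
      rw [← hO]
      obtain ⟨N₀, hN₀⟩ : ∃ N₀, N₀ = (O.comap ψ).map N.subtype ⊓ M := ⟨_, rfl⟩
      have hm₀ : ∀ g : N, (g : G) ∈ N₀ ↔ ψ g ∈ O ∧ (g : G) ∈ M := fun g => by
        rw [hN₀, Subgroup.mem_inf]
        refine and_congr_left fun _ => ⟨?_, fun h => ⟨g, h, rfl⟩⟩
        rintro ⟨g', hg', he⟩
        rwa [← Subtype.ext he]
      have hN₀M : N₀ ≤ M := hN₀ ▸ inf_le_right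
      have h := hred N₀ hN₀M (fun g hg => mem_normalizer_of_cj_le (by
          rintro _ ⟨t, ht, rfl⟩
          refine (hm₀ (⟨g, hMN hg⟩ * ⟨t, hMN (hN₀M ht)⟩ * ⟨g, hMN hg⟩⁻¹)).2 ⟨?_, ?_⟩
          · rw [map_mul, map_mul, map_inv]
            exact nrm (hO ▸ self_le_normalizer_Ox q (im M) ((hmem hMN).2 ⟨⟨g, hMN hg⟩, hg, rfl⟩))
              ((hm₀ ⟨t, hMN (hN₀M ht)⟩).1 ht).1
          · exact mul_mem (mul_mem hg (hN₀M ht)) (inv_mem hg)))
        (fun g hg => (hm₀ ⟨g, hMN (Subgroup.mem_inf.1 hg).1⟩).2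
          ⟨by rw [(hker _).2 (Subgroup.mem_inf.1 hg).2]; exact one_mem O, (Subgroup.mem_inf.1 hg).1⟩)
        fun g hg => by
          obtain ⟨hgO, -⟩ := (hm₀ ⟨g, hMN (hN₀M hg)⟩).1 hg
          obtain ⟨k, hk⟩ := (hO ▸ isPGroup_Ox q (im M) : IsPGroup q O) ⟨_, hgO⟩
          refine ⟨k, (hker (⟨g, hMN (hN₀M hg)⟩ ^ q ^ k)).1 ?_⟩
          rw [map_pow]
          exact congrArg Subtype.val hk
      refine (Subgroup.eq_bot_iff_forall _).2 fun y hy => ?_
      obtain ⟨g, hg, rfl⟩ := (hmem hMN).1 (Ox_le q (im M) (hO ▸ hy))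
      exact (hker g).2 (h ((hm₀ g).2 ⟨hy, hg⟩))
    · intro y hy
      obtain ⟨hy1, hy2⟩ := Subgroup.mem_inf.1 hy
      obtain ⟨g, hg, rfl⟩ := (hmem hMN).1 hy1
      obtain ⟨c, hc, hgc⟩ := Solv.exists_fixed_in_coset' A M (M ⊓ Subgroup.centralizer (W : Set G)) hAM
        (elab_coprime hA hpM)
        (Or.inl (Group.isSolvable_of_comm fun a b => Subtype.ext (Local.elemAb_commute hA a.2 b.2)))
        inf_le_left (fun a ha => mem_normalizer_of_cj_le (by
          rw [cj_inf, cj_centralizer, cj_eq_self (hAM ha), cj_eq_self (hAW ha)])) hg fun a ha => by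
          refine Subgroup.mem_inf.2 ⟨mul_mem (inv_mem hg) (nrm (hAM ha) hg),
            (hker (g⁻¹ * (⟨a, hAN ha⟩ * g * ⟨a, hAN ha⟩⁻¹))).1 ?_⟩
          rw [map_mul, map_mul, map_mul, map_inv, map_inv,
            Subgroup.mem_centralizer_iff.1 hy2 _ ((hmem hAN).2 ⟨⟨a, hAN ha⟩, ha, rfl⟩),
            mul_inv_cancel_right, inv_mul_cancel]
      have he : ψ g = ψ ⟨c, hMN (Subgroup.mem_inf.1 hc).1⟩ := by
        refine inv_mul_eq_one.1 ?_
        rw [← map_inv, ← map_mul, hker]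
        exact (Subgroup.mem_inf.1 hgc).2
      rw [he]
      refine mem_normalizer_of_cj_le ?_
      rintro _ ⟨z, hz, rfl⟩
      obtain ⟨t, ht, rfl⟩ := (hmem hXN).1 hz
      exact (hmem hXN).2 ⟨⟨c, hMN (Subgroup.mem_inf.1 hc).1⟩ * t * ⟨c, hMN (Subgroup.mem_inf.1 hc).1⟩⁻¹,
        nrm (hCX hc) ht, by rw [map_mul, map_mul, map_inv]; rfl⟩
    · intro y hy hyq
      obtain ⟨g, hg, rfl⟩ := (hmem hXN).1 hy
      -- a power of coprime order with the same image up to a power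
      have h0 : orderOf (g : G) ≠ 0 := (orderOf_pos (g : G)).ne'
      obtain ⟨n, hn⟩ : ∃ n, n = ordProj[q] (orderOf (g : G)) := ⟨_, rfl⟩
      have hco : (orderOf ((g : G) ^ n)).Coprime q := by
        rw [orderOf_pow_of_dvd (hn ▸ (pow_pos hq.out.pos _).ne') (hn ▸ Nat.ordProj_dvd _ q), hn]
        exact (Nat.coprime_ordCompl hq.out h0).symm
      obtain ⟨m, hm⟩ := exists_pow_eq_self_of_coprime (x := ψ g) (n := n)
        (hn ▸ (hyq.symm.pow_left _))
      rw [← hm]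
      refine pow_mem ?_ m
      rw [← map_pow]
      refine Subgroup.mem_centralizer_iff.2 fun z hz => ?_
      obtain ⟨hz1, hz2⟩ := Subgroup.mem_inf.1 hz
      rw [hW'] at hz1
      obtain ⟨w, rfl⟩ := hz1
      have hwR : (w : G) ∈ W ⊓ Subgroup.centralizer (R : Set G) :=
        Subgroup.mem_inf.2 ⟨w.2, (hfix (hRX.trans hXN) w).1 hz2⟩
      have h := Subgroup.mem_centralizer_iff.1 (hkill _ (pow_mem hg n) hco) _ hwR
      have h2 := hconj (g ^ n) w
      rw [show (⟨((g ^ n : N) : G) * w * ((g ^ n : N) : G)⁻¹, nrm (hN.le (g ^ n).2) w.2⟩ : W) = w from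
        Subtype.ext (by
          show ((g ^ n : N) : G) * w * ((g ^ n : N) : G)⁻¹ = w
          rw [Subgroup.coe_pow]; exact mul_inv_eq_iff_eq_mul.2 h.symm)] at h2
      exact (mul_inv_eq_iff_eq_mul.1 h2).symm
  by_cases hle : B ≤ Subgroup.centralizer (W : Set G)
  · exact Or.inl hle
  refine Or.inr ?_
  have hB'e : IsElementaryAbelian q (im B) := by
    refine ⟨⟨⟨fun a b => Subtype.ext ?_⟩⟩, fun y hy => ?_⟩
    · obtain ⟨g, hg, hg'⟩ := (hmem hBN).1 a.2
      obtain ⟨h, hh, hh'⟩ := (hmem hBN).1 b.2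
      show (a : Γ) * b = b * a
      rw [← hg', ← hh', ← commutatorElement_eq_one_iff_mul_comm, ← map_commutatorElement, hker]
      exact hBc g hg h hh
    · obtain ⟨g, hg, rfl⟩ := (hmem hBN).1 hy
      rw [← map_pow, hker]
      exact hBq g hg
  have hne : im B ≠ ⊥ := fun h => hle fun b hb =>
    (hker ⟨b, hBN hb⟩).1 (Subgroup.mem_bot.1 (h ▸ (hmem hBN).2 ⟨⟨b, hBN hb⟩, hb, rfl⟩))
  have hb := d.bound hB'e (Subgroup.map_mono (Subgroup.comap_mono hBX)) hne
  have e1 : Nat.card W' = Nat.card W := by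
    rw [hW']
    exact Nat.card_congr (MonoidHom.ofInjective SemidirectProduct.inl_injective).toEquiv.symm
  have e2 : Nat.card ↥(W' ⊓ Subgroup.centralizer (im B : Set Γ)) =
      Nat.card ↥(W ⊓ Subgroup.centralizer (B : Set G)) := by
    have he : W' ⊓ Subgroup.centralizer (im B : Set Γ) =
        ((Subgroup.centralizer (B : Set G)).subgroupOf W).map ι := by
      ext z
      refine ⟨fun hz => ?_, ?_⟩
      · rw [hW', Subgroup.mem_inf] at hz
        obtain ⟨⟨w, rfl⟩, hz2⟩ := hz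
        exact ⟨w, (hfix hBN w).1 hz2, rfl⟩
      · rintro ⟨w, hw, rfl⟩
        exact Subgroup.mem_inf.2 ⟨hmW w, (hfix hBN w).2 hw⟩
    rw [he, Subgroup.card_map_of_injective SemidirectProduct.inl_injective,
      ← Subgroup.card_map_of_injective W.subtype_injective, Subgroup.subgroupOf_map_subtype, inf_comm]
  have e3 : Nat.card (im B) * Nat.card ↥(B ⊓ Subgroup.centralizer (W : Set G)) = Nat.card B := by
    let β : B →* Γ := ψ.comp (Subgroup.inclusion hBN)
    have hr : β.range = im B := by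
      ext y
      exact ⟨fun ⟨b, hb⟩ => (hmem hBN).2 ⟨_, b.2, hb⟩, fun hy => by
        obtain ⟨g, hg, rfl⟩ := (hmem hBN).1 hy
        exact ⟨⟨g, hg⟩, rfl⟩⟩
    have hk : β.ker.map B.subtype = B ⊓ Subgroup.centralizer (W : Set G) := by
      ext b
      exact ⟨fun ⟨b', hb', he⟩ => he ▸ Subgroup.mem_inf.2 ⟨b'.2, (hker _).1 hb'⟩,
        fun hb => ⟨⟨b, (Subgroup.mem_inf.1 hb).1⟩, (hker _).2 (Subgroup.mem_inf.1 hb).2, rfl⟩⟩
    rw [← hr, ← hk, Subgroup.card_map_of_injective B.subtype_injective, ← Subgroup.index_ker, mul_comm,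
      Subgroup.card_mul_index]
  rw [e1, offMeasure, e2] at hb
  calc q ^ 2 * Nat.card B * Nat.card ↥(W ⊓ Subgroup.centralizer (B : Set G))
      = q ^ 2 * (Nat.card (im B) * Nat.card ↥(W ⊓ Subgroup.centralizer (B : Set G))) *
          Nat.card ↥(B ⊓ Subgroup.centralizer (W : Set G)) := by rw [← e3]; ring
    _ ≤ _ := Nat.mul_le_mul_right _ hb

end Cfsg.Agent.SSF
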