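import Cfsg.Agent.Lib.SSF.Cores
import Cfsg.Agent.Lib.Local.ElemAb

/-!
A group of coprime order which is normalised by a group of prime power order and centralises the
fixed points of the latter on an abelian module of that prime power order centralises the module.
-/

set_option autoImplicit false
set_option linter.style.haveILetI false

open Cfsg Cfsg.Agent Cfsg.Agent.Fusion
open scoped commutatorElement Pointwise

namespace Cfsg.Agent.SSF

universe u

variable {G : Type u} [Group G] [Finite G]

/-- Commutators with a coprime group have no fixed points in an abelian group. -/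
theorem coprime_comm_inf {W F : Subgroup G} (hW : ∀ a ∈ W, ∀ b ∈ W, a * b = b * a)
    (hFW : F ≤ Subgroup.normalizer (W : Set G)) (hco : (Nat.card W).Coprime (Nat.card F)) :
    ⁅W, F⁆ ⊓ Subgroup.centralizer (F : Set G) = ⊥ := by
  classical
  haveI := Fintype.ofFinite F
  letI : CommGroup W :=
    { W.toGroup with mul_comm := fun a b => Subtype.ext (hW a a.2 b b.2) }
  let c : F → W → W := fun f w => ⟨(f : G) * w * (f : G)⁻¹, nrm (hFW f.2) w.2⟩
  let φ : W →* W := MonoidHom.mk' (fun w => ∏ f : F, c f w) fun a b => by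
    rw [← Finset.prod_mul_distrib]
    refine Finset.prod_congr rfl fun f _ => Subtype.ext ?_
    show (f : G) * ((a : G) * b) * (f : G)⁻¹ = (f : G) * a * (f : G)⁻¹ * ((f : G) * b * (f : G)⁻¹)
    group
  have hφ : ∀ (g : F) (w : W), φ (c g w) = φ w := fun g w => by
    show ∏ f : F, c f (c g w) = ∏ f : F, c f w
    refine Fintype.prod_equiv (Equiv.mulRight g) _ _ fun f => Subtype.ext ?_
    show (f : G) * ((g : G) * w * (g : G)⁻¹) * (f : G)⁻¹ =
      ((f * g : F) : G) * w * ((f * g : F) : G)⁻¹
    rw [Subgroup.coe_mul]; group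
  have hle : ⁅W, F⁆ ≤ φ.ker.map W.subtype := Subgroup.commutator_le.2 fun w hw f hf => by
    refine ⟨⟨w, hw⟩ * (c ⟨f, hf⟩ ⟨w, hw⟩)⁻¹, ?_, ?_⟩
    · show φ _ = 1
      rw [map_mul, map_inv, hφ, mul_inv_cancel]
    · show w * (f * w * f⁻¹)⁻¹ = ⁅w, f⁆
      rw [commutatorElement_def]; group
  refine (Subgroup.eq_bot_iff_forall _).2 fun v hv => ?_
  obtain ⟨hv1, hv2⟩ := Subgroup.mem_inf.1 hv
  obtain ⟨w, hw, rfl⟩ := hle hv1
  have h1 : φ w = w ^ Nat.card F := by
    show ∏ f : F, c f w = _
    rw [Finset.prod_congr rfl (fun f _ => (Subtype.ext (by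
      show (f : G) * w * (f : G)⁻¹ = (w : G)
      exact mul_inv_eq_iff_eq_mul.2 (Subgroup.mem_centralizer_iff.1 hv2 f f.2)) : c f w = w)),
      Finset.prod_const, Finset.card_univ, Nat.card_eq_fintype_card]
  have h2 : w ^ Nat.card F = 1 := h1 ▸ hw
  have h3 : orderOf w = 1 :=
    Nat.eq_one_of_dvd_coprimes hco (orderOf_dvd_natCard w) (orderOf_dvd_of_pow_eq_one h2)
  rw [orderOf_eq_one_iff.1 h3]
  rfl

/-- A coprime group centralising the fixed points of a normalising group of prime power order on an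
abelian group of that prime power order centralises it. -/
theorem kill_comm {q : ℕ} [Fact q.Prime] {W F R : Subgroup G} (hW : IsElementaryAbelian q W)
    (hF : (Nat.card F).Coprime q) (hR : IsPGroup q R) (hFW : F ≤ Subgroup.normalizer (W : Set G))
    (hRV' : R ≤ Subgroup.normalizer ((⁅W, F⁆ : Subgroup G) : Set G))
    (h : W ⊓ Subgroup.centralizer (R : Set G) ≤ Subgroup.centralizer (F : Set G)) :
    F ≤ Subgroup.centralizer (W : Set G) := by
  have hWc : ∀ a ∈ W, ∀ b ∈ W, a * b = b * a := fun a ha b hb => Local.elemAb_commute hW ha hb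
  refine Subgroup.le_centralizer_iff.1 (Subgroup.commutator_eq_bot_iff_le_centralizer.1 ?_)
  obtain ⟨V, hV⟩ : ∃ V, V = ⁅W, F⁆ := ⟨_, rfl⟩
  rw [← hV]
  by_contra hne
  have hWq := Local.elemAb_isPGroup hW
  have hVW : V ≤ W := hV ▸ Subgroup.commutator_le.2 fun w hw f hf => comm_mem_left (hFW hf) hw
  have hRV : R ≤ Subgroup.normalizer (V : Set G) := hV ▸ hRV'
  have hco : (Nat.card W).Coprime (Nat.card F) := by
    obtain ⟨n, hn⟩ := IsPGroup.iff_card.1 hWq
    rw [hn]
    exact hF.symm.pow_left n
  have h1 := meet_center ((hWq.to_le hVW).to_sup_of_normal_left' hR hRV) le_sup_left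
    (sup_le Subgroup.le_normalizer hRV) hne
  refine h1 (le_bot_iff.1 (le_trans (le_inf inf_le_left ?_)
    (hV ▸ (coprime_comm_inf hWc hFW hco)).le))
  exact (le_inf (inf_le_left.trans hVW)
    (inf_le_right.trans (Subgroup.centralizer_le (le_sup_right : R ≤ V ⊔ R)))).trans h

/-- The special case of a group normalised by the group of prime power order. -/
theorem kill {q : ℕ} [Fact q.Prime] {W F R : Subgroup G} (hW : IsElementaryAbelian q W)
    (hF : (Nat.card F).Coprime q) (hR : IsPGroup q R) (hFW : F ≤ Subgroup.normalizer (W : Set G))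
    (hRW : R ≤ Subgroup.normalizer (W : Set G)) (hRF : R ≤ Subgroup.normalizer (F : Set G))
    (h : W ⊓ Subgroup.centralizer (R : Set G) ≤ Subgroup.centralizer (F : Set G)) :
    F ≤ Subgroup.centralizer (W : Set G) :=
  kill_comm hW hF hR hFW (fun g hg => mem_normalizer_of_cj_le (by
    rw [cj_commutator, cj_eq_self (hRW hg), cj_eq_self (hRF hg)])) h

end Cfsg.Agent.SSF
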