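import Cfsg.Agent.Lib.SSF.NoTwo
import Cfsg.Agent.Lib.SSF.Kill
import Cfsg.Agent.Lib.Fusion.OffenderBound

/-!
Elementary subgroups of a suitable invariant subgroup have large index on the module, in the
faithful case.
-/

set_option autoImplicit false
set_option linter.style.haveILetI false

open Cfsg Cfsg.Agent Cfsg.Agent.Fusion
open scoped commutatorElement Pointwise

namespace Cfsg.Agent.SSF

universe u

variable {G : Type u} [Group G] [Finite G] {p q : ℕ} [hp : Fact p.Prime] [hq : Fact q.Prime]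

/-- The hypotheses of the bound, in the faithful case. -/
structure GoodCtx (p q : ℕ) (W A M X R : Subgroup G) : Prop where
  hq23 : (q = 2 ∧ p ≠ 2) ∨ (q = 3 ∧ 5 ≤ p)
  hW : IsElementaryAbelian q W
  hA : IsElementaryAbelian p A
  hAW : A ≤ Subgroup.normalizer (W : Set G)
  hMW : M ≤ Subgroup.normalizer (W : Set G)
  hAM : A ≤ Subgroup.normalizer (M : Set G)
  hMs : Group.IsSolvable M
  hpM : ¬ p ∣ Nat.card M
  hfaith : M ⊓ Subgroup.centralizer (W : Set G) = ⊥
  hOq : Ox q M = ⊥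
  hXM : X ≤ M
  hAX : A ≤ Subgroup.normalizer (X : Set G)
  hCX : M ⊓ Subgroup.centralizer (A : Set G) ≤ Subgroup.normalizer (X : Set G)
  hRX : R ≤ X
  hR : IsPGroup q R
  hkill : ∀ y ∈ X, (orderOf y).Coprime q →
    y ∈ Subgroup.centralizer (↑(W ⊓ Subgroup.centralizer (R : Set G)) : Set G)

namespace GoodCtx

variable {W A M X R : Subgroup G} (d : GoodCtx p q W A M X R)

include d

theorem ox_inf {r : ℕ} (hr : r.Prime) : Ox r M ⊓ X = ⊥ := by
  rcases eq_or_ne r q with rfl | hne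
  · rw [d.hOq, bot_inf_eq]
  haveI := Fact.mk hr
  obtain ⟨F, hF⟩ : ∃ F, F = Ox r M ⊓ X := ⟨_, rfl⟩
  rw [← hF]
  have hFM : F ≤ M := hF ▸ inf_le_right.trans d.hXM
  have hFq : (Nat.card F).Coprime q := by
    obtain ⟨k, hk⟩ := IsPGroup.iff_card.1 ((isPGroup_Ox r M).to_le (hF ▸ inf_le_left : F ≤ Ox r M))
    rw [hk]
    exact ((Nat.coprime_primes hr hq.out).2 hne).pow_left k
  refine le_bot_iff.1 (d.hfaith ▸ le_inf hFM (kill d.hW hFq d.hR (hFM.trans d.hMW)
    ((d.hRX.trans d.hXM).trans d.hMW) (fun g hg => mem_normalizer_of_cj_le ?_)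
    (Subgroup.le_centralizer_iff.1 fun y hy => d.hkill y (Subgroup.mem_inf.1 (hF ▸ hy)).2 ?_)))
  · rw [hF, cj_inf, cj_eq_self (self_le_normalizer_Ox r M (d.hXM (d.hRX hg))),
      cj_eq_self_of_mem (d.hRX hg)]
  · exact hFq.coprime_dvd_left (Subgroup.orderOf_mk y hy ▸ orderOf_dvd_natCard _)

theorem fixes {r : ℕ} (hr : r.Prime) {y : G} (hy : y ∈ X) :
    Ox r M ⊓ Subgroup.centralizer (A : Set G) ≤ Subgroup.centralizer {y} := fun c hc => by
  obtain ⟨hc1, hc2⟩ := Subgroup.mem_inf.1 hc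
  exact Subgroup.mem_centralizer_singleton_iff.2 (comm_one (d.ox_inf hr) hc1 hy
    (self_le_normalizer_Ox r M (d.hXM hy)) (d.hCX (Subgroup.mem_inf.2 ⟨Ox_le r M hc1, hc2⟩)))

/-- A single element. -/
theorem element {x : G} (hx : x ∈ X) (hxq : x ^ q = 1) (hx1 : x ≠ 1) :
    q ^ 3 * Nat.card ↥(W ⊓ Subgroup.centralizer {x}) ≤ Nat.card W := by
  have hco : (Nat.card A).Coprime (Nat.card X) := by
    obtain ⟨n, hn⟩ := IsPGroup.iff_card.1 (Local.elemAb_isPGroup d.hA)
    rw [hn]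
    exact ((hp.out.coprime_iff_not_dvd).2 fun h =>
      d.hpM (h.trans (Subgroup.card_dvd_of_le d.hXM))).pow_left n
  have hAsol : Group.IsSolvable A :=
    Group.isSolvable_of_comm fun a b => Subtype.ext (Local.elemAb_commute d.hA a.2 b.2)
  obtain ⟨P₀, hP₀, hAP₀⟩ := Solv.exists_invariant_sylow d.hAX hco (Or.inl hAsol) q
  obtain ⟨S, hS⟩ := IsPGroup.exists_le_sylow (IsPGroup.comap_subtype (K := X)
    (Local.elemAb_isPGroup (Local.elemAb_zpowers hxq)))
  obtain ⟨k, hk, hkS⟩ := (Solv.IsSylIn.of_sylow S).exists_conj hP₀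
  obtain ⟨y, hy⟩ : ∃ y, y = k * x * k⁻¹ := ⟨_, rfl⟩
  have hyP : y ∈ P₀ := by
    rw [← hkS, Solv.conj_smul_eq_map, hy]
    exact ⟨x, ⟨⟨x, hx⟩, hS (Subgroup.mem_zpowers x), rfl⟩, rfl⟩
  have hy1 : y ≠ 1 := fun h => hx1 (conj_eq_one_iff.1 (hy ▸ h))
  have hyq : y ^ q = 1 := by rw [hy, conj_pow, hxq, mul_one, mul_inv_cancel]
  have h := no_two d.hq23 d.hW d.hA d.hAW d.hMW d.hAM d.hMs d.hpM d.hfaith d.hOq hP₀.isPGroup
    (hP₀.1.trans d.hXM) hAP₀ hyP hy1 hyq (fun r hr => d.fixes hr (hP₀.1 hyP))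
  have hWq := Local.elemAb_isPGroup d.hW
  have hcard : Nat.card ↥(W ⊓ Subgroup.centralizer {y}) = Nat.card ↥(W ⊓ Subgroup.centralizer {x}) := by
    rw [← card_cj (W ⊓ Subgroup.centralizer {x}) k, cj_inf, cj_eq_self (d.hMW (d.hXM hk)),
      ← Subgroup.centralizer_closure ({x} : Set G), cj_centralizer, cj, MonoidHom.map_closure,
      Set.image_singleton, Subgroup.centralizer_closure, hy]
    rfl
  rw [hcard] at h
  obtain ⟨j, hj⟩ := hWq.index ((W ⊓ Subgroup.centralizer {x}).subgroupOf W)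
  have hc := card_mul_relIndex_of_le (inf_le_left : W ⊓ Subgroup.centralizer {x} ≤ W)
  rw [show (W ⊓ Subgroup.centralizer {x}).relIndex W = q ^ j from hj, mul_comm] at hc
  rw [← hc] at h ⊢
  have hlt : q ^ 2 < q ^ j := Nat.lt_of_mul_lt_mul_right h
  exact Nat.mul_le_mul_right _ (Nat.pow_le_pow_right hq.out.pos
    ((Nat.pow_lt_pow_iff_right hq.out.one_lt).1 hlt))

theorem exists_fitting : ∃ F, F ≤ M ∧ M ≤ Subgroup.normalizer (F : Set G) ∧ (Nat.card F).Coprime q ∧
    ∀ x ∈ M, x ^ q = 1 → x ∈ Subgroup.centralizer (F : Set G) → x = 1 := by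
  refine ⟨(fittingSubgroup M).map M.subtype, Subgroup.map_subtype_le _,
    Subgroup.le_normalizer.trans ?_, ?_, fun x hx hxq hc => by_contra fun hx1 => ?_⟩
  · rw [map_fitting_eq]
    intro g hg
    rw [← iSup_univ (f := fun r : Nat.Primes => Ox (r : ℕ) M)]
    exact Solv.normalizer_biSup_le _ _ fun r _ => normalizer_le_normalizer_Ox (r : ℕ) M hg
  · refine Nat.Coprime.symm (hq.out.coprime_iff_not_dvd.2 fun hdvd => ?_)
    rw [Subgroup.card_map_of_injective M.subtype_injective] at hdvd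
    obtain ⟨u, hu⟩ := exists_prime_orderOf_dvd_card' q hdvd
    have hu1 : ((u : M) : G) ≠ 1 := fun h => hq.out.one_lt.ne'
      (by rw [← hu, orderOf_eq_one_iff]; exact Subtype.ext (Subtype.ext h))
    have huq : ((u : M) : G) ^ q = 1 := by
      have := congrArg (fun v : fittingSubgroup M => ((v : M) : G)) (hu ▸ pow_orderOf_eq_one u)
      simpa using this
    refine hu1 (Subgroup.mem_bot.1 (d.hOq ▸ le_Ox_of_centralizes d.hMs
      (Subgroup.zpowers_le.2 (u : M).2) (Local.elemAb_isPGroup (Local.elemAb_zpowers huq))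
      (fun r hr => Subgroup.zpowers_le.2 (Subgroup.mem_centralizer_iff.2 fun e he => ?_))
      (Subgroup.mem_zpowers _)))
    rcases eq_or_ne r q with rfl | hne
    · rw [d.hOq] at he
      rw [Subgroup.mem_bot.1 he, one_mul, mul_one]
    haveI := Fact.mk hr
    haveI := Solv.fittingSubgroup_nilpotent (G := M)
    have heF : e ∈ (fittingSubgroup M).map M.subtype := by
      rw [map_fitting_eq]; exact le_iSup (fun s : Nat.Primes => Ox (s : ℕ) M) ⟨r, hr⟩ he
    obtain ⟨e', he', hee⟩ := heF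
    obtain ⟨n, hn⟩ := (isPGroup_Ox r M) ⟨e, he⟩
    have hco : (orderOf (⟨e', he'⟩ : fittingSubgroup M)).Coprime q := by
      refine Nat.Coprime.coprime_dvd_left (orderOf_dvd_of_pow_eq_one (n := r ^ n) ?_)
        (((Nat.coprime_primes hr hq.out).2 hne).pow_left n)
      exact Subtype.ext (Subtype.ext (by
        show (e' : G) ^ r ^ n = 1
        rw [show (e' : G) = e from hee]
        exact congrArg Subtype.val hn))
    have h := congrArg (fun v : fittingSubgroup M => ((v : M) : G))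
      (Solv.commute_of_coprime_nilpotent (k := 1) (by rw [hu, pow_one]) hco).eq
    rw [← hee]
    exact h.symm
  · obtain ⟨r, hr, hne, hnc⟩ := exists_not_cent d.hMs d.hOq hx hx1 hxq
    refine hnc fun e he => Subgroup.mem_centralizer_singleton_iff.2 (Subgroup.mem_centralizer_iff.1 hc e ?_)
    rw [map_fitting_eq]
    exact le_iSup (fun s : Nat.Primes => Ox (s : ℕ) M) ⟨r, hr⟩ he

/-- An elementary abelian subgroup. -/
theorem bound {B : Subgroup G} (hB : IsElementaryAbelian q B) (hBX : B ≤ X) (hne : B ≠ ⊥) :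
    q ^ 2 * offMeasure W B ≤ Nat.card W := by
  induction hn : Nat.card B using Nat.strong_induction_on generalizing B with
  | _ n ih =>
    subst hn
    obtain ⟨b, hb, hb1⟩ := B.bot_or_exists_ne_one.resolve_left hne
    by_cases hsmall : Nat.card B ≤ q
    · have hle : Subgroup.zpowers b ≤ B := Subgroup.zpowers_le.2 hb
      have hc : W ⊓ Subgroup.centralizer (B : Set G) ≤ W ⊓ Subgroup.centralizer {b} :=
        inf_le_inf_left _ (Subgroup.centralizer_le (Set.singleton_subset_iff.2 hb))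
      calc q ^ 2 * offMeasure W B ≤ q ^ 2 * (q * Nat.card ↥(W ⊓ Subgroup.centralizer {b})) :=
            Nat.mul_le_mul_left _ (Nat.mul_le_mul hsmall (Subgroup.card_le_of_le hc))
        _ = q ^ 3 * Nat.card ↥(W ⊓ Subgroup.centralizer {b}) := by ring
        _ ≤ _ := d.element (hBX hb) (hB.2 b hb) hb1
    · obtain ⟨F, hFM, hMF, hFq, hFc⟩ := d.exists_fitting
      have hBM : B ≤ M := hBX.trans d.hXM
      obtain ⟨B', hlt, -, hcard, hm⟩ := exists_hyperplane_larger_fixed (Local.elemAb_isPGroup d.hW) hFq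
        (hFM.trans d.hMW) (le_bot_iff.1 (d.hfaith ▸ inf_le_inf_right _ hFM)) hB (hBM.trans d.hMW)
        (hBM.trans hMF) ((Subgroup.eq_bot_iff_forall _).2 fun y hy =>
          hFc y (hBM (Subgroup.mem_inf.1 hy).1) (hB.2 y (Subgroup.mem_inf.1 hy).1) (Subgroup.mem_inf.1 hy).2)
        hb hb1
      refine (Nat.mul_le_mul_left _ hm).trans (ih _ (Solv.card_lt_of_lt hlt) (Local.elemAb_mono hB hlt.le)
        (hlt.le.trans hBX) (fun h => hsmall ?_) rfl)
      rw [h, Subgroup.card_bot, mul_one] at hcard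
      exact hcard

end GoodCtx

end Cfsg.Agent.SSF
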