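import Cfsg.Agent.Lib.SSF.Omega

/-!
A colour whose only Fitting prime is small contains the greatest invariant member for that prime and
is determined by it.
-/

set_option autoImplicit false
set_option linter.style.haveILetI false

open Cfsg Cfsg.Agent Cfsg.Agent.Fusion
open scoped commutatorElement Pointwise

namespace Cfsg.Agent.SSF

universe u

variable {G : Type u} [Group G] [Finite G] {p q : ℕ} [hp : Fact p.Prime] [hq : Fact q.Prime]

namespace Single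

variable {c : Ctx G p} {H : Subgroup G} (s : Single c q H)

include s

/-- Frattini argument for the centraliser of the reduced module. -/
theorem frattini {R : Subgroup G} (hR : Solv.IsSylIn q R (redC q H)) :
    H ≤ redC q H ⊔ (H ⊓ Subgroup.normalizer (R : Set G)) := by
  intro h hh
  obtain ⟨k, hk, hke⟩ := (hR.conj (g := h) (s.H_normalizer_Cu hh)).exists_conj hR
  have hkh : k * h ∈ H ⊓ Subgroup.normalizer (R : Set G) := Subgroup.mem_inf.2
    ⟨mul_mem (s.Cu_le hk) hh, Solv.mem_normalizer_of_conj_smul (by rw [← Solv.conj_smul_conj, hke])⟩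
  have := mul_mem (Subgroup.mem_sup_left (inv_mem hk) : k⁻¹ ∈ redC q H ⊔ (H ⊓ Subgroup.normalizer (R : Set G)))
    (Subgroup.mem_sup_right hkh)
  rwa [inv_mul_cancel_left] at this

theorem W_le : c.W q ≤ H := by
  obtain ⟨hWI, hWq⟩ := c.W_spec s.crit hq.out
  obtain ⟨S, hS⟩ : ∃ S, S = c.W q ⊓ H := ⟨_, rfl⟩
  have hSW : S ≤ c.W q := hS ▸ inf_le_left
  have hSH : S ≤ H := hS ▸ inf_le_right
  have hSstab : c.Stab S := hS ▸ c.stab_inf hWI.stab s.colour.inv.stab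
  have hQS : Ox q H ≤ S := hS ▸ le_inf (s.colour.Ox_le_W q) (Ox_le q H)
  obtain ⟨V, hV⟩ : ∃ V, V = omegaZ q H ⊓ Subgroup.centralizer (S : Set G) := ⟨_, rfl⟩
  have hCV : c.C ≤ Subgroup.normalizer (V : Set G) := fun g hg => mem_normalizer_of_cj_le (by
    rw [hV, cj_inf, cj_centralizer, cj_eq_self (hSstab.2 hg), cj_eq_self
      (normalizer_le_normalizer_omegaZ H (Subgroup.le_normalizer (s.colour.2.1 hg)))])
  have b : Base c q H S V := ⟨s, hWq.to_le hSW, hSstab.1, hQS, hSH, hV, hCV⟩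
  refine (le_of_normalizer_le hWq hSW ?_).trans hSH
  obtain ⟨T, hT⟩ : ∃ T, T = c.W q ⊓ Subgroup.normalizer (S : Set G) := ⟨_, rfl⟩
  rw [← hT]
  have hTW : T ≤ c.W q := hT ▸ inf_le_left
  have hTstab : c.Stab T := hT ▸ c.stab_inf hWI.stab (c.stab_normalizer hSstab)
  have hTV : T ≤ Subgroup.normalizer (V : Set G) := fun t ht => mem_normalizer_of_cj_le fun y hy => by
    have htS : t ∈ Subgroup.normalizer (S : Set G) := (Subgroup.mem_inf.1 (hT ▸ ht)).2
    have hyS : y ∈ Subgroup.centralizer (S : Set G) := by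
      have h1 := cj_mono (hV.le.trans inf_le_right) t hy
      rwa [cj_centralizer, cj_eq_self htS] at h1
    have hyQ : y ∈ Subgroup.centralizer (Ox q H : Set G) := Subgroup.centralizer_le hQS hyS
    obtain ⟨x, hx, rfl⟩ := hy
    have hxZ := b.le_omega hx
    have hxH : (MulAut.conj t).toMonoidHom x ∈ H :=
      hSH (nrm htS (hQS (Zc_le_Ox q H (omegaZ_le H hxZ))))
    rw [hV]
    exact Subgroup.mem_inf.2 ⟨mem_omegaZ (s.cent_Q_le (Subgroup.mem_inf.2 ⟨hxH, hyQ⟩)) hyQ (by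
      rw [← map_pow, (omegaZ_elem H).2 x hxZ, map_one]), hyS⟩
  have hTf : c.fam T := c.fam_le hWI.1 hTW hTstab.1
  have hTH : T ≤ H := b.pi_le (hWq.to_le hTW) hTstab.1
    (Ctx.le_piHat s.crit b.V_fam b.V_ne_bot hCV hTf hTV hTstab.2 fun g hg => by
      obtain ⟨k, hk⟩ := hWq ⟨g, hTW hg⟩
      exact ⟨k, by rw [show g ^ q ^ k = 1 from congrArg Subtype.val hk]; exact one_mem _⟩)
  exact hS ▸ le_inf hTW hTH

/-- The maximal elementary subgroups of the part of the centraliser in another colour centralise its module. -/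
theorem max_cent {H' R : Subgroup G} (s' : Single c q H') (hR : Solv.IsSylIn q R (redC q H))
    (hU' : redU q H' ≤ redC q H) (hRH' : R ≤ H') {E : Subgroup G}
    (hE : E ∈ maxIn (fun A : Subgroup G => IsElementaryAbelian q A) (redC q H ⊓ H')) :
    E ≤ redC q H' ⊓ H := by
  have d : Layer c q H R H' (redU q H') := ⟨s, hR, s'.U_elem, s'.U_ne_bot, hU', s'.A_normalizer_U, s'.colour.1,
    s'.H_normalizer_U, fun X hX hn => s'.le_H_of_norm_U hX hn, hRH', s'.U_red⟩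
  refine le_inf (le_inf (hE.1.trans inf_le_right) ?_) ((hE.1.trans inf_le_left).trans s.Cu_le)
  rcases d.good hE.1 (fun b hb => by rw [hE.2.1.2 b hb]; exact one_mem _)
      (fun b hb b' hb' => by
        rw [commutatorElement_eq_one_iff_mul_comm.2 (Local.elemAb_commute hE.2.1 hb hb')]
        exact one_mem _) with h | h
  · exact h
  exfalso
  obtain ⟨C₀, hC₀⟩ : ∃ C₀, C₀ = E ⊓ Subgroup.centralizer (redU q H' : Set G) := ⟨_, rfl⟩
  rw [← hC₀] at h
  have hC₀c : C₀ ≤ Subgroup.centralizer (redU q H' : Set G) := hC₀ ▸ inf_le_right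
  have h1 : Nat.card (redU q H') * Nat.card C₀ ≤
      Nat.card E * Nat.card ↥(redU q H' ⊓ Subgroup.centralizer (E : Set G)) := by
    rw [← Solv.card_sup_mul_card_inf' (redU q H') C₀ (hC₀c.trans (Subgroup.centralizer_le_normalizer _))]
    refine Nat.mul_le_mul (hE.2.2 _ ?_ (Local.elemAb_sup s'.U_elem (Local.elemAb_mono hE.2.1 (hC₀ ▸ inf_le_left))
      fun a ha b hb => Subgroup.mem_centralizer_iff.1 (hC₀c hb) a ha)) (Subgroup.card_le_of_le ?_)
    · exact sup_le (le_inf hU' s'.U_le_H) ((hC₀ ▸ inf_le_left : C₀ ≤ E).trans hE.1)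
    · exact inf_le_inf_left _ ((hC₀ ▸ inf_le_left : C₀ ≤ E).trans fun e he =>
        Subgroup.mem_centralizer_iff.2 fun x hx => Local.elemAb_commute hE.2.1 hx he)
  exact no_gain (q := q) Nat.card_pos h (h1.trans (Nat.mul_le_mul_right _
    (Nat.le_mul_of_pos_left _ hq.out.pos))) Nat.card_pos

omit s in
theorem fixed_le_of_colours {H H' R : Subgroup G} (s : Single c q H) (s' : Single c q H')
    (hAR : c.A ≤ Subgroup.normalizer (R : Set G)) (hQR : Ox q H ≤ R) (hQR' : Ox q H' ≤ R) :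
    omegaZ q H ⊓ Subgroup.centralizer (R : Set G) ≤ omegaZ q H' ⊓ Subgroup.centralizer (R : Set G) := by
  refine le_inf ?_ inf_le_right
  have hf : c.fam (omegaZ q H ⊓ Subgroup.centralizer (R : Set G)) :=
    c.fam_le s.colour.1 (inf_le_left.trans (((omegaZ_le H).trans (Zc_le_Ox q H)).trans (Ox_le q H)))
      fun a ha => mem_normalizer_of_cj_le (by
        rw [cj_inf, cj_centralizer, cj_eq_self (hAR ha),
          cj_eq_self (normalizer_le_normalizer_omegaZ H (c.nrm_a s.colour.1 ha))])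
  intro x hx
  have hx' : x ∈ Subgroup.centralizer (Ox q H' : Set G) :=
    Subgroup.centralizer_le hQR' (Subgroup.mem_inf.1 hx).2
  exact mem_omegaZ (s'.fam_cent_le hf (inf_le_right.trans (Subgroup.centralizer_le hQR')) hx) hx'
    ((omegaZ_elem H).2 x (Subgroup.mem_inf.1 hx).1)

theorem eq_of_single {H' : Subgroup G} (s' : Single c q H') : H' = H := by
  obtain ⟨hWI, hWq⟩ := c.W_spec s.crit hq.out
  obtain ⟨R, hR, hmax⟩ := (Set.toFinite {R : Subgroup G | IsPGroup q R ∧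
    c.A ≤ Subgroup.normalizer (R : Set G) ∧ Ox q H ≤ R ∧ Ox q H' ≤ R ∧ R ≤ H ∧ R ≤ H' ∧
      c.C ≤ Subgroup.normalizer ((omegaZ q H ⊓ Subgroup.centralizer (R : Set G) : Subgroup G) : Set G)}).exists_maximal
    ⟨c.W q, hWq, c.nrmA hWI.1, s.colour.Ox_le_W q, s'.colour.Ox_le_W q, s.W_le, s'.W_le,
      fun g hg => mem_normalizer_of_cj_le (by
        rw [cj_inf, cj_centralizer, cj_eq_self (hWI.2 hg), cj_eq_self
          (normalizer_le_normalizer_omegaZ H (Subgroup.le_normalizer (s.colour.2.1 hg)))])⟩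
  obtain ⟨hRq, hAR, hQR, hQR', hRH, hRH', hCV⟩ := hR
  obtain ⟨V, hV⟩ : ∃ V, V = omegaZ q H ⊓ Subgroup.centralizer (R : Set G) := ⟨_, rfl⟩
  rw [← hV] at hCV
  have hV' : V = omegaZ q H' ⊓ Subgroup.centralizer (R : Set G) := hV.trans
    (le_antisymm (fixed_le_of_colours s s' hAR hQR hQR') (fixed_le_of_colours s' s hAR hQR' hQR))
  have b : Base c q H R V := ⟨s, hRq, hAR, hQR, hRH, hV, hCV⟩
  have b' : Base c q H' R V := ⟨s', hRq, hAR, hQR', hRH', hV', hCV⟩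
  obtain ⟨hPinv, -, -, -⟩ := b.spec
  obtain ⟨S, hS, hRS, hSA⟩ := Solv.exists_invariant_sylow_ge (c.nrmA hPinv.1) (c.coprimeA hPinv.1)
    (Or.inr (c.sol hPinv.1)) R b.R_le hRq hAR
  have hSH : S ≤ H := b.pi_le hS.isPGroup hSA hS.1
  have hSH' : S ≤ H' := b'.pi_le hS.isPGroup hSA hS.1
  have hS1 : Solv.IsSylIn q S (c.piHat q V ⊓ H) := sylIn_of_le hS (le_inf hS.1 hSH) inf_le_left
  have hSR : S = R := by
    refine le_antisymm (hmax ⟨hS.isPGroup, hSA, hQR.trans hRS, hQR'.trans hRS, hSH, hSH', ?_⟩ hRS) hRS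
    rw [b.fixed_eq hS1 hRS]
    exact fun g hg => mem_normalizer_of_cj_le (by
      rw [cj_inf, cj_centralizer, cj_inf, cj_eq_self (hCV hg), cj_eq_self (hPinv.2 hg),
        cj_eq_self_of_mem (s.colour.2.1 hg)])
  rw [hSR] at hS hS1
  have hS2 : Solv.IsSylIn q R (c.piHat q V ⊓ H') := sylIn_of_le hS (le_inf hS.1 hRH') inf_le_left
  have hVU : V ≤ redU q H := by
    by_contra hcon
    refine b.caseNot hcon (Subgroup.le_centralizer_iff.1 ?_)
    exact ((hV.le.trans (b.fixed_eq hS1 le_rfl).le).trans inf_le_right)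
  have hVU' : V ≤ redU q H' := by
    by_contra hcon
    refine b'.caseNot hcon (Subgroup.le_centralizer_iff.1 ?_)
    exact ((hV'.le.trans (b'.fixed_eq hS2 le_rfl).le).trans inf_le_right)
  obtain ⟨-, hsyl, hJ⟩ := b.caseU hVU hS1 le_rfl
  obtain ⟨-, hsyl', hJ'⟩ := b'.caseU hVU' hS2 le_rfl
  obtain ⟨R₁, hR₁⟩ : ∃ R₁, R₁ = R ⊓ redC q H := ⟨_, rfl⟩
  obtain ⟨R₂, hR₂⟩ : ∃ R₂, R₂ = R ⊓ redC q H' := ⟨_, rfl⟩
  rw [← hR₁] at hsyl hJ
  rw [← hR₂] at hsyl' hJ'
  have hJ12 : jElem q R₁ = jElem q R₂ := hJ.symm.trans hJ'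
  have hA₁ : c.A ≤ Subgroup.normalizer (R₁ : Set G) := fun a ha => mem_normalizer_of_cj_le (by
    rw [hR₁, cj_inf, cj_eq_self (hAR ha), cj_eq_self (s.A_normalizer_Cu ha)])
  have hA₂ : c.A ≤ Subgroup.normalizer (R₂ : Set G) := fun a ha => mem_normalizer_of_cj_le (by
    rw [hR₂, cj_inf, cj_eq_self (hAR ha), cj_eq_self (s'.A_normalizer_Cu ha)])
  have hUJ : ∀ {K : Subgroup G} (t : Single c q K) {T : Subgroup G}, Solv.IsSylIn q T (redC q K) →
      redU q K ≤ jElem q T := by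
    intro K t T hT x hx
    obtain ⟨E, hE⟩ := (replFamily_elementary q).maxIn_nonempty T
    refine (le_sSup hE : E ≤ jElem q T) (mem_of_maxIn hE (t.Q_le_sylow hT (t.U_le_Q hx))
      (isElementaryAbelian_closure_insert hE.2.1 (fun e he => ?_) (t.U_elem.2 x hx)))
    exact Subgroup.mem_centralizer_iff.1 (Subgroup.mem_inf.1 (hT.1 (hE.1 he))).2 x hx
  have hU' : redU q H' ≤ redC q H :=
    ((hUJ s' hsyl').trans hJ12.ge).trans ((jElem_le R₁).trans hsyl.1)
  have hU : redU q H ≤ redC q H' :=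
    ((hUJ s hsyl).trans hJ12.le).trans ((jElem_le R₂).trans hsyl'.1)
  have hR₁H' : R₁ ≤ H' := (hR₁ ▸ inf_le_left : R₁ ≤ R).trans hRH'
  have hR₂H : R₂ ≤ H := (hR₂ ▸ inf_le_left : R₂ ≤ R).trans hRH
  obtain ⟨Γ₁, hΓ₁⟩ : ∃ Γ₁, Γ₁ = redC q H ⊓ H' := ⟨_, rfl⟩
  obtain ⟨Γ₂, hΓ₂⟩ : ∃ Γ₂, Γ₂ = redC q H' ⊓ H := ⟨_, rfl⟩
  have h12 : ∀ E ∈ maxIn (fun A : Subgroup G => IsElementaryAbelian q A) Γ₁, E ≤ Γ₁ ⊓ Γ₂ := fun E hE =>
    le_inf hE.1 (hΓ₂ ▸ s.max_cent s' hsyl hU' hR₁H' (hΓ₁ ▸ hE))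
  have h21 : ∀ E ∈ maxIn (fun A : Subgroup G => IsElementaryAbelian q A) Γ₂, E ≤ Γ₁ ⊓ Γ₂ := fun E hE =>
    le_inf (hΓ₁ ▸ s'.max_cent s hsyl' hU hR₂H (hΓ₂ ▸ hE)) hE.1
  have hJΓ : jElem q Γ₁ = jElem q Γ₂ := by
    rw [jElem, jElem, ← maxIn_eq_of_le (replFamily_elementary q) inf_le_left h12,
      maxIn_eq_of_le (replFamily_elementary q) inf_le_right h21]
  have hnorm₁ : H ⊓ Subgroup.normalizer (R₁ : Set G) ≤ H' := by
    refine s'.le_H_of_norm_J hsyl' hA₂ (c.fam_le s.colour.1 inf_le_left fun a ha => mem_normalizer_of_cj_le (by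
      rw [cj_inf, cj_normalizer, cj_eq_self (c.nrm_a s.colour.1 ha), cj_eq_self (hA₁ ha)])) ?_
    rw [← hJ12]
    exact inf_le_right.trans (normalizer_le_jElem R₁)
  have hnorm₂ : H' ⊓ Subgroup.normalizer (R₂ : Set G) ≤ H := by
    refine s.le_H_of_norm_J hsyl hA₁ (c.fam_le s'.colour.1 inf_le_left fun a ha => mem_normalizer_of_cj_le (by
      rw [cj_inf, cj_normalizer, cj_eq_self (c.nrm_a s'.colour.1 ha), cj_eq_self (hA₂ ha)])) ?_
    rw [hJ12]
    exact inf_le_right.trans (normalizer_le_jElem R₂)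
  have hclimb : c.gr (jElem q Γ₂) ≤ H' := by
    refine s'.climb hsyl' Γ₂ (fun a ha => mem_normalizer_of_cj_le (by
      rw [hΓ₂, cj_inf, cj_eq_self (s'.A_normalizer_Cu ha), cj_eq_self (c.nrm_a s.colour.1 ha)]))
      (hΓ₂ ▸ le_inf hsyl'.1 hR₂H) (hΓ₂ ▸ inf_le_left) ((s'.frattini hsyl').trans (sup_le_sup_left ?_ _))
    refine le_inf inf_le_left fun g hg => mem_normalizer_of_cj_le ?_
    rw [hΓ₂, cj_inf, cj_eq_self (s'.H_normalizer_Cu (Subgroup.mem_inf.1 hg).1), cj_eq_self_of_mem (hnorm₂ hg)]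
  have d : Layer c q H R₁ H' (redU q H') := ⟨s, hsyl, s'.U_elem, s'.U_ne_bot, hU', s'.A_normalizer_U,
    s'.colour.1, s'.H_normalizer_U, fun X hX hn => s'.le_H_of_norm_U hX hn, hR₁H', s'.U_red⟩
  have hCu : redC q H ≤ H' := d.red_le fun X hX hn => (c.le_gr hX (by
    rwa [← hΓ₁, hJΓ] at hn)).trans hclimb
  exact s.colour.2.2 H' s'.colour.1 ((s.frattini hsyl).trans (sup_le hCu hnorm₁))

end Single

end Cfsg.Agent.SSF
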