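import Cfsg.Agent.Lib.SSF.Three

/-!
Two colours whose `x`-cores meet inside the centre of `W x` produce a receiving colour, which is
universal.
-/

set_option autoImplicit false
set_option linter.style.haveILetI false

open Cfsg Cfsg.Agent Cfsg.Agent.Fusion
open scoped commutatorElement Pointwise

namespace Cfsg.Agent.SSF

universe u

variable {G : Type u} [Group G] [Finite G] {p : ℕ} [hp : Fact p.Prime]

namespace Ctx

variable {c : Ctx G p}

theorem int_own {M₁ M₂ P y : Subgroup G} {x : ℕ} (hx : x.Prime) (hP : c.Colour P) (hyz : y ≤ c.z x)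
    (hy₁ : y ≤ Ox x M₁) (hy₂ : y ≤ Ox x M₂)
    (hcov : ∀ s ∈ c.primes, s ≠ x → c.W s ≤ M₁ ∨ c.W s ≤ M₂) (hc : Crit c)
    (h : x ∈ pi P ∨ y ⊓ P ≠ ⊥) :
    x ∈ pi P ∧ y ≤ Ox x P ∧ ∀ s : ℕ, s.Prime → Ox s P ≤ Subgroup.centralizer (y : Set G) := by
  have key : ∀ y' : Subgroup G, y' ≤ y → y' ≤ P → ∀ s : ℕ, s.Prime →
      y' ≤ Subgroup.centralizer (Ox s P : Set G) := by
    intro y' hy' hyP s hs'
    rcases eq_or_ne s x with rfl | hsx
    · exact hy'.trans (hyz.trans (c.z_cent (hP.Ox_le_W s)))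
    by_cases hsP : s ∈ pi P
    swap
    · rw [Ox_eq_bot hs' hsP]
      exact fun g _ => Subgroup.mem_centralizer_iff.2 fun r hr => by
        rw [Subgroup.mem_bot.1 hr, one_mul, mul_one]
    rcases hcov s (hP.mem_primes hsP) hsx with h | h
    · exact cent_Ox_of hx hs' hsx.symm (hy'.trans hy₁) hyP ((hP.Ox_le_W s).trans h)
    · exact cent_Ox_of hx hs' hsx.symm (hy'.trans hy₂) hyP ((hP.Ox_le_W s).trans h)
  have hxP : x ∈ pi P := by
    rcases h with h | h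
    · exact h
    by_contra hxP
    exact h (hP.eq_bot_of_comm hx inf_le_right ((isPGroup_Ox x M₁).to_le (inf_le_left.trans hy₁)) hxP
      fun q hq => key _ inf_le_left inf_le_right q hq.1)
  have hyP : y ≤ P := hyz.trans (hP.z_le hc hxP)
  exact ⟨hxP, hP.le_Ox_of_comm hx hyP ((isPGroup_Ox x M₁).to_le hy₁) fun q hq => key y le_rfl hyP q hq.1,
    fun s hs' => Subgroup.le_centralizer_iff.1 (key y le_rfl hyP s hs')⟩

/-- A colour receiving all owners of `x`, with a single missing prime `u`. -/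
structure Lam (c : Ctx G p) (x : ℕ) (y Λ : Subgroup G) (u : ℕ) : Prop where
  px : x.Prime
  inv : c.Inv y
  ne : y ≠ ⊥
  le_z : y ≤ c.z x
  le_Ox : y ≤ Ox x Λ
  term : c.Term Λ
  isR : c.IsR u Λ
  hu : u ∉ pi Λ
  cover : ∀ w ∈ c.primes, w ≠ u → w ∈ pi Λ
  own : ∀ P, c.Colour P → (x ∈ pi P ∨ y ⊓ P ≠ ⊥) → x ∈ pi P ∧ y ≤ Ox x P ∧ FLe P Λ
  norm : ∀ U, c.fam U → U ≤ Subgroup.normalizer (y : Set G) → U ≤ Λ

theorem Lam.mem {x u : ℕ} {y Λ : Subgroup G} (h : c.Lam x y Λ u) : x ∈ pi Λ :=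
  ⟨h.px, fun h' => h.ne (le_bot_iff.1 (h.le_Ox.trans h'.le))⟩

theorem Lam.W_le {x u : ℕ} {y Λ : Subgroup G} (h : c.Lam x y Λ u) {w : ℕ} (hw : w ∈ pi Λ) :
    c.W w ≤ Λ :=
  h.isR.2.2 w (h.term.1.mem_primes hw) fun he => h.hu (he ▸ hw)

theorem int_colour (hs : Setup c) (h3 : c.Three) {M₁ M₂ y : Subgroup G} {x : ℕ} (h1 : c.Colour M₁)
    (h2 : c.Colour M₂) (hm : Mixed M₁ ∨ Mixed M₂) (hy : c.Inv y) (hne : y ≠ ⊥) (hyz : y ≤ c.z x)
    (hy₁ : y ≤ Ox x M₁) (hy₂ : y ≤ Ox x M₂) (hx : x.Prime)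
    (hcov : ∀ s ∈ c.primes, s ≠ x → c.W s ≤ M₁ ∨ c.W s ≤ M₂) :
    ∃ Λ u, c.Lam x y Λ u := by
  obtain ⟨Λ, hΛ, hgr⟩ := c.exists_colour_norm hs.crit hy hne
  have hyΛ : y ≤ Λ := hgr y hy.1 Subgroup.le_normalizer
  have hyne : y ⊓ Λ ≠ ⊥ := by rwa [inf_eq_left.2 hyΛ]
  obtain ⟨hxΛ, hyO, -⟩ := int_own hx hΛ hyz hy₁ hy₂ hcov hs.crit (Or.inr hyne)
  have hown : ∀ P, c.Colour P → (x ∈ pi P ∨ y ⊓ P ≠ ⊥) → x ∈ pi P ∧ y ≤ Ox x P ∧ FLe P Λ :=
    fun P hP h => by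
      obtain ⟨a, b, hcent⟩ := int_own hx hP hyz hy₁ hy₂ hcov hs.crit h
      exact ⟨a, b, fun s hs' => hgr _ (hP.inv_Ox s).1
        ((hcent s hs').trans (Subgroup.centralizer_le_normalizer _))⟩
  have hx₁ : x ∈ pi M₁ := ⟨hx, fun h => hne (le_bot_iff.1 (hy₁.trans h.le))⟩
  have hx₂ : x ∈ pi M₂ := ⟨hx, fun h => hne (le_bot_iff.1 (hy₂.trans h.le))⟩
  have hmix : Mixed Λ := by
    refine (mixed_or_eq hxΛ).resolve_right fun hq => ?_
    rcases hm with hm | hm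
    · obtain ⟨r, hr, hrx⟩ := exists_pi_ne hm x
      have h := c.pq hs hΛ hq h1 hx₁ hr hrx
      rw [inf_eq_left.2 ((hown M₁ h1 (Or.inl hx₁)).2.2 r hr.1)] at h
      exact hr.2 h
    · obtain ⟨r, hr, hrx⟩ := exists_pi_ne hm x
      have h := c.pq hs hΛ hq h2 hx₂ hr hrx
      rw [inf_eq_left.2 ((hown M₂ h2 (Or.inl hx₂)).2.2 r hr.1)] at h
      exact hr.2 h
  have hterm : c.Term Λ := by
    refine ⟨hΛ, hmix, fun P hP hle => ?_⟩
    have hyP : y ⊓ P ≠ ⊥ := by rw [inf_eq_left.2 (hyO.trans (hle x hx))]; exact hne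
    obtain ⟨hxP, -, hPΛ⟩ := hown P hP (Or.inr hyP)
    exact eq_of_mutual hs.crit hΛ hP hmix hle hPΛ
  obtain ⟨u, hu, huΛ⟩ := three_no_full hs h3 hΛ
  obtain ⟨U, hU⟩ := c.exists_R hs.crit hu
  have hUΛ : U = Λ := hterm.2.2 U hU.2.1 (free hU hΛ huΛ)
  subst hUΛ
  refine ⟨U, u, hx, hy, hne, hyz, hyO, hterm, hU, huΛ, fun w hw hwu => ?_, hown, hgr⟩
  by_contra hwΛ
  obtain ⟨V, hV⟩ := c.exists_R hs.crit hw
  have := hterm.2.2 V hV.2.1 (free hV hΛ hwΛ)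
  exact hwu (R_unique hs (this ▸ hV) hU)

/-- The configuration with three primes in which a `u`-group is pushed into the receiving colour. -/
theorem tri (hs : Setup c) (h3 : c.Three) {x u w : ℕ} {y Λ : Subgroup G} (hL : c.Lam x y Λ u)
    (hw : w ∈ pi Λ) (hwx : w ≠ x) (hall : ∀ r ∈ c.primes, r = x ∨ r = u ∨ r = w)
    {U T : Subgroup G} (hU : c.Inv U) (hUne : U ≠ ⊥) (hUw : U ≤ Zc w Λ)
    (hUfix : ∀ e ∈ c.A, e ≠ 1 → c.θ e ≤ Λ → U ≤ Subgroup.centralizer {e})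
    (hT : c.Inv T) (hTu : T ≤ c.W u) : T ≤ Λ := by
  have hΛ := hL.term.1
  have hx := hL.mem
  have hwp := hΛ.mem_primes hw
  have hwu : w ≠ u := fun h => hL.hu (h ▸ hw)
  have hxu : x ≠ u := fun h => hL.hu (h ▸ hx)
  obtain ⟨R, hR⟩ := c.exists_R hs.crit hwp
  have hup : u ∈ c.primes := hL.isR.1
  have hxp := hΛ.mem_primes hx
  have hyR : y ≤ R := (hL.le_z.trans inf_le_left).trans (hR.2.2 x hxp hwx.symm)
  obtain ⟨hxR, hyOR, hRle⟩ := hL.own R hR.2.1 (Or.inr (by rw [inf_eq_left.2 hyR]; exact hL.ne))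
  have hwR : w ∉ pi R := three_R hs h3 hR
  have hRΛ : R ≠ Λ := R_ne hs hR hL.isR hwu
  obtain ⟨V, hV⟩ : ∃ V, V = Zc x R := ⟨_, rfl⟩
  have hyV : y ≤ V := hV ▸ le_inf hyOR (hL.le_z.trans (c.z_cent (hR.2.1.Ox_le_W x)))
  -- owners of `x` other than `Λ` meet `O_w(Λ)` trivially
  have fp : ∀ P, c.Colour P → P ≠ Λ → x ∈ pi P → w ∉ pi P ∧ Ox w Λ ⊓ P = ⊥ := by
    intro P hP hne hxP
    have hle := (hL.own P hP (Or.inl hxP)).2.2
    have hwP : w ∉ pi P := fun hwP => by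
      obtain ⟨s, hs', hsP⟩ := arrow₁ hs.crit hP hΛ ⟨w, hwP, x, hxP, hwx⟩ hle hne.symm
      rcases hall s (hΛ.mem_primes hs') with rfl | rfl | rfl
      exacts [hsP hxP, hL.hu hs', hsP hwP]
    refine ⟨hwP, hP.eq_bot_of_comm hw.1 inf_le_right ((isPGroup_Ox w Λ).to_le inf_le_left) hwP fun q hq => ?_⟩
    exact cent_Ox_of hw.1 hq.1 (fun h => hwP (h ▸ hq)) inf_le_left inf_le_right (hle q hq.1)
  obtain ⟨D, hD, hDy⟩ := exists_hyp_fixed hL.inv.1 hL.ne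
  -- the colours on `D`
  have hcol : ∀ d ∈ D, d ≠ 1 → c.θ d ≤ Λ ∨ c.θ d ≤ R := by
    intro d hd hd1
    obtain ⟨P, hP, hdP⟩ := c.theta_colour (hD.1 hd) hd1
    by_cases hPΛ : P = Λ
    · exact Or.inl (hPΛ ▸ hdP)
    by_cases hPR : P = R
    · exact Or.inr (hPR ▸ hdP)
    left
    have hyP : y ⊓ P ≠ ⊥ := fun h => hDy (le_bot_iff.1 (h ▸ le_inf inf_le_left
      ((c.inf_centD_le hL.inv.1 hD.1 hd hd1).trans hdP)))
    obtain ⟨hxP, -, -⟩ := hL.own P hP (Or.inr hyP)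
    obtain ⟨hwP, hGP⟩ := fp P hP hPΛ hxP
    by_contra hdΛ
    rcases mixed_or_eq hxP with hPm | hPq
    · obtain ⟨s, hs', hsP⟩ := arrow₁ hs.crit hP hR.2.1 hPm (free hR hP hwP) (Ne.symm hPR)
      obtain ⟨r, hr, hrx⟩ := exists_pi_ne hPm x
      rcases hall r (hP.mem_primes hr) with rfl | rfl | rfl
      · exact hrx rfl
      · rcases hall s (hR.2.1.mem_primes hs') with rfl | rfl | rfl
        exacts [hsP hxP, hsP hr, hwR hs']
      · exact hwP hr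
    rcases mixed_or_eq hxR with hRm | hRq
    swap
    · exact hPR ((hs.hu R x hR.2.1 hRq).2 P hP hPq)
    obtain ⟨r, hr, hrx⟩ := exists_pi_ne hRm x
    have hru : r = u := by
      rcases hall r (hR.2.1.mem_primes hr) with h | h | h
      exacts [absurd h hrx, h, absurd (h ▸ hr) hwR]
    subst hru
    -- the colour `P` has the single prime `x`
    have hI := c.comm_inv (hR.2.1.inv_Zc r) (hD.1 hd)
    have hZΛ : Zc r R ≤ Λ := (Zc_le_Ox r R).trans (hRle r hr.1)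
    have hX : ⁅Zc r R, Subgroup.zpowers d⁆ = ⊥ := by
      refine hΛ.eq_bot_of_comm hr.1 (hI.2.trans hZΛ) ((isPGroup_Zc r R).to_le hI.2) hL.hu fun q hq => ?_
      rcases hall q (hΛ.mem_primes hq) with rfl | rfl | rfl
      · exact hI.2.trans (cent_Ox_of hr.1 hq.1 hrx (Zc_le_Ox r R) hZΛ
          ((hΛ.Ox_le_W q).trans (hR.2.2 q hxp hwx.symm)))
      · exact absurd hq hL.hu
      · refine c.cfpf (hΛ.inv_Ox q).1 (isPGroup_Ox q Λ) (hR.2.1.inv_Zc r).1 (isPGroup_Zc r R) hq.1 hr.1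
          hwu.symm (Zc_comm r R) (hD.1 hd) (hZΛ.trans (self_le_normalizer_Ox q Λ)) ?_
        refine le_trans (le_of_eq (le_bot_iff.1 ?_)) bot_le
        rw [← hGP]
        exact le_inf inf_le_left ((c.inf_cent_le (hΛ.inv_Ox q).1 (hD.1 hd) hd1).trans hdP)
    have hZP : Zc r R ≤ P :=
      ((le_inf le_rfl (le_cent_of_commutator hX)).trans
        (c.inf_cent_le (hR.2.1.inv_Zc r).1 (hD.1 hd) hd1)).trans hdP
    refine Zc_ne_bot hr (le_bot_iff.1 ?_)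
    rw [← c.pq hs hP hPq hR.2.1 hxR hr hrx]
    exact le_inf (Zc_le_Ox r R) hZP
  -- elements of `D` outside `Λ` centralise `V`
  have hstep : ∀ d ∈ D, d ≠ 1 → ¬ c.θ d ≤ Λ → d ∈ Subgroup.centralizer (V : Set G) := by
    intro d hd hd1 hdΛ
    have hdR := (hcol d hd hd1).resolve_left hdΛ
    subst hV
    refine cent_singleton_swap (le_cent_of_commutator (by_contra fun hne => hdΛ ?_))
    obtain ⟨hI, hIle⟩ := c.comm_inv (hR.2.1.inv_Zc x) (hD.1 hd)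
    obtain ⟨P, hP, hgr⟩ := c.exists_colour_norm hs.crit hI hne
    have hdP : c.θ d ≤ P := hgr _ (c.theta_fam (hD.1 hd) hd1) fun g hg => mem_normalizer_of_cj_le
      (cj_comm_zpowers (self_le_normalizer_Zc x R (hdR hg))
        (Subgroup.mem_centralizer_singleton_iff.1 (c.theta_cent (hD.1 hd) hd1 hg))).le
    by_contra hdΛ'
    have hPΛ : P ≠ Λ := fun h => hdΛ' (h ▸ hdP)
    have hyP : y ≤ P := hgr y hL.inv.1 (le_trans (hL.le_z.trans
      (c.z_cent ((hIle.trans (Zc_le_Ox x R)).trans (hR.2.1.Ox_le_W x))))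
      (Subgroup.centralizer_le_normalizer _))
    obtain ⟨hxP, -, -⟩ := hL.own P hP (Or.inr (by rw [inf_eq_left.2 hyP]; exact hL.ne))
    have hGP := (fp P hP hPΛ hxP).2
    refine Zc_ne_bot hw (le_bot_iff.1 ((le_inf (Zc_le_Ox w Λ) (hgr _ (hΛ.inv_Zc w).1 ?_)).trans hGP.le))
    refine le_trans (Subgroup.le_centralizer_iff.1 ?_) (Subgroup.centralizer_le_normalizer _)
    refine c.cfpf (hΛ.inv_Zc w).1 (isPGroup_Zc w Λ) (hR.2.1.inv_Zc x).1 (isPGroup_Zc x R) hw.1 hL.px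
      hwx.symm (Zc_comm x R) (hD.1 hd) (((Zc_le_Ox x R).trans (hRle x hL.px)).trans (self_le_normalizer_Zc w Λ)) ?_
    refine le_trans (le_of_eq (le_bot_iff.1 ?_)) bot_le
    rw [← (fp R hR.2.1 hRΛ hxR).2]
    exact le_inf (inf_le_left.trans (Zc_le_Ox w Λ))
      ((c.inf_cent_le (hΛ.inv_Zc w).1 (hD.1 hd) hd1).trans hdR)
  obtain ⟨h, hh, hh1, hhΛ⟩ : ∃ h ∈ D, h ≠ 1 ∧ ¬ c.θ h ≤ Λ := by
    by_contra hno
    push Not at hno
    exact false_of_monochrome hs.crit hΛ hD hno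
  obtain ⟨d, hd, hd1, hdR⟩ : ∃ d ∈ D, d ≠ 1 ∧ ¬ c.θ d ≤ R := by
    by_contra hno
    push Not at hno
    exact false_of_monochrome hs.crit hR.2.1 hD hno
  have hdΛ : c.θ d ≤ Λ := (hcol d hd hd1).resolve_right hdR
  have hdV : d ∈ Subgroup.centralizer (V : Set G) := by
    have hhV := hstep h hh hh1 hhΛ
    rcases eq_or_ne (h * d) 1 with he | he
    · rw [eq_inv_of_mul_eq_one_right he]; exact inv_mem hhV
    by_cases hdh : c.θ (h * d) ≤ Λ
    · exfalso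
      have h1 : d ∈ Subgroup.centralizer (U : Set G) :=
        cent_singleton_swap (hUfix d (hD.1 hd) hd1 hdΛ)
      have h2 := cent_singleton_swap (hUfix (h * d) (hD.1 (mul_mem hh hd)) he hdh)
      have h3' : h ∈ Subgroup.centralizer (U : Set G) := (mul_mem_cancel_right h1).1 h2
      refine hUne (le_bot_iff.1 ?_)
      rw [← (fp R hR.2.1 hRΛ hxR).2]
      refine le_inf (hUw.trans (Zc_le_Ox w Λ)) ?_
      exact ((le_inf le_rfl (le_cent_of_swap h3')).trans (c.inf_cent_le hU.1 (hD.1 hh) hh1)).trans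
        ((hcol h hh hh1).resolve_left hhΛ)
    · exact (mul_mem_cancel_left hhV).1 (hstep (h * d) (mul_mem hh hd) he hdh)
  have hTR : T ≤ R := hTu.trans (hR.2.2 u hup hwu.symm)
  subst hV
  intro t ht
  obtain ⟨a, ha, b, hb, rfl⟩ := split_action T (Zc x R) (c.nrm_a hT.1 (hD.1 hd)) hdV
    (hTR.trans (self_le_normalizer_Zc x R))
    (Nat.Coprime.coprime_dvd_left (orderOf_dvd_of_pow_eq_one (c.pow_p (hD.1 hd))) (c.coprime_p hT.1).symm) ht
  refine mul_mem (hdΛ (c.inf_cent_le hT.1 (hD.1 hd) hd1 ha)) ?_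
  exact hL.norm (T ⊓ Subgroup.centralizer (Zc x R : Set G))
    (c.fam_le hT.1 inf_le_left (c.stab_inf hT.stab (c.stab_centralizer (hR.2.1.stab_Zc x))).1)
    (inf_le_right.trans ((Subgroup.centralizer_le hyV).trans (Subgroup.centralizer_le_normalizer _))) hb

theorem lam_owner (hs : Setup c) (h3 : c.Three) {x u w s : ℕ} {y Λ S : Subgroup G} (hL : c.Lam x y Λ u)
    (hw : w ∈ pi Λ) (hsR : c.IsR s S) (hsu : s ≠ u) {y' : Subgroup G} (hy : c.Inv y') (hne : y' ≠ ⊥)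
    (hz : y' ≤ c.z w) (hy1 : y' ≤ Ox w Λ) (hy2 : y' ≤ Ox w S) : c.Lam w y' Λ u := by
  obtain ⟨Λ', u', hL'⟩ := int_colour hs h3 hL.term.1 hsR.2.1 (Or.inl hL.term.2.1) hy hne hz hy1 hy2 hw.1
    fun r hr _ => by
      rcases eq_or_ne r u with rfl | hru
      exacts [Or.inr (hsR.2.2 r hr hsu.symm), Or.inl (hL.isR.2.2 r hr hru)]
  have h : Λ' = Λ := hL.term.2.2 Λ' hL'.term.1 (hL'.own Λ hL.term.1 (Or.inl hw)).2.2
  subst h
  rwa [R_unique hs hL'.isR hL.isR] at hL'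

theorem lam_of_received (hs : Setup c) (h3 : c.Three) {x u w s : ℕ} {y Λ S : Subgroup G} (hL : c.Lam x y Λ u)
    (hw : w ∈ pi Λ) (hsR : c.IsR s S) (hsu : s ≠ u) (hsw : s ≠ w) (hle : FLe S Λ) :
    c.Lam w (c.Yc w Λ) Λ u := by
  have hΛ := hL.term.1
  have hYS : c.Yc w Λ ≤ S :=
    (inf_le_left.trans inf_le_left).trans (hsR.2.2 w (hΛ.mem_primes hw) hsw.symm)
  refine lam_owner hs h3 hL hw hsR hsu (hΛ.inv_Yc hs.crit hw.1)
    (hΛ.Yc_ne_bot hs.crit hw ((hL.W_le hw).trans (self_le_normalizer_Ox w Λ))) inf_le_left inf_le_right ?_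
  refine hsR.2.1.le_Ox_of_comm hw.1 hYS ((isPGroup_Ox w Λ).to_le inf_le_right) fun q hq => ?_
  rcases eq_or_ne q w with rfl | hqw
  · exact inf_le_left.trans (c.z_cent (hsR.2.1.Ox_le_W q))
  · exact cent_Ox_of hw.1 hq.1 hqw.symm inf_le_right hYS (hle q hq.1)

theorem false_of_lam (hs : Setup c) (h3 : c.Three) {x u : ℕ} {y Λ : Subgroup G} (hL : c.Lam x y Λ u) :
    False := by
  have hΛ := hL.term.1
  have hx := hL.mem
  have hxp := hΛ.mem_primes hx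
  have hxu : x ≠ u := fun h => hL.hu (h ▸ hx)
  have hrec : ∀ s S, c.IsR s S → s ≠ u → FLe S Λ := by
    intro s S hS hsu
    rcases eq_or_ne s x with rfl | hsx
    swap
    · exact (hL.own S hS.2.1 (Or.inr (by
        rw [inf_eq_left.2 ((hL.le_z.trans inf_le_left).trans (hS.2.2 x hxp hsx.symm))]; exact hL.ne))).2.2
    have hxS : s ∉ pi S := three_R hs h3 hS
    obtain ⟨w, hwp, hws, hwu⟩ := h3 s u
    have hw := hL.cover w hwp hwu
    by_cases hex : ∃ r ∈ c.primes, r ≠ u ∧ r ≠ w ∧ r ≠ s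
    · obtain ⟨r, hr, hru, hrw, hrs⟩ := hex
      obtain ⟨T, hT⟩ := c.exists_R hs.crit hr
      have hLw := lam_of_received hs h3 hL hw hT hru hrw (hL.own T hT.2.1 (Or.inr (by
        rw [inf_eq_left.2 ((hL.le_z.trans inf_le_left).trans (hT.2.2 s hxp hrs.symm))]; exact hL.ne))).2.2
      exact (hLw.own S hS.2.1 (Or.inr (by
        rw [inf_eq_left.2 ((hLw.le_z.trans inf_le_left).trans (hS.2.2 w hwp hws))]; exact hLw.ne))).2.2
    push Not at hex
    have hall : ∀ r ∈ c.primes, r = s ∨ r = u ∨ r = w := fun r hr => by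
      by_cases h1 : r = u
      · exact Or.inr (Or.inl h1)
      by_cases h2 : r = w
      · exact Or.inr (Or.inr h2)
      exact Or.inl (hex r hr h1 h2)
    haveI := Fact.mk hwp.1
    by_cases hI : Ox w Λ ⊓ Ox w S = ⊥
    · intro q hq
      by_cases hqS : q ∈ pi S
      swap
      · rw [Ox_eq_bot hq hqS]; exact bot_le
      rcases hall q (hS.2.1.mem_primes hqS) with rfl | rfl | rfl
      · exact absurd hqS hxS
      · refine tri hs h3 hL hw hws hall (hΛ.inv_Zc w) (Zc_ne_bot hw) le_rfl (fun e he he1 heΛ => ?_)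
          (hS.2.1.inv_Ox q) (hS.2.1.Ox_le_W q)
        have hGS : Ox w Λ ≤ S := (hΛ.Ox_le_W w).trans (hS.2.2 w hwp hws)
        refine le_cent_of_commutator (le_bot_iff.1 (hI ▸ le_inf ((c.comm_inv (hΛ.inv_Zc w) he).2.trans
          (Zc_le_Ox w Λ)) (c.kLem hΛ hS.2.1 hw.1 (hΛ.inv_Zc w) (Zc_comm w Λ) (Zc_le_Ox w Λ)
          ((Zc_le_Ox w Λ).trans hGS) ((Zc_le_Ox w Λ).trans ?_) he he1 heΛ)))
        exact comm_of_inf hI (hGS.trans (self_le_normalizer_Ox w S))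
          (((hS.2.1.Ox_le_W w).trans (hL.W_le hw)).trans (self_le_normalizer_Ox w Λ))
      · exact (hS.2.1.Ox_le_W q).trans (hL.W_le hw)
    · obtain ⟨y', hy'⟩ : ∃ y', y' = Ox w Λ ⊓ Ox w S ⊓ c.z w := ⟨_, rfl⟩
      have hyne : y' ≠ ⊥ := fun h => by
        refine meet_center (c.W_spec hs.crit hw.1).2 (inf_le_left.trans (hΛ.Ox_le_W w))
          (fun g hg => mem_normalizer_of_cj_le (by
            rw [cj_inf, cj_eq_self (self_le_normalizer_Ox w Λ (hL.W_le hw hg)),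
              cj_eq_self (self_le_normalizer_Ox w S (hS.2.2 w hwp hws hg))])) hI
          (le_bot_iff.1 (le_trans (le_inf inf_le_left (le_inf
            (inf_le_left.trans (inf_le_left.trans (hΛ.Ox_le_W w))) inf_le_right)) (hy' ▸ h).le))
      have hLw := lam_owner hs h3 hL hw hS hsu
        (c.inv_of_le hΛ.1 (hy' ▸ inf_le_left.trans (inf_le_left.trans (Ox_le w Λ)))
          (hy' ▸ c.stab_inf (c.stab_inf (hΛ.stab_Ox w) (hS.2.1.stab_Ox w)) (c.stab_z hs.crit hw.1)))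
        hyne (hy' ▸ inf_le_right) (hy' ▸ inf_le_left.trans inf_le_left) (hy' ▸ inf_le_left.trans inf_le_right)
      exact (hLw.own S hS.2.1 (Or.inr (by
        rw [inf_eq_left.2 ((hLw.le_z.trans inf_le_left).trans (hS.2.2 w hwp hws))]; exact hLw.ne))).2.2
  have hlam : ∀ w ∈ pi Λ, c.Lam w (c.Yc w Λ) Λ u := by
    intro w hw
    obtain ⟨s, hs', hsu, hsw⟩ := h3 u w
    obtain ⟨S, hS⟩ := c.exists_R hs.crit hs'
    exact lam_of_received hs h3 hL hw hS hsu hsw (hrec s S hS hsu)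
  refine receiver hs.crit hΛ hL.term.2.1 (fun w hw => hL.W_le hw) fun P hP hPΛ => ?_
  by_cases hmeet : ∃ w ∈ pi Λ, w ∈ pi P
  · obtain ⟨w, hw, hwP⟩ := hmeet
    exact Or.inl ((hlam w hw).own P hP (Or.inl hwP)).2.2
  push Not at hmeet
  refine Or.inr fun w hw => ?_
  have hpu : ∀ q ∈ pi P, q = u := fun q hq => by_contra fun h =>
    hmeet q (hL.cover q (hP.mem_primes hq) h) hq
  have huP : u ∈ pi P := by
    obtain ⟨q, hq⟩ := hP.pi_nonempty hs.crit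
    exact hpu q hq ▸ hq
  have hwu : w ≠ u := fun h => hL.hu (h ▸ hw)
  have hwp := hΛ.mem_primes hw
  haveI := Fact.mk hw.1
  obtain ⟨U, hU⟩ : ∃ U, U = Zc w Λ ⊓ P := ⟨_, rfl⟩
  rw [← hU]
  have hUP : U ≤ P := hU ▸ inf_le_right
  have hUw : U ≤ Zc w Λ := hU ▸ inf_le_left
  refine hP.eq_bot_of_comm hw.1 hUP ((isPGroup_Zc w Λ).to_le hUw) (fun h => hwu (hpu w h)) fun q hq => ?_
  obtain rfl := hpu q hq
  have hUo : ∀ O : Subgroup G, Ox q P ≤ Subgroup.normalizer (O : Set G) → IsPGroup w O → U ≤ O →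
      U ≤ Subgroup.centralizer (Ox q P : Set G) := fun O hn hO hUO g hg =>
    Subgroup.mem_centralizer_iff.2 fun o ho =>
      (comm_one (inf_bot_of_ne hw.1 hq.1 hwu hO (isPGroup_Ox q P)) (hUO hg) ho (hn ho)
        (self_le_normalizer_Ox q P (hUP hg))).symm
  obtain ⟨s, hs', hsu, hsw⟩ := h3 q w
  by_cases hex : ∃ r ∈ c.primes, r ≠ q ∧ r ≠ w ∧ r ≠ s
  · obtain ⟨S, hS⟩ := c.exists_R hs.crit hs'
    obtain ⟨r, hr, hru, hrw, hrs⟩ := hex
    have hrΛ := hL.cover r hr hru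
    have hle := hrec s S hS hsu
    refine hUo (Ox w S) (((hP.Ox_le_W q).trans (hS.2.2 q hL.isR.1 hsu.symm)).trans (self_le_normalizer_Ox w S))
      (isPGroup_Ox w S) ((hUw.trans (Zc_le_Ox w Λ)).trans ?_)
    have hY := hlam r hrΛ
    have hYS : c.Yc r Λ ≤ S := (hY.le_z.trans inf_le_left).trans (hS.2.2 r hr hrs)
    obtain ⟨hrS, hYO, -⟩ := hY.own S hS.2.1 (Or.inr (by rw [inf_eq_left.2 hYS]; exact hY.ne))
    obtain ⟨K, hK⟩ : ∃ K, K = S ⊓ ⨅ t : {t // t ∈ pi S ∧ t ≠ w}, Subgroup.centralizer (Ox (t : ℕ) S : Set G) :=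
      ⟨_, rfl⟩
    have hKn : Subgroup.normalizer (S : Set G) ≤ Subgroup.normalizer (K : Set G) := fun g hg =>
      mem_normalizer_of_cj_le (by
        rw [hK, cj_inf, cj_eq_self hg]
        refine inf_le_inf_left _ (le_iInf fun t => (cj_mono (iInf_le _ t) g).trans ?_)
        rw [cj_eq_self (normalizer_le_normalizer_centralizer _ (normalizer_le_normalizer_Ox (t : ℕ) S hg))])
    have hKS : K ≤ S := hK ▸ inf_le_left
    have hKΛ : K ≤ Λ := by
      refine hY.norm K (c.fam_le hS.2.1.1 hKS ((c.nrmA hS.2.1.1).trans hKn)) ?_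
      refine le_trans ?_ (Subgroup.centralizer_le_normalizer _)
      refine le_trans ?_ (Subgroup.centralizer_le hYO)
      rw [hK]
      exact inf_le_right.trans (iInf_le _ (⟨r, hrS, hrw⟩ : {t // t ∈ pi S ∧ t ≠ w}))
    have hGS : Ox w Λ ≤ S := (hΛ.Ox_le_W w).trans (hS.2.2 w hwp hsw.symm)
    refine subnormal_le_Ox ?_ (hKΛ.trans (self_le_normalizer_Ox w Λ)) hKS (Subgroup.le_normalizer.trans hKn)
      (isPGroup_Ox w Λ)
    rw [hK]
    exact le_inf hGS (le_iInf fun t => cent_Ox_of hw.1 t.2.1.1 t.2.2.symm le_rfl hGS (hle _ t.2.1.1))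
  push Not at hex
  have hall : ∀ r ∈ c.primes, r = s ∨ r = q ∨ r = w := fun r hr => by
    by_cases h1 : r = q
    · exact Or.inr (Or.inl h1)
    by_cases h2 : r = w
    · exact Or.inr (Or.inr h2)
    exact Or.inl (hex r hr h1 h2)
  rcases eq_or_ne U ⊥ with hUb | hUne
  · rw [hUb]; exact bot_le
  have hsΛ := hL.cover s hs' hsu
  have hUI : c.Inv U :=
    c.inv_of_le hP.1 hUP (hU ▸ c.stab_inf (hΛ.stab_Zc w) hP.inv.stab)
  refine hUo (Zc w Λ) ((tri hs h3 (hlam s hsΛ) hw hsw.symm hall hUI hUne hUw (fun e he he1 heΛ => ?_)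
    (hP.inv_Ox q) (hP.Ox_le_W q)).trans (self_le_normalizer_Zc w Λ)) (isPGroup_Zc w Λ) hUw
  refine le_cent_of_commutator (le_bot_iff.1 ?_)
  have hb : Ox w P = ⊥ := Ox_eq_bot hw.1 fun h => hwu (hpu w h)
  refine (c.kLem hΛ hP hw.1 hUI ⟨⟨fun a b => Subtype.ext (congrArg Subtype.val
    ((Zc_comm w Λ).1.1 ⟨a, hUw a.2⟩ ⟨b, hUw b.2⟩) :)⟩⟩ (hUw.trans (Zc_le_Ox w Λ)) hUP ?_ he he1 heΛ).trans hb.le
  rw [hb]
  exact fun g _ => Subgroup.mem_centralizer_iff.2 fun t ht => by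
    rw [Subgroup.mem_bot.1 ht, one_mul, mul_one]

/-- Two colours of the family with meeting `x`-cores are impossible. -/
theorem no_int (hs : Setup c) (h3 : c.Three) {t v x : ℕ} {T V : Subgroup G} (hT : c.IsR t T)
    (hV : c.IsR v V) (htv : t ≠ v) (hxt : x ≠ t) (hxv : x ≠ v) (hx : x.Prime) :
    Ox x T ⊓ Ox x V = ⊥ := by
  by_contra hne
  have hxT : x ∈ pi T := ⟨hx, fun h => hne (le_bot_iff.1 (inf_le_left.trans h.le))⟩
  have hxV : x ∈ pi V := ⟨hx, fun h => hne (le_bot_iff.1 (inf_le_right.trans h.le))⟩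
  have hxp := hT.2.1.mem_primes hxT
  haveI := Fact.mk hx
  obtain ⟨y, hy⟩ : ∃ y, y = Ox x T ⊓ Ox x V ⊓ c.z x := ⟨_, rfl⟩
  have hyne : y ≠ ⊥ := fun h => by
    refine meet_center (c.W_spec hs.crit hx).2 (inf_le_left.trans (hT.2.1.Ox_le_W x))
      (fun g hg => mem_normalizer_of_cj_le (by
        rw [cj_inf, cj_eq_self (self_le_normalizer_Ox x T (hT.2.2 x hxp hxt hg)),
          cj_eq_self (self_le_normalizer_Ox x V (hV.2.2 x hxp hxv hg))])) hne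
      (le_bot_iff.1 (le_trans (le_inf inf_le_left (le_inf
        (inf_le_left.trans (inf_le_left.trans (hT.2.1.Ox_le_W x))) inf_le_right)) (hy ▸ h).le))
  have hmix : Mixed T ∨ Mixed V := by
    rcases mixed_or_eq hxT with h | h
    · exact Or.inl h
    rcases mixed_or_eq hxV with h' | h'
    · exact Or.inr h'
    exact absurd ((hs.hu T x hT.2.1 h).2 V hV.2.1 h') (R_ne hs hV hT htv.symm)
  obtain ⟨Λ, u, hL⟩ := int_colour hs h3 hT.2.1 hV.2.1 hmix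
    (c.inv_of_le hT.2.1.1 (hy ▸ inf_le_left.trans (inf_le_left.trans (Ox_le x T)))
      (hy ▸ c.stab_inf (c.stab_inf (hT.2.1.stab_Ox x) (hV.2.1.stab_Ox x)) (c.stab_z hs.crit hx)))
    hyne (hy ▸ inf_le_right) (hy ▸ inf_le_left.trans inf_le_left) (hy ▸ inf_le_left.trans inf_le_right) hx
    fun r hr _ => by
      rcases eq_or_ne r t with rfl | hrt
      exacts [Or.inr (hV.2.2 r hr htv), Or.inl (hT.2.2 r hr hrt)]
  exact false_of_lam hs h3 hL

end Ctx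

end Cfsg.Agent.SSF
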