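import Cfsg.Agent.Lib.SSF.LayerCases
import Cfsg.Agent.Lib.Fusion.ThompsonNPC

/-!
The centraliser of the reduced module lies in a member with a reduced module of its own.
-/

set_option autoImplicit false
set_option linter.style.haveILetI false

open Cfsg Cfsg.Agent Cfsg.Agent.Fusion
open scoped commutatorElement Pointwise

namespace Cfsg.Agent.SSF

universe u

variable {G : Type u} [Group G] [Finite G] {p q : ℕ} [hp : Fact p.Prime] [hq : Fact q.Prime]

omit hp in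
/-- An elementary subgroup moving the conjugates contains a minimal one. -/
theorem exists_mover {R W K' E W₂ : Subgroup G} (hE : IsElementaryAbelian q E) (hER : E ≤ R)
    (hW₂ : W₂ = ⨆ h ∈ (K' : Set G), cj W h) (hW₂e : IsElementaryAbelian q W₂)
    (hqual : Nat.card W₂ * Nat.card ↥(E ⊓ Subgroup.centralizer (W₂ : Set G)) ≤
      Nat.card E * Nat.card ↥(W₂ ⊓ Subgroup.centralizer (E : Set G)))
    (hne : ¬ E ≤ Subgroup.centralizer (W₂ : Set G))
    (hgood : ∀ B ≤ E, B ≤ Subgroup.centralizer (W : Set G) ∨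
      q ^ 2 * Nat.card B * Nat.card ↥(W ⊓ Subgroup.centralizer (B : Set G)) ≤
        Nat.card W * Nat.card ↥(B ⊓ Subgroup.centralizer (W : Set G))) :
    ∃ C₀ B, Mover q R W K' C₀ B W₂ := by
  obtain ⟨C₀, hC₀⟩ : ∃ C₀, C₀ = E ⊓ Subgroup.centralizer (W₂ : Set G) := ⟨_, rfl⟩
  rw [← hC₀] at hqual
  have hC₀E : C₀ < E :=
    lt_of_le_of_ne (hC₀ ▸ inf_le_left) fun he => hne (he.symm.le.trans (hC₀ ▸ inf_le_right))
  obtain ⟨B, hB, hmin⟩ := (Set.toFinite {B : Subgroup G | C₀ < B ∧ B ≤ E ∧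
    Nat.card W₂ * Nat.card C₀ ≤ Nat.card B * Nat.card ↥(W₂ ⊓ Subgroup.centralizer (B : Set G))}).exists_minimal
      ⟨E, hC₀E, le_rfl, hqual⟩
  obtain ⟨hlt, hBE, hBq⟩ := hB
  have hmin' : ∀ B' : Subgroup G, C₀ < B' → B' < B →
      Nat.card B' * Nat.card ↥(W₂ ⊓ Subgroup.centralizer (B' : Set G)) < Nat.card W₂ * Nat.card C₀ :=
    fun B' h1 h2 => not_le.1 fun h3 => h2.not_ge (hmin ⟨h1, h2.le.trans hBE, h3⟩ h2.le)
  refine ⟨C₀, B, ⟨Local.elemAb_mono hE hBE, hBE.trans hER, hW₂,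
    fun a ha b hb => Local.elemAb_commute hW₂e ha hb, Local.elemAb_isPGroup hW₂e, ?_, hlt, ?_, hBq, hmin'⟩⟩
  · exact le_antisymm (le_inf hlt.le (hC₀ ▸ inf_le_right)) (hC₀ ▸ inf_le_inf_right _ hBE)
  · rcases hgood B hBE with h | h
    · exact h
    by_contra hcon
    obtain ⟨D, hD⟩ : ∃ D, D = B ⊓ Subgroup.centralizer (W : Set G) := ⟨_, rfl⟩
    rw [← hD] at h
    have hWW₂ : W ≤ W₂ := hW₂ ▸ le_iSup₂_of_le (f := fun g (_ : g ∈ (K' : Set G)) => cj W g) 1
      (one_mem _) (cj_one W).ge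
    have hC₀D : C₀ ≤ D := hD ▸ le_inf hlt.le ((hC₀ ▸ inf_le_right : C₀ ≤ _).trans
      (Subgroup.centralizer_le hWW₂))
    have hDB : D < B := lt_of_le_of_ne (hD ▸ inf_le_left) fun he => hcon (he.symm.le.trans (hD ▸ inf_le_right))
    have h1 : Nat.card D * Nat.card ↥(W₂ ⊓ Subgroup.centralizer (D : Set G)) ≤
        Nat.card W₂ * Nat.card C₀ := by
      rcases hC₀D.lt_or_eq with h1 | h1
      · exact (hmin' D h1 hDB).le
      · rw [← h1, inf_eq_left.2 (Subgroup.le_centralizer_iff.1 (hC₀ ▸ inf_le_right)), mul_comm]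
    have h2 : Nat.card W * Nat.card ↥(W₂ ⊓ Subgroup.centralizer (B : Set G)) ≤
        Nat.card ↥(W₂ ⊓ Subgroup.centralizer (D : Set G)) *
          Nat.card ↥(W ⊓ Subgroup.centralizer (B : Set G)) := by
      have h3 := card_mul_card_le (V := W) (C := W₂ ⊓ Subgroup.centralizer (B : Set G))
        (S := W₂ ⊓ Subgroup.centralizer (D : Set G))
        (fun g hg => Subgroup.centralizer_le_normalizer _ (Subgroup.mem_centralizer_iff.2 fun v hv =>
          Local.elemAb_commute hW₂e (hWW₂ hv) (Subgroup.mem_inf.1 hg).1))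
        (le_inf hWW₂ (Subgroup.le_centralizer_iff.1 (hD ▸ inf_le_right)))
        (inf_le_inf_left _ (Subgroup.centralizer_le hDB.le))
      rwa [← inf_assoc, inf_eq_left.2 hWW₂] at h3
    have h4 : Nat.card W * Nat.card D ≤
        1 * Nat.card B * Nat.card ↥(W ⊓ Subgroup.centralizer (B : Set G)) := by
      refine Nat.le_of_mul_le_mul_right ?_ (Nat.card_pos (α := ↥(W₂ ⊓ Subgroup.centralizer (B : Set G))))
      calc Nat.card W * Nat.card D * Nat.card ↥(W₂ ⊓ Subgroup.centralizer (B : Set G))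
          = Nat.card D * (Nat.card W * Nat.card ↥(W₂ ⊓ Subgroup.centralizer (B : Set G))) := by ring
        _ ≤ Nat.card D * (Nat.card ↥(W₂ ⊓ Subgroup.centralizer (D : Set G)) *
              Nat.card ↥(W ⊓ Subgroup.centralizer (B : Set G))) := Nat.mul_le_mul_left _ h2
        _ = Nat.card D * Nat.card ↥(W₂ ⊓ Subgroup.centralizer (D : Set G)) *
              Nat.card ↥(W ⊓ Subgroup.centralizer (B : Set G)) := by ring
        _ ≤ Nat.card B * Nat.card ↥(W₂ ⊓ Subgroup.centralizer (B : Set G)) *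
              Nat.card ↥(W ⊓ Subgroup.centralizer (B : Set G)) :=
            Nat.mul_le_mul_right _ (h1.trans hBq)
        _ = _ := by ring
    refine no_gain (q := q) Nat.card_pos h (h4.trans ?_) Nat.card_pos
    exact Nat.mul_le_mul_right _ (Nat.mul_le_mul_right _ hq.out.pos)

/-- A non-trivial solvable factor that is perfect does not exist. -/
theorem commutator_le_of_minimal {K K' : Subgroup G} (hs : Group.IsSolvable K') (hKK : K ≤ K')
    (hn : K' ≤ Subgroup.normalizer (K : Set G)) (h : K ⊔ ⁅K', K'⁆ = K') : K = K' := by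
  haveI hN : (K.subgroupOf K').Normal := (Subgroup.normal_subgroupOf_iff_le_normalizer hKK).2 hn
  let π := QuotientGroup.mk' (K.subgroupOf K')
  haveI : Group.IsSolvable K' := hs
  haveI : Group.IsSolvable (K' ⧸ K.subgroupOf K') :=
    Group.isSolvable_of_surjective (QuotientGroup.mk'_surjective _)
  have hle : ⁅K', K'⁆ ≤ K' := Subgroup.commutator_le.2 fun a ha b hb => by
    rw [commutatorElement_def]
    exact mul_mem (mul_mem (mul_mem ha hb) (inv_mem ha)) (inv_mem hb)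
  have hperf : (⊤ : Subgroup (K' ⧸ K.subgroupOf K')) ≤ ⁅(⊤ : Subgroup (K' ⧸ K.subgroupOf K')), (⊤ : Subgroup (K' ⧸ K.subgroupOf K'))⁆ := by
    intro y _
    obtain ⟨g, rfl⟩ := QuotientGroup.mk'_surjective _ y
    have hg : (g : G) ∈ ((K ⊔ ⁅K', K'⁆ : Subgroup G) : Set G) := h.ge g.2
    rw [Subgroup.coe_mul_of_right_le_normalizer_left K _ (hle.trans hn)] at hg
    obtain ⟨k, hk, t, ht, hkt⟩ := hg
    have ht' : (⟨t, hle ht⟩ : K') ∈ ⁅(⊤ : Subgroup K'), (⊤ : Subgroup K')⁆ := by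
      have e : (⁅(⊤ : Subgroup K'), (⊤ : Subgroup K')⁆).map K'.subtype = ⁅K', K'⁆ := by
        rw [Subgroup.map_commutator, ← MonoidHom.range_eq_map, Subgroup.range_subtype]
      obtain ⟨u, hu, hue⟩ := e.ge ht
      rwa [show (⟨t, hle ht⟩ : K') = u from Subtype.ext hue.symm]
    rw [show g = (⟨k, hKK hk⟩ : K') * ⟨t, hle ht⟩ from Subtype.ext hkt.symm, map_mul,
      show π ⟨k, hKK hk⟩ = 1 from (QuotientGroup.eq_one_iff _).2 hk, one_mul]
    have h2 := Subgroup.map_commutator (⊤ : Subgroup K') ⊤ π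
    rw [Subgroup.map_top_of_surjective π (QuotientGroup.mk'_surjective _)] at h2
    exact h2 ▸ ⟨_, ht', rfl⟩
  refine le_antisymm hKK fun g hg => ?_
  by_contra hgK
  haveI : Nontrivial (K' ⧸ K.subgroupOf K') :=
    ⟨⟨π ⟨g, hg⟩, 1, fun he => hgK ((QuotientGroup.eq_one_iff (⟨g, hg⟩ : K')).1 he)⟩⟩
  exact (Group.IsSolvable.commutator_lt_top_of_nontrivial (K' ⧸ K.subgroupOf K')).not_ge hperf

namespace Layer

variable {c : Ctx G p} {H R M W : Subgroup G} (d : Layer c q H R M W)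

include d

theorem red_le (hJ : ∀ X, c.fam X → X ≤ Subgroup.normalizer (jElem q (redC q H ⊓ M) : Set G) → X ≤ M) :
    redC q H ≤ M := by
  classical
  have s := d.single
  obtain ⟨Γ, hΓ⟩ : ∃ Γ, Γ = redC q H ⊓ M := ⟨_, rfl⟩
  rw [← hΓ] at hJ
  by_contra hcon
  have hΓlt : Γ < redC q H := lt_of_le_of_ne (hΓ ▸ inf_le_left) fun he => hcon (he.ge.trans (hΓ ▸ inf_le_right))
  have hRΓ : R ≤ Γ := hΓ ▸ le_inf d.hR.1 d.hRM
  have hAΓ : c.A ≤ Subgroup.normalizer (Γ : Set G) := fun a ha => mem_normalizer_of_cj_le (by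
    rw [hΓ, cj_inf, cj_eq_self (s.A_normalizer_Cu ha), cj_eq_self (c.nrm_a d.hM ha)])
  obtain ⟨K, hK⟩ : ∃ K, K = sSup {N | N ≤ Γ ∧ H ≤ Subgroup.normalizer (N : Set G)} := ⟨_, rfl⟩
  have hKΓ : K ≤ Γ := hK ▸ sSup_le fun _ h => h.1
  have hKn : H ≤ Subgroup.normalizer (K : Set G) := fun g hg => by
    rw [hK, sSup_eq_iSup]
    exact Solv.normalizer_biSup_le _ _ fun N hN => hN.2 hg
  have hKA : c.A ≤ Subgroup.normalizer (K : Set G) := fun a ha => mem_normalizer_of_cj_le (by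
    rw [hK, sSup_eq_iSup, cj, Subgroup.map_iSup]
    refine iSup_le fun N => ?_
    rw [Subgroup.map_iSup]
    refine iSup_le fun hN => le_iSup₂_of_le (cj N a) ⟨?_, ?_⟩ le_rfl
    · exact (cj_mono hN.1 a).trans (cj_eq_self (hAΓ ha)).le
    · rw [← cj_normalizer]
      exact (cj_eq_self (c.nrm_a s.colour.1 ha)).ge.trans (cj_mono hN.2 a))
  obtain ⟨K', hK'mem, hK'min⟩ := (Set.toFinite {N : Subgroup G | K < N ∧ N ≤ redC q H ∧
    H ≤ Subgroup.normalizer (N : Set G) ∧ c.A ≤ Subgroup.normalizer (N : Set G)}).exists_minimal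
      ⟨redC q H, lt_of_le_of_lt hKΓ hΓlt, le_rfl, s.H_normalizer_Cu, s.A_normalizer_Cu⟩
  obtain ⟨hKK', hK'Cu, hK'n, hK'A⟩ := hK'mem
  have hK'H : K' ≤ H := hK'Cu.trans s.Cu_le
  have hK'Γ : ¬ K' ≤ Γ := fun h => hKK'.not_ge (hK ▸ le_sSup ⟨h, hK'n⟩)
  have hsol : Group.IsSolvable K' := Solv.isSolvable_of_le hK'H s.colour.sol
  have hcle : ⁅K', K'⁆ ≤ K' := Subgroup.commutator_le.2 fun a ha b hb => by
    rw [commutatorElement_def]
    exact mul_mem (mul_mem (mul_mem ha hb) (inv_mem ha)) (inv_mem hb)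
  have hab : ⁅K', K'⁆ ≤ K := by
    by_contra hne
    have hlt : K < K ⊔ ⁅K', K'⁆ := lt_of_le_of_ne le_sup_left fun he => hne (he.symm.le.trans' le_sup_right)
    have hle : K ⊔ ⁅K', K'⁆ ≤ K' := sup_le hKK'.le hcle
    have heq := le_antisymm hle (hK'min ⟨hlt, hle.trans hK'Cu, fun g hg => mem_normalizer_of_cj_le (by
      rw [cj_sup, cj_commutator, cj_eq_self (hKn hg), cj_eq_self (hK'n hg)]), fun g hg =>
      mem_normalizer_of_cj_le (by rw [cj_sup, cj_commutator, cj_eq_self (hKA hg), cj_eq_self (hK'A hg)])⟩ hle)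
    exact hKK'.ne (commutator_le_of_minimal hsol hKK'.le (hK'H.trans hKn) heq)
  haveI hKnorm : (K.subgroupOf K').Normal :=
    (Subgroup.normal_subgroupOf_iff_le_normalizer hKK'.le).2 (hK'H.trans hKn)
  -- there is no `q`-torsion above `K`
  obtain ⟨T, hT⟩ : ∃ T : Subgroup G, ∀ g, g ∈ T ↔ g ∈ K' ∧ ∃ k : ℕ, g ^ q ^ k ∈ K := by
    have hcomm : ∀ a ∈ K', ∀ b ∈ K', ∀ m : ℕ, (a ^ m * b ^ m)⁻¹ * (a * b) ^ m ∈ K := by
      intro a ha b hb m
      let π := QuotientGroup.mk' (K.subgroupOf K')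
      have hc : Commute (π ⟨a, ha⟩) (π ⟨b, hb⟩) := by
        rw [commute_iff_eq, ← commutatorElement_eq_one_iff_mul_comm, ← map_commutatorElement]
        exact (QuotientGroup.eq_one_iff _).2 (hab (Subgroup.commutator_mem_commutator ha hb))
      have h1 : π ((⟨a, ha⟩ ^ m * ⟨b, hb⟩ ^ m)⁻¹ * (⟨a, ha⟩ * ⟨b, hb⟩) ^ m) = 1 := by
        rw [map_mul, map_inv, map_mul, map_pow, map_pow, map_pow, map_mul, hc.mul_pow, inv_mul_cancel]
      simpa [Subgroup.mem_subgroupOf] using (QuotientGroup.eq_one_iff _).1 h1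
    refine ⟨{ carrier := {g | g ∈ K' ∧ ∃ k : ℕ, g ^ q ^ k ∈ K}
              one_mem' := ⟨one_mem _, 0, by rw [one_pow]; exact one_mem _⟩
              mul_mem' := ?_
              inv_mem' := fun {x} hx => ⟨inv_mem hx.1, hx.2.imp fun k hk => by
                rw [inv_pow]; exact inv_mem hk⟩ }, fun g => Iff.rfl⟩
    rintro x y ⟨hx, i, hi⟩ ⟨hy, j, hj⟩
    refine ⟨mul_mem hx hy, i + j, ?_⟩
    have h1 := mul_mem (mul_mem (show x ^ q ^ (i + j) ∈ K by rw [pow_add, pow_mul]; exact pow_mem hi _)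
      (show y ^ q ^ (i + j) ∈ K by rw [pow_add, mul_comm, pow_mul]; exact pow_mem hj _))
      (hcomm x hx y hy (q ^ (i + j)))
    rwa [mul_inv_cancel_left] at h1
  have hRK' : Solv.IsSylIn q (K' ⊓ R) K' :=
    Single.fixed_le_U.inter_sylow d.hR hK'Cu (s.Cu_le.trans hK'n)
  have hTK : T = K := by
    have hle : T ≤ K' := fun g hg => ((hT g).1 hg).1
    have hKT : K ≤ T := fun g hg => (hT g).2 ⟨hKK'.le hg, 0, by rwa [pow_zero, pow_one]⟩
    by_contra hne
    have hTn : ∀ g, g ∈ Subgroup.normalizer (K : Set G) → g ∈ Subgroup.normalizer (K' : Set G) →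
        g ∈ Subgroup.normalizer (T : Set G) := fun g hg hg' => mem_normalizer_of_cj_le (by
      rintro _ ⟨t, ht, rfl⟩
      obtain ⟨ht', k, hk⟩ := (hT t).1 ht
      refine (hT _).2 ⟨nrm hg' ht', k, ?_⟩
      show (g * t * g⁻¹) ^ q ^ k ∈ K
      rw [conj_pow]
      exact nrm hg hk)
    have heq : T = K' := le_antisymm hle (hK'min ⟨lt_of_le_of_ne hKT (Ne.symm hne), hle.trans hK'Cu,
      fun g hg => hTn g (hKn hg) (hK'n hg), fun g hg => hTn g (hKA hg) (hK'A hg)⟩ hle)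
    refine hK'Γ ?_
    have hcard : Nat.card K' ≤ Nat.card ↥(K ⊔ (K' ⊓ R)) := by
      refine Nat.le_of_dvd Nat.card_pos ?_
      have h0 : ∀ S : Subgroup G, Nat.card S ≠ 0 := fun S => Nat.card_pos.ne'
      refine (Nat.factorization_le_iff_dvd (h0 _) (h0 _)).1 fun r => ?_
      by_cases hr : r.Prime
      swap
      · rw [Nat.factorization_eq_zero_of_not_prime _ hr]; exact Nat.zero_le _
      rcases eq_or_ne r q with rfl | hrq
      · refine (Nat.Prime.pow_dvd_iff_le_factorization hr (h0 _)).1 ?_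
        rw [← hRK'.2]
        exact Subgroup.card_dvd_of_le le_sup_right
      · refine le_trans (le_of_eq ?_) ((Nat.factorization_le_iff_dvd (h0 _) (h0 _)).2
          (Subgroup.card_dvd_of_le (le_sup_left : K ≤ K ⊔ (K' ⊓ R))) r)
        have hq2 : IsPGroup q (K' ⧸ K.subgroupOf K') := fun y => by
          obtain ⟨g, rfl⟩ := QuotientGroup.mk_surjective y
          obtain ⟨-, k, hk⟩ := (hT g).1 (heq.ge g.2)
          exact ⟨k, (QuotientGroup.eq_one_iff _).2 (by rwa [Subgroup.mem_subgroupOf, Subgroup.coe_pow])⟩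
        obtain ⟨a, ha⟩ := IsPGroup.iff_card.1 hq2
        rw [← Subgroup.index_eq_card] at ha
        have h1 := card_mul_relIndex_of_le hKK'.le
        rw [show K.relIndex K' = q ^ a from ha] at h1
        rw [← h1, Nat.factorization_mul (h0 _) (pow_ne_zero _ hq.out.ne_zero), Finsupp.add_apply,
          Nat.Prime.factorization_pow hq.out, Finsupp.single_eq_of_ne hrq, add_zero]
    exact (Subgroup.eq_of_le_of_card_ge (sup_le hKK'.le inf_le_left) hcard).ge.trans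
      (sup_le hKΓ (inf_le_right.trans hRΓ))
  have hRK : R ⊓ K' ≤ K := fun g hg => by
    obtain ⟨hgR, hgK⟩ := Subgroup.mem_inf.1 hg
    obtain ⟨k, hk⟩ := d.hR.isPGroup ⟨g, hgR⟩
    refine hTK.le ((hT g).2 ⟨hgK, k, ?_⟩)
    rw [show g ^ q ^ k = 1 from congrArg Subtype.val hk]
    exact one_mem K
  have hco : ¬ q ∣ K.relIndex K' := by
    intro hd
    obtain ⟨y, hy⟩ := exists_prime_orderOf_dvd_card' (G := K' ⧸ K.subgroupOf K') q
      (by rwa [← Subgroup.index_eq_card])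
    obtain ⟨g, rfl⟩ := QuotientGroup.mk_surjective y
    have h1 : (g : G) ∈ T := (hT g).2 ⟨g.2, 1, by
      rw [pow_one, ← Subgroup.coe_pow, ← Subgroup.mem_subgroupOf, ← QuotientGroup.eq_one_iff,
        QuotientGroup.mk_pow, ← hy, pow_orderOf_eq_one]⟩
    rw [hTK] at h1
    rw [(QuotientGroup.eq_one_iff g).2 (Subgroup.mem_subgroupOf.2 h1), orderOf_one] at hy
    exact hq.out.one_lt.ne hy
  have ch : Chief q H R M K K' := ⟨hΓ ▸ hKΓ, hKn, hK'Cu, hK'n, hKK'.le, hab, hRK, hco⟩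
  -- the span of the conjugates
  obtain ⟨W₂, hW₂⟩ : ∃ W₂, W₂ = ⨆ h ∈ (K' : Set G), cj W h := ⟨_, rfl⟩
  have hW₂Q : W₂ ≤ Ox q H := hW₂ ▸ iSup₂_le fun g hg =>
    (cj_mono d.W_le_Q g).trans (cj_eq_self (self_le_normalizer_Ox q H (hK'H hg))).le
  have hW₂e : IsElementaryAbelian q W₂ := by
    have hcl : W₂ ≤ Subgroup.closure {x | ∃ h ∈ K', x ∈ cj W h} :=
      hW₂ ▸ iSup₂_le fun g hg x hx => Subgroup.subset_closure ⟨g, hg, hx⟩
    refine Local.elemAb_mono (Local.elemAb_closure _ ?_ ?_) hcl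
    · rintro a ⟨g, hg, ha⟩ b ⟨g', hg', hb⟩
      have h1 := cj_mono (d.conj_comm (h := g⁻¹ * g') (hK'H (mul_mem (inv_mem hg) hg'))) g
      rw [cj_centralizer, cj_cj, mul_inv_cancel_left] at h1
      exact Subgroup.mem_centralizer_iff.1 (h1 hb) a ha
    · rintro a ⟨g, hg, w, hw, rfl⟩
      rw [← map_pow, d.hW.2 w hw, map_one]
  have hclaim : ∀ E ∈ maxIn (fun A : Subgroup G => IsElementaryAbelian q A) R,
      E ≤ Subgroup.centralizer (W₂ : Set G) := by
    intro E hE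
    by_contra hne
    have hqual : Nat.card W₂ * Nat.card ↥(E ⊓ Subgroup.centralizer (W₂ : Set G)) ≤
        Nat.card E * Nat.card ↥(W₂ ⊓ Subgroup.centralizer (E : Set G)) := by
      obtain ⟨C₀, hC₀⟩ : ∃ C₀, C₀ = E ⊓ Subgroup.centralizer (W₂ : Set G) := ⟨_, rfl⟩
      rw [← hC₀]
      have hC₀c : C₀ ≤ Subgroup.centralizer (W₂ : Set G) := hC₀ ▸ inf_le_right
      have hn : C₀ ≤ Subgroup.normalizer (W₂ : Set G) := hC₀c.trans (Subgroup.centralizer_le_normalizer _)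
      rw [← Solv.card_sup_mul_card_inf' W₂ C₀ hn]
      refine Nat.mul_le_mul (hE.2.2 _ ?_ (Local.elemAb_sup hW₂e (Local.elemAb_mono hE.2.1 (hC₀ ▸ inf_le_left))
        fun a ha b hb => Subgroup.mem_centralizer_iff.1 (hC₀c hb) a ha)) (Subgroup.card_le_of_le ?_)
      · exact sup_le (hW₂Q.trans (s.Q_le_sylow d.hR)) ((hC₀ ▸ inf_le_left : C₀ ≤ E).trans hE.1)
      · exact inf_le_inf_left _ ((hC₀ ▸ inf_le_left : C₀ ≤ E).trans fun e he =>
          Subgroup.mem_centralizer_iff.2 fun x hx => Local.elemAb_commute hE.2.1 hx he)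
    obtain ⟨C₀, B, mv⟩ := exists_mover hE.2.1 hE.1 hW₂ hW₂e hqual hne fun B hB =>
      d.good (hB.trans (hE.1.trans (hΓ ▸ hRΓ)))
        (fun b hb => by rw [hE.2.1.2 b (hB hb)]; exact one_mem _)
        (fun b hb b' hb' => by
          rw [commutatorElement_eq_one_iff_mul_comm.2 (Local.elemAb_commute hE.2.1 (hB hb) (hB hb'))]
          exact one_mem _)
    rcases lt_or_ge (q * Nat.card C₀) (Nat.card B) with h | h
    exacts [mv.big d ch h, mv.small d ch h]
  obtain ⟨X, hX⟩ : ∃ X, X = Γ ⊔ K' := ⟨_, rfl⟩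
  have hXCu : X ≤ redC q H := hX ▸ sup_le (hΓ ▸ inf_le_left) hK'Cu
  have hRX : Solv.IsSylIn q R X := sylIn_of_le d.hR (hX ▸ le_sup_of_le_left hRΓ) hXCu
  have hXW₂ : X ≤ Subgroup.normalizer (W₂ : Set G) := by
    rw [hX]
    refine sup_le (fun g hg => mem_normalizer_of_cj_le ?_) fun g hg => mem_normalizer_of_cj_le ?_
    · rw [hW₂, cj, Subgroup.map_iSup]
      refine iSup_le fun x => ?_
      rw [Subgroup.map_iSup]
      have hgΓ := hΓ ▸ hg
      refine iSup_le fun hx => le_iSup₂_of_le (g * x * g⁻¹)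
        (nrm (hK'n (s.Cu_le (Subgroup.mem_inf.1 hgΓ).1)) hx) ?_
      show cj (cj W x) g ≤ _
      have e1 : cj W (g * x) = cj W (g * x * g⁻¹) := by
        rw [← cj_mul_of_norm (d.hMW (Subgroup.mem_inf.1 hgΓ).2) (g * x * g⁻¹), inv_mul_cancel_right]
      rw [cj_cj, e1]
    · rw [hW₂, cj, Subgroup.map_iSup]
      refine iSup_le fun x => ?_
      rw [Subgroup.map_iSup]
      exact iSup_le fun hx => le_iSup₂_of_le (g * x) (mul_mem hg hx) (cj_cj W x g).le
  have hall : ∀ E ∈ maxIn (fun A : Subgroup G => IsElementaryAbelian q A) X, E ≤ Γ := by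
    intro E hE
    obtain ⟨x, hx, hEx⟩ := exists_cj_le_sylIn hRX (Local.elemAb_isPGroup hE.2.1) hE.1
    have hE' : cj E x⁻¹ ∈ maxIn (fun A : Subgroup G => IsElementaryAbelian q A) R := by
      refine ⟨(cj_mono hEx x⁻¹).trans (cj_cj_inv R x).le,
        (replFamily_elementary q).map_equiv hE.2.1 _, fun B hB hBe => ?_⟩
      rw [card_cj]
      exact hE.2.2 B (hB.trans hRX.1) hBe
    have h1 := cj_mono (hclaim _ hE') x
    rw [cj_inv_cj, cj_centralizer, cj_eq_self (hXW₂ hx)] at h1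
    have hEW : E ≤ Subgroup.centralizer (W : Set G) := h1.trans (Subgroup.centralizer_le
      (hW₂ ▸ le_iSup₂_of_le (f := fun g (_ : g ∈ (K' : Set G)) => cj W g) 1 (one_mem _) (cj_one W).ge))
    rw [hΓ]
    exact le_inf (hE.1.trans hXCu)
      ((le_inf (hE.1.trans hXCu) (hEW.trans (Subgroup.centralizer_le_normalizer _))).trans d.cuN_le)
  have hJeq : jElem q X = jElem q Γ := by
    rw [jElem, jElem, maxIn_eq_of_le (replFamily_elementary q) (hX ▸ le_sup_left) hall]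
  have hXA : c.A ≤ Subgroup.normalizer (X : Set G) := fun a ha => mem_normalizer_of_cj_le (by
    rw [hX, cj_sup, cj_eq_self (hAΓ ha), cj_eq_self (hK'A ha)])
  have hXM := hJ X (c.fam_le s.Cu_fam hXCu hXA)
    (Subgroup.le_normalizer.trans ((normalizer_le_jElem (p := q) X).trans (by rw [hJeq])))
  exact hK'Γ (hΓ ▸ le_inf hK'Cu ((le_sup_right.trans hX.ge).trans hXM))

end Layer

end Cfsg.Agent.SSF
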