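import Cfsg.Agent.Lib.SSF.Single

/-!
A reduced module normalised by a member lies in the core and commutes with its conjugates.
-/

set_option autoImplicit false
set_option linter.style.haveILetI false

open Cfsg Cfsg.Agent Cfsg.Agent.Fusion
open scoped commutatorElement Pointwise

namespace Cfsg.Agent.SSF

universe u

variable {G : Type u} [Group G] [Finite G] {p q : ℕ} [hp : Fact p.Prime] [hq : Fact q.Prime]

/-- A member containing a Sylow subgroup of the centraliser, with a reduced normal module. -/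
structure Layer {G : Type u} [Group G] [Finite G] {p : ℕ} [Fact p.Prime] (c : Ctx G p) (q : ℕ)
    (H R M W : Subgroup G) : Prop where
  single : Single c q H
  hR : Solv.IsSylIn q R (redC q H)
  hW : IsElementaryAbelian q W
  hWne : W ≠ ⊥
  hWCu : W ≤ redC q H
  hAW : c.A ≤ Subgroup.normalizer (W : Set G)
  hM : c.fam M
  hMW : M ≤ Subgroup.normalizer (W : Set G)
  hgr : ∀ X, c.fam X → X ≤ Subgroup.normalizer (W : Set G) → X ≤ M
  hRM : R ≤ M
  hred : Red q M W

/-- Cross-multiplication of two strict inequalities. -/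
theorem no_mutual {q a b x y v w s t : ℕ} (hq : 1 < q) (ha : 0 < a) (hb : 0 < b) (hx : 0 < x) (hy : 0 < y)
    (h1 : q ^ 2 * b * x ≤ w * s) (h2 : q ^ 2 * a * y ≤ v * t) (h3 : w * t ≤ q * a * x)
    (h4 : v * s ≤ q * b * y) : False := by
  have h5 := Nat.mul_le_mul h1 h2
  have h6 := Nat.mul_le_mul h3 h4
  have h7 : q ^ 2 * (q ^ 2 * (a * b * x * y)) ≤ q ^ 2 * (a * b * x * y) := by
    calc q ^ 2 * (q ^ 2 * (a * b * x * y)) = q ^ 2 * b * x * (q ^ 2 * a * y) := by ring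
      _ ≤ w * s * (v * t) := h5
      _ = w * t * (v * s) := by ring
      _ ≤ q * a * x * (q * b * y) := h6
      _ = _ := by ring
  have hpos : 0 < q ^ 2 * (a * b * x * y) :=
    Nat.mul_pos (pow_pos (by omega) 2) (Nat.mul_pos (Nat.mul_pos (Nat.mul_pos ha hb) hx) hy)
  exact absurd h7 (not_le.2 (lt_mul_of_one_lt_left hpos (Nat.one_lt_pow (by norm_num) hq)))

namespace Layer

variable {c : Ctx G p} {H R M W : Subgroup G} (d : Layer c q H R M W)

include d

theorem W_fam : c.fam W := c.fam_le d.single.Cu_fam d.hWCu d.hAW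

theorem W_le_M : W ≤ M := d.hgr W d.W_fam Subgroup.le_normalizer

theorem W_le_H : W ≤ H := d.hWCu.trans d.single.Cu_le

theorem Q_le_M : Ox q H ≤ M := (d.single.Q_le_sylow d.hR).trans d.hRM

theorem cuN_le : redC q H ⊓ Subgroup.normalizer (W : Set G) ≤ M :=
  d.hgr _ (c.fam_le d.single.Cu_fam inf_le_left (fun a ha => mem_normalizer_of_cj_le (by
    rw [cj_inf, cj_eq_self (d.single.A_normalizer_Cu ha), cj_normalizer, cj_eq_self (d.hAW ha)])))
    inf_le_right

theorem fixedR_le_U : W ⊓ Subgroup.centralizer (R : Set G) ≤ redU q H := by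
  have s := d.single
  have hR := d.hR
  obtain ⟨X, hX⟩ : ∃ X, X = redC q H ⊓ Subgroup.centralizer (Ox q H : Set G) := ⟨_, rfl⟩
  have hXf : c.fam X := hX ▸ c.fam_le s.Cu_fam inf_le_left (fun a ha => mem_normalizer_of_cj_le (by
    rw [cj_inf, cj_centralizer, cj_eq_self (s.A_normalizer_Cu ha),
      cj_eq_self (normalizer_le_normalizer_Ox q H (c.nrm_a s.colour.1 ha))]))
  have hXQ : X ≤ Ox q H := s.fam_cent_le hXf (hX ▸ inf_le_right)
  intro w hw
  obtain ⟨hw1, hw2⟩ := Subgroup.mem_inf.1 hw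
  have hwc : w ∈ Subgroup.centralizer (Ox q H : Set G) :=
    Subgroup.centralizer_le (s.Q_le_sylow hR) hw2
  exact s.fixed_le_U hR (Subgroup.mem_inf.2
    ⟨mem_omegaZ (hXQ (hX ▸ Subgroup.mem_inf.2 ⟨d.hWCu hw1, hwc⟩)) hwc (d.hW.2 w hw1), hw2⟩)

/-- Sections of `redC ⊓ M` that are elementary on `W` have large index. -/
theorem good {B : Subgroup G} (hB : B ≤ redC q H ⊓ M)
    (hBq : ∀ b ∈ B, b ^ q ∈ Subgroup.centralizer (W : Set G))
    (hBc : ∀ b ∈ B, ∀ b' ∈ B, ⁅b, b'⁆ ∈ Subgroup.centralizer (W : Set G)) :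
    B ≤ Subgroup.centralizer (W : Set G) ∨
      q ^ 2 * Nat.card B * Nat.card ↥(W ⊓ Subgroup.centralizer (B : Set G)) ≤
        Nat.card W * Nat.card ↥(B ⊓ Subgroup.centralizer (W : Set G)) := by
  refine good_act d.single.hq23 d.hW c.hA d.hAW d.hMW (c.nrmA d.hM) (c.sol d.hM) d.hM.2.1 d.hred
    inf_le_right ?_ ?_ (le_inf d.hR.1 d.hRM) d.hR.isPGroup ?_ hB hBq hBc
  · exact fun a ha => mem_normalizer_of_cj_le (by
      rw [cj_inf, cj_eq_self (d.single.A_normalizer_Cu ha), cj_eq_self (c.nrm_a d.hM ha)])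
  · intro m hm
    have hmH : m ∈ H := d.single.colour.2.1 (c.inf_centA_le d.hM hm)
    exact mem_normalizer_of_cj_le (by
      rw [cj_inf, cj_eq_self (d.single.H_normalizer_Cu hmH), cj_eq_self_of_mem (Subgroup.mem_inf.1 hm).1])
  · intro y hy _
    exact Subgroup.centralizer_le d.fixedR_le_U (Subgroup.mem_inf.1 (Subgroup.mem_inf.1 hy).1).2

theorem good_conj {h : G} (hh : h ∈ H) {B : Subgroup G} (hB : B ≤ redC q H ⊓ cj M h)
    (hBe : IsElementaryAbelian q B) :
    B ≤ Subgroup.centralizer (cj W h : Set G) ∨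
      q ^ 2 * Nat.card B * Nat.card ↥(cj W h ⊓ Subgroup.centralizer (B : Set G)) ≤
        Nat.card W * Nat.card ↥(B ⊓ Subgroup.centralizer (cj W h : Set G)) := by
  obtain ⟨B', hB'⟩ : ∃ B', B' = cj B h⁻¹ := ⟨_, rfl⟩
  have hBB : cj B' h = B := hB' ▸ cj_inv_cj B h
  have hle : B' ≤ redC q H ⊓ M := by
    rw [hB']
    refine (cj_mono hB h⁻¹).trans ?_
    rw [cj_inf, cj_cj_inv, cj_eq_self (inv_mem (d.single.H_normalizer_Cu hh))]
  have he : IsElementaryAbelian q B' := by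
    refine ⟨⟨⟨fun a b => Subtype.ext ?_⟩⟩, fun b hb => ?_⟩
    · obtain ⟨a', ha', hae⟩ := (hB' ▸ a.2 : (a : G) ∈ cj B h⁻¹)
      obtain ⟨b', hb', hbe⟩ := (hB' ▸ b.2 : (b : G) ∈ cj B h⁻¹)
      show (a : G) * b = b * a
      rw [← hae, ← hbe, ← map_mul, ← map_mul, Local.elemAb_commute hBe ha' hb']
    · rw [hB'] at hb
      obtain ⟨b', hb', rfl⟩ := hb
      rw [← map_pow, hBe.2 b' hb', map_one]
  rcases d.good hle (fun b hb => by rw [he.2 b hb]; exact one_mem _) (fun b hb b' hb' => by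
    rw [commutatorElement_eq_one_iff_mul_comm.2 (Local.elemAb_commute he hb hb')]; exact one_mem _) with h1 | h1
  · refine Or.inl ?_
    rw [← hBB, ← cj_centralizer]
    exact cj_mono h1 h
  · refine Or.inr ?_
    rw [← hBB, card_cj, ← cj_centralizer, ← cj_centralizer, ← cj_inf, ← cj_inf, card_cj, card_cj]
    exact h1

theorem W_le_Q : W ≤ Ox q H := by
  classical
  have s := d.single
  have hQn := self_le_normalizer_Ox q H
  haveI hQN : ((Ox q H).subgroupOf H).Normal :=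
    (Subgroup.normal_subgroupOf_iff_le_normalizer (Ox_le q H)).2 hQn
  let π := QuotientGroup.mk' ((Ox q H).subgroupOf H)
  have hker : ∀ g : H, π g = 1 ↔ (g : G) ∈ Ox q H := fun g =>
    (QuotientGroup.eq_one_iff g).trans Subgroup.mem_subgroupOf
  obtain ⟨Wb, hWb⟩ : ∃ Wb, Wb = (W.subgroupOf H).map π := ⟨_, rfl⟩
  have hWbe : IsElementaryAbelian q Wb := by
    refine ⟨⟨⟨fun a b => Subtype.ext ?_⟩⟩, fun b hb => ?_⟩
    · obtain ⟨a', ha', hae⟩ := (hWb ▸ a.2 : (a : H ⧸ (Ox q H).subgroupOf H) ∈ (W.subgroupOf H).map π)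
      obtain ⟨b', hb', hbe⟩ := (hWb ▸ b.2 : (b : H ⧸ (Ox q H).subgroupOf H) ∈ (W.subgroupOf H).map π)
      show (a : H ⧸ (Ox q H).subgroupOf H) * b = b * a
      rw [← hae, ← hbe, ← map_mul, ← map_mul,
        show a' * b' = b' * a' from Subtype.ext (Local.elemAb_commute d.hW ha' hb')]
    · rw [hWb] at hb
      obtain ⟨b', hb', rfl⟩ := hb
      rw [← map_pow, show b' ^ q = 1 from Subtype.ext (d.hW.2 _ hb'), map_one]
  have hOq : Ox q (⊤ : Subgroup (H ⧸ (Ox q H).subgroupOf H)) = ⊥ := by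
    obtain ⟨P, hP⟩ : ∃ P, P = ((Ox q (⊤ : Subgroup (H ⧸ (Ox q H).subgroupOf H))).comap π).map H.subtype :=
      ⟨_, rfl⟩
    have hPm : ∀ g : H, (g : G) ∈ P ↔ π g ∈ Ox q (⊤ : Subgroup (H ⧸ (Ox q H).subgroupOf H)) := fun g => by
      rw [hP]
      exact ⟨fun ⟨g', hg', he⟩ => Subtype.ext he ▸ hg', fun h => ⟨g, h, rfl⟩⟩
    have hPH : P ≤ H := hP ▸ Subgroup.map_subtype_le _
    have hPQ : P ≤ Ox q H := by
      refine le_Ox hPH (fun g hg => mem_normalizer_of_cj_le ?_) fun g => ?_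
      · rintro _ ⟨y, hy, rfl⟩
        refine (hPm (⟨g, hg⟩ * ⟨y, hPH hy⟩ * ⟨g, hg⟩⁻¹)).2 ?_
        rw [map_mul, map_mul, map_inv]
        exact nrm (self_le_normalizer_Ox q _ (Subgroup.mem_top _)) ((hPm ⟨y, hPH hy⟩).1 hy)
      · obtain ⟨k, hk⟩ := isPGroup_Ox q _ ⟨_, (hPm ⟨g, hPH g.2⟩).1 g.2⟩
        have h1 : (g : G) ^ q ^ k ∈ Ox q H := by
          have := (hker (⟨g, hPH g.2⟩ ^ q ^ k)).1 (by rw [map_pow]; exact congrArg Subtype.val hk)
          simpa using this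
        obtain ⟨l, hl⟩ := isPGroup_Ox q H ⟨_, h1⟩
        refine ⟨k + l, Subtype.ext ?_⟩
        rw [Subgroup.coe_pow, pow_add, pow_mul]
        exact congrArg Subtype.val hl
    refine (Subgroup.eq_bot_iff_forall _).2 fun y hy => ?_
    obtain ⟨g, rfl⟩ := QuotientGroup.mk'_surjective _ y
    exact (hker g).2 (hPQ ((hPm g).2 hy))
  -- the image centralises every core
  have hcent : ∀ r : ℕ, r.Prime →
      Wb ≤ Subgroup.centralizer (Ox r (⊤ : Subgroup (H ⧸ (Ox q H).subgroupOf H)) : Set _) := by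
    intro r hr
    rcases eq_or_ne r q with rfl | hne
    · rw [hOq]
      exact fun y _ => Subgroup.mem_centralizer_iff.2 fun z hz => by
        rw [Subgroup.mem_bot.1 hz, one_mul, mul_one]
    haveI := Fact.mk hr
    have hWn : Wb ≤ Subgroup.normalizer
        (Ox r (⊤ : Subgroup (H ⧸ (Ox q H).subgroupOf H)) : Set _) :=
      le_top.trans (self_le_normalizer_Ox r _)
    refine Subgroup.le_centralizer_iff.1 ((Solv.gen_eq Wb _ hWbe.1 hWn
      (card_coprime_of_ne hq.out hr hne.symm (Local.elemAb_isPGroup hWbe) (isPGroup_Ox r _))).ge.trans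
        (iSup₂_le fun W₀b hW₀b hb hhb => ?_))
    obtain ⟨hW₀le, ab, hab, hW₀⟩ := hW₀b
    obtain ⟨hbO, hbc⟩ := Subgroup.mem_inf.1 hhb
    obtain ⟨h, rfl⟩ := QuotientGroup.mk'_surjective _ hb
    obtain ⟨W₀, hW₀d⟩ : ∃ W₀, W₀ = W ⊓ (W₀b.comap π).map H.subtype := ⟨_, rfl⟩
    have hm₀ : ∀ w : H, (w : G) ∈ W₀ ↔ (w : G) ∈ W ∧ π w ∈ W₀b := fun w => by
      rw [hW₀d, Subgroup.mem_inf]
      exact and_congr_right fun _ => ⟨fun ⟨g', hg', he⟩ => Subtype.ext he ▸ hg', fun h => ⟨w, h, rfl⟩⟩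
    rw [hWb] at hab
    obtain ⟨a, ha, rfl⟩ := hab
    have hcardW : Nat.card W ≤ q * Nat.card W₀ := by
      have hW₀W : W₀ ≤ W := hW₀d ▸ inf_le_left
      refine card_sup_zpowers_le (fun b hb => Local.elemAb_commute d.hW ha (hW₀W hb))
        (le_antisymm (sup_le hW₀W (Subgroup.zpowers_le.2 ha)) fun w hw => ?_) (d.hW.2 _ ha)
      have hwb : π ⟨w, d.W_le_H hw⟩ ∈ W₀b ⊔ Subgroup.zpowers (π a) :=
        hW₀.ge (hWb ▸ ⟨⟨w, d.W_le_H hw⟩, hw, rfl⟩)
      have hwb' : π ⟨w, d.W_le_H hw⟩ ∈ ((W₀b ⊔ Subgroup.zpowers (π a) : Subgroup _) : Set _) := hwb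
      rw [Subgroup.coe_mul_of_right_le_normalizer_left W₀b _ (Subgroup.zpowers_le.2
        (Subgroup.centralizer_le_normalizer _ (Subgroup.mem_centralizer_iff.2 fun b hb =>
          Local.elemAb_commute hWbe (hW₀le hb) (hWb ▸ ⟨a, ha, rfl⟩))))] at hwb'
      obtain ⟨u, hu, t, ht, hut⟩ := hwb'
      obtain ⟨i, hi⟩ := Subgroup.mem_zpowers_iff.1 ht
      have h1 : w * ((a : G) ^ i)⁻¹ ∈ W₀ := by
        refine (hm₀ (⟨w, d.W_le_H hw⟩ * (a ^ i)⁻¹)).2 ⟨?_, ?_⟩
        · rw [Subgroup.coe_mul, Subgroup.coe_inv, Subgroup.coe_zpow]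
          exact mul_mem hw (inv_mem (zpow_mem ha i))
        · rw [map_mul, map_inv, map_zpow, ← hut, ← hi, mul_inv_cancel_right]
          exact hu
      have h2 := mul_mem (Subgroup.mem_sup_left h1 : _ ∈ W₀ ⊔ Subgroup.zpowers (a : G))
        (Subgroup.mem_sup_right (zpow_mem (Subgroup.mem_zpowers (a : G)) i))
      rwa [inv_mul_cancel_right] at h2
    -- elements of `W₀` are moved into `M`
    have hmove : ∀ g : H, π g = π h ∨ π g = (π h)⁻¹ → ∀ w : H, (w : G) ∈ W₀ →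
        (g : G) * w * (g : G)⁻¹ ∈ M := by
      intro g hg w hw
      obtain ⟨hwW, hwb⟩ := (hm₀ w).1 hw
      have hcom : Commute (π w) (π h) := Subgroup.mem_centralizer_iff.1 hbc _ hwb
      have hQ : ((⁅g, w⁆ : H) : G) ∈ Ox q H := by
        rw [← hker, map_commutatorElement]
        rcases hg with hg | hg <;> rw [hg, commutatorElement_eq_one_iff_mul_comm]
        exacts [hcom.symm.eq, hcom.inv_right.symm.eq]
      rw [show (g : G) * w * (g : G)⁻¹ = ((⁅g, w⁆ : H) : G) * w by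
        show _ = (g : G) * w * (g : G)⁻¹ * (w : G)⁻¹ * w
        group]
      exact mul_mem (d.Q_le_M hQ) (d.W_le_M hwW)
    obtain ⟨V, hV⟩ : ∃ V, V = cj W (h : G) := ⟨_, rfl⟩
    obtain ⟨B, hB⟩ : ∃ B, B = V ⊓ M := ⟨_, rfl⟩
    obtain ⟨C', hC'⟩ : ∃ C', C' = W ⊓ cj M (h : G) := ⟨_, rfl⟩
    have hW₀B : cj W₀ (h : G) ≤ B := by
      rintro _ ⟨w, hw, rfl⟩
      rw [hB, hV]
      have hwH : w ∈ H := d.W_le_H ((hW₀d ▸ inf_le_left : W₀ ≤ W) hw)
      exact Subgroup.mem_inf.2 ⟨conj_mem_cj ((hW₀d ▸ inf_le_left : W₀ ≤ W) hw),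
        hmove h (Or.inl rfl) ⟨w, hwH⟩ hw⟩
    have hW₀C : W₀ ≤ C' := fun w hw => by
      rw [hC']
      have hwW := (hW₀d ▸ inf_le_left : W₀ ≤ W) hw
      have := conj_mem_cj (g := (h : G)) (hmove h⁻¹ (Or.inr (map_inv π h)) ⟨w, d.W_le_H hwW⟩ hw)
      refine Subgroup.mem_inf.2 ⟨hwW, ?_⟩
      rwa [Subgroup.coe_inv, show (h : G) * ((h : G)⁻¹ * w * (h : G)⁻¹⁻¹) * (h : G)⁻¹ = w by group] at this
    have hVcu : V ≤ redC q H := hV ▸ (cj_mono d.hWCu _).trans (cj_eq_self (s.H_normalizer_Cu h.2)).le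
    have hVe : IsElementaryAbelian q V := by
      rw [hV]
      refine ⟨⟨⟨fun a b => Subtype.ext ?_⟩⟩, ?_⟩
      · obtain ⟨a', ha', hae⟩ := a.2
        obtain ⟨b', hb', hbe⟩ := b.2
        show (a : G) * b = b * a
        rw [← hae, ← hbe, ← map_mul, ← map_mul, Local.elemAb_commute d.hW ha' hb']
      · rintro _ ⟨b', hb', rfl⟩
        rw [← map_pow, d.hW.2 b' hb', map_one]
    have hBV : B ≤ V := hB ▸ inf_le_left
    have hC'W : C' ≤ W := hC' ▸ inf_le_left
    have hcardV : Nat.card V ≤ q * Nat.card B := by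
      rw [hV, card_cj]
      refine hcardW.trans (Nat.mul_le_mul_left _ ?_)
      rw [← card_cj W₀ (h : G)]
      exact Subgroup.card_le_of_le hW₀B
    have hcardC : Nat.card W ≤ q * Nat.card C' :=
      hcardW.trans (Nat.mul_le_mul_left _ (Subgroup.card_le_of_le hW₀C))
    have g1 := d.good (B := B) (le_inf (hBV.trans hVcu) (hB ▸ inf_le_right))
      (fun b hb => by rw [hVe.2 b (hBV hb)]; exact one_mem _)
      (fun b hb b' hb' => by
        rw [commutatorElement_eq_one_iff_mul_comm.2 (Local.elemAb_commute hVe (hBV hb) (hBV hb'))]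
        exact one_mem _)
    have g2 := d.good_conj h.2 (B := C') (le_inf (hC'W.trans d.hWCu) (hC' ▸ inf_le_right))
      (Local.elemAb_mono d.hW hC'W)
    rw [← hV] at g2
    have hWV : Nat.card V = Nat.card W := by rw [hV, card_cj]
    have key : B ≤ Subgroup.centralizer (W : Set G) ∧ C' ≤ Subgroup.centralizer (V : Set G) := by
      have i1 : C' ⊓ Subgroup.centralizer (V : Set G) ≤ W ⊓ Subgroup.centralizer (B : Set G) :=
        inf_le_inf hC'W (Subgroup.centralizer_le hBV)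
      have i2 : B ⊓ Subgroup.centralizer (W : Set G) ≤ V ⊓ Subgroup.centralizer (C' : Set G) :=
        inf_le_inf hBV (Subgroup.centralizer_le hC'W)
      have e1 : Nat.card W * Nat.card ↥(C' ⊓ Subgroup.centralizer (V : Set G)) ≤
          q * Nat.card C' * Nat.card ↥(W ⊓ Subgroup.centralizer (B : Set G)) :=
        Nat.mul_le_mul hcardC (Subgroup.card_le_of_le i1)
      have e2 : Nat.card V * Nat.card ↥(B ⊓ Subgroup.centralizer (W : Set G)) ≤
          q * Nat.card B * Nat.card ↥(V ⊓ Subgroup.centralizer (C' : Set G)) :=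
        Nat.mul_le_mul hcardV (Subgroup.card_le_of_le i2)
      rcases g1 with g1 | g1 <;> rcases g2 with g2 | g2
      · exact ⟨g1, g2⟩
      · exfalso
        have h2 : B ≤ V ⊓ Subgroup.centralizer (C' : Set G) :=
          le_inf hBV (g1.trans (Subgroup.centralizer_le hC'W))
        have h3 : q * Nat.card ↥(V ⊓ Subgroup.centralizer (C' : Set G)) * Nat.card C' * q ≤
            q * Nat.card ↥(V ⊓ Subgroup.centralizer (C' : Set G)) * Nat.card C' := by
          calc _ = q ^ 2 * Nat.card C' * Nat.card ↥(V ⊓ Subgroup.centralizer (C' : Set G)) := by ring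
            _ ≤ _ := g2
            _ ≤ _ := Nat.mul_le_mul (hWV ▸ hcardV.trans (Nat.mul_le_mul_left _ (Subgroup.card_le_of_le h2)))
              (Subgroup.card_le_of_le inf_le_left)
        exact absurd h3 (not_le.2 (lt_mul_of_one_lt_right
          (Nat.mul_pos (Nat.mul_pos hq.out.pos Nat.card_pos) Nat.card_pos) hq.out.one_lt))
      · exfalso
        have h2 : C' ≤ W ⊓ Subgroup.centralizer (B : Set G) :=
          le_inf hC'W (g2.trans (Subgroup.centralizer_le hBV))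
        have h3 : q * Nat.card ↥(W ⊓ Subgroup.centralizer (B : Set G)) * Nat.card B * q ≤
            q * Nat.card ↥(W ⊓ Subgroup.centralizer (B : Set G)) * Nat.card B := by
          calc _ = q ^ 2 * Nat.card B * Nat.card ↥(W ⊓ Subgroup.centralizer (B : Set G)) := by ring
            _ ≤ _ := g1
            _ ≤ _ := Nat.mul_le_mul (hcardC.trans (Nat.mul_le_mul_left _ (Subgroup.card_le_of_le h2)))
              (Subgroup.card_le_of_le inf_le_left)
        exact absurd h3 (not_le.2 (lt_mul_of_one_lt_right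
          (Nat.mul_pos (Nat.mul_pos hq.out.pos Nat.card_pos) Nat.card_pos) hq.out.one_lt))
      · exfalso
        rw [← hWV] at g2
        exact no_mutual hq.out.one_lt Nat.card_pos Nat.card_pos Nat.card_pos Nat.card_pos g1 g2 e1 e2
    -- commutators of elements of the two conjugates lie in the core
    refine Subgroup.mem_centralizer_iff.2 fun y hy => ?_
    rw [hWb] at hy
    obtain ⟨x, hx, rfl⟩ := hy
    obtain ⟨y, hyd⟩ : ∃ y, y = (h : G) * x * (h : G)⁻¹ := ⟨_, rfl⟩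
    have hyV : y ∈ V := hV ▸ hyd ▸ conj_mem_cj hx
    have hxy : ((⁅x, h * x * h⁻¹⁆ : H) : G) ∈ Ox q H := by
      have e : ((⁅x, h * x * h⁻¹⁆ : H) : G) = ⁅(x : G), y⁆ := by rw [hyd]; rfl
      rw [e]
      refine s.cent_Q_le (Subgroup.mem_inf.2 ⟨comm_mem_right (Subgroup.le_normalizer x.2)
        ((hV ▸ hVcu.trans s.Cu_le : cj W (h : G) ≤ H) (hV ▸ hyV)), ?_⟩)
      refine Subgroup.mem_centralizer_iff.2 fun u hu => ?_
      have huW : u ∈ Subgroup.normalizer (W : Set G) := d.hMW (d.Q_le_M hu)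
      have huV : u ∈ Subgroup.normalizer (V : Set G) := mem_normalizer_of_cj_le (by
        rintro _ ⟨v, hv, rfl⟩
        rw [hV] at hv ⊢
        obtain ⟨w, hw, rfl⟩ := hv
        have hu' : (h : G)⁻¹ * u * (h : G)⁻¹⁻¹ ∈ Subgroup.normalizer (W : Set G) :=
          d.hMW (d.Q_le_M (nrm (inv_mem (hQn h.2)) hu))
        refine ⟨(h : G)⁻¹ * u * (h : G)⁻¹⁻¹ * w * ((h : G)⁻¹ * u * (h : G)⁻¹⁻¹)⁻¹, nrm hu' hw, ?_⟩
        show (h : G) * _ * (h : G)⁻¹ = u * ((h : G) * w * (h : G)⁻¹) * u⁻¹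
        group)
      obtain ⟨w', hw'⟩ : ∃ w', w' = ⁅u, (x : G)⁆ := ⟨_, rfl⟩
      obtain ⟨v', hv'⟩ : ∃ v', v' = ⁅u, y⁆ := ⟨_, rfl⟩
      have hwW : w' ∈ W := hw' ▸ comm_mem_right huW hx
      have hvV : v' ∈ V := hv' ▸ comm_mem_right huV hyV
      have hwQ : w' ∈ Ox q H := hw' ▸ comm_mem_left (hQn x.2) hu
      have hvQ : v' ∈ Ox q H := hv' ▸
        comm_mem_left (hQn ((hV ▸ hVcu.trans s.Cu_le : cj W (h : G) ≤ H) (hV ▸ hyV))) hu
      have hwC : w' ∈ C' := hC' ▸ Subgroup.mem_inf.2 ⟨hwW, by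
        have := conj_mem_cj (g := (h : G)) (d.Q_le_M (nrm (inv_mem (hQn h.2)) hwQ))
        rwa [show (h : G) * ((h : G)⁻¹ * w' * (h : G)⁻¹⁻¹) * (h : G)⁻¹ = w' by group] at this⟩
      have hvB : v' ∈ B := hB ▸ Subgroup.mem_inf.2 ⟨hvV, d.Q_le_M hvQ⟩
      have c1 : Commute y w' := Subgroup.mem_centralizer_iff.1 (key.2 hwC) y hyV
      have c2 : Commute (x : G) v' := Subgroup.mem_centralizer_iff.1 (key.1 hvB) _ hx
      have c3 : Commute w' v' := Subgroup.mem_centralizer_iff.1 (key.1 hvB) _ hwW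
      have c4 : Commute (x : G) w' := Local.elemAb_commute d.hW hx hwW
      have c5 : Commute y v' := Local.elemAb_commute hVe hyV hvV
      have e2 : u * ⁅(x : G), y⁆ * u⁻¹ = ⁅w' * (x : G), v' * y⁆ := by
        rw [hw', hv']; simp only [commutatorElement_def]; group
      have e3 : ⁅w' * (x : G), v' * y⁆ = ⁅(x : G), y⁆ := by
        have k1 : Commute (x : G)⁻¹ w' := c4.inv_left
        calc ⁅w' * (x : G), v' * y⁆ = (w' * x) * (v' * y) * ((x : G)⁻¹ * w'⁻¹) * (y⁻¹ * v'⁻¹) := by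
              rw [commutatorElement_def]; group
          _ = (x * w') * (v' * y) * (w'⁻¹ * (x : G)⁻¹) * (v'⁻¹ * y⁻¹) := by
              rw [c4.eq, k1.inv_right.eq, c5.inv_inv.eq]
          _ = x * (v' * (w' * y)) * w'⁻¹ * ((x : G)⁻¹ * v'⁻¹) * y⁻¹ := by
              rw [← mul_assoc v', ← c3.eq]; group
          _ = x * (v' * y) * (v'⁻¹ * (x : G)⁻¹) * y⁻¹ := by
              rw [← c1.eq, c2.inv_inv.eq]; group
          _ = x * y * (x : G)⁻¹ * y⁻¹ := by rw [← c5.eq]; group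
          _ = _ := by rw [commutatorElement_def]
      exact mul_inv_eq_iff_eq_mul.1 (e2.trans e3)
    have h1 : ⁅π x, π h * π x * (π h)⁻¹⁆ = 1 := by
      rw [← map_inv, ← map_mul, ← map_mul, ← map_commutatorElement, hker]
      exact hxy
    obtain ⟨t, ht⟩ : ∃ t, t = ⁅π h, π x⁆ := ⟨_, rfl⟩
    have htq : t ^ q = 1 := by
      have hx1 : π x ^ q = 1 := hWbe.2 _ (hWb ▸ ⟨x, hx, rfl⟩)
      have hcm : Commute (π h * π x * (π h)⁻¹) (π x)⁻¹ :=
        (show Commute (π x) (π h * π x * (π h)⁻¹) from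
          commutatorElement_eq_one_iff_mul_comm.1 h1).symm.inv_right
      rw [ht, commutatorElement_def, hcm.mul_pow, conj_pow, inv_pow, hx1, mul_one, mul_inv_cancel,
        inv_one, mul_one]
    have htO : t ∈ Ox r (⊤ : Subgroup (H ⧸ (Ox q H).subgroupOf H)) :=
      ht ▸ comm_mem_left (self_le_normalizer_Ox r _ (Subgroup.mem_top (π x))) hbO
    obtain ⟨k, hk⟩ := isPGroup_Ox r _ ⟨t, htO⟩
    have h2 : t = 1 := orderOf_eq_one_iff.1 (Nat.eq_one_of_dvd_coprimes
      (((Nat.coprime_primes hq.out hr).2 hne.symm).pow_right k) (orderOf_dvd_of_pow_eq_one htq)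
      (orderOf_dvd_of_pow_eq_one (congrArg Subtype.val hk)))
    exact (commutatorElement_eq_one_iff_mul_comm.1 (ht ▸ h2)).symm
  have hWbot : Wb ≤ Ox q (⊤ : Subgroup (H ⧸ (Ox q H).subgroupOf H)) := by
    haveI := c.sol s.colour.1
    refine le_Ox_of_centralizes ?_ le_top (Local.elemAb_isPGroup hWbe) hcent
    haveI : Group.IsSolvable (H ⧸ (Ox q H).subgroupOf H) :=
      Group.isSolvable_of_surjective (QuotientGroup.mk'_surjective _)
    exact Group.isSolvable_of_isSolvable_injective (f := (⊤ : Subgroup _).subtype) (Subgroup.subtype_injective _)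
  intro w hw
  refine (hker ⟨w, d.W_le_H hw⟩).1 (Subgroup.mem_bot.1 (hOq ▸ hWbot ?_))
  exact hWb ▸ ⟨⟨w, d.W_le_H hw⟩, hw, rfl⟩

/-- Conjugates of the module commute. -/
theorem conj_comm {h : G} (hh : h ∈ H) : cj W h ≤ Subgroup.centralizer (W : Set G) := by
  have s := d.single
  have hQn := self_le_normalizer_Ox q H
  have hVQ : cj W h ≤ Ox q H := (cj_mono d.W_le_Q h).trans (cj_eq_self (hQn hh)).le
  have hVe : IsElementaryAbelian q (cj W h) := by
    refine ⟨⟨⟨fun a b => Subtype.ext ?_⟩⟩, ?_⟩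
    · obtain ⟨a', ha', hae⟩ := a.2
      obtain ⟨b', hb', hbe⟩ := b.2
      show (a : G) * b = b * a
      rw [← hae, ← hbe, ← map_mul, ← map_mul, Local.elemAb_commute d.hW ha' hb']
    · rintro _ ⟨b', hb', rfl⟩
      rw [← map_pow, d.hW.2 b' hb', map_one]
  have hQM : Ox q H ≤ cj M h := (cj_eq_self (hQn hh)).ge.trans (cj_mono d.Q_le_M h)
  rcases d.good (B := cj W h) (le_inf (hVQ.trans s.Q_le_Cu) (hVQ.trans d.Q_le_M))
      (fun b hb => by rw [hVe.2 b hb]; exact one_mem _)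
      (fun b hb b' hb' => by
        rw [commutatorElement_eq_one_iff_mul_comm.2 (Local.elemAb_commute hVe hb hb')]
        exact one_mem _) with g1 | g1
  · exact g1
  rcases d.good_conj hh (B := W) (le_inf d.hWCu (d.W_le_Q.trans hQM)) d.hW with g2 | g2
  · exact Subgroup.le_centralizer_iff.1 g2
  exfalso
  rw [card_cj] at g1
  have h5 := Nat.mul_le_mul g1 g2
  have hpos : 0 < Nat.card W * Nat.card W * (Nat.card ↥(W ⊓ Subgroup.centralizer (cj W h : Set G)) *
      Nat.card ↥(cj W h ⊓ Subgroup.centralizer (W : Set G))) :=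
    Nat.mul_pos (Nat.mul_pos Nat.card_pos Nat.card_pos) (Nat.mul_pos Nat.card_pos Nat.card_pos)
  have h6 : q ^ 4 * (Nat.card W * Nat.card W * (Nat.card ↥(W ⊓ Subgroup.centralizer (cj W h : Set G)) *
      Nat.card ↥(cj W h ⊓ Subgroup.centralizer (W : Set G)))) ≤
      Nat.card W * Nat.card W * (Nat.card ↥(W ⊓ Subgroup.centralizer (cj W h : Set G)) *
        Nat.card ↥(cj W h ⊓ Subgroup.centralizer (W : Set G))) := by
    calc _ = q ^ 2 * Nat.card W * Nat.card ↥(W ⊓ Subgroup.centralizer (cj W h : Set G)) *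
          (q ^ 2 * Nat.card W * Nat.card ↥(cj W h ⊓ Subgroup.centralizer (W : Set G))) := by ring
      _ ≤ _ := h5
      _ = _ := by ring
  exact absurd h6 (not_le.2 (lt_mul_of_one_lt_left hpos (Nat.one_lt_pow (by norm_num) hq.out.one_lt)))

end Layer

end Cfsg.Agent.SSF
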