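import Cfsg.Agent.Lib.SSF.LayerTools

/-!
A minimal elementary subgroup failing to centralise the conjugates of a reduced module under a
chief factor of the centraliser leads to a contradiction.
-/

set_option autoImplicit false
set_option linter.style.haveILetI false

open Cfsg Cfsg.Agent Cfsg.Agent.Fusion
open scoped commutatorElement Pointwise

namespace Cfsg.Agent.SSF

universe u

variable {G : Type u} [Group G] [Finite G] {p q : ℕ} [hp : Fact p.Prime] [hq : Fact q.Prime]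

/-- An abelian factor of order prime to `q` above the part of the centraliser inside `M`. -/
structure Chief {G : Type u} [Group G] (q : ℕ) (H R M K K' : Subgroup G) : Prop where
  hKΓ : K ≤ redC q H ⊓ M
  hKn : H ≤ Subgroup.normalizer (K : Set G)
  hK' : K' ≤ redC q H
  hK'n : H ≤ Subgroup.normalizer (K' : Set G)
  hKK : K ≤ K'
  hab : ⁅K', K'⁆ ≤ K
  hRK : R ⊓ K' ≤ K
  hco : ¬ q ∣ K.relIndex K'

/-- A minimal elementary group moving the conjugates of the module. -/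
structure Mover {G : Type u} [Group G] (q : ℕ) (R W K' C₀ B W₂ : Subgroup G) : Prop where
  hB : IsElementaryAbelian q B
  hBR : B ≤ R
  hW₂ : W₂ = ⨆ h ∈ (K' : Set G), cj W h
  hW₂c : ∀ a ∈ W₂, ∀ b ∈ W₂, a * b = b * a
  hW₂q : IsPGroup q W₂
  hC₀ : C₀ = B ⊓ Subgroup.centralizer (W₂ : Set G)
  hlt : C₀ < B
  hBW : B ≤ Subgroup.centralizer (W : Set G)
  hqual : Nat.card W₂ * Nat.card C₀ ≤ Nat.card B * Nat.card ↥(W₂ ⊓ Subgroup.centralizer (B : Set G))
  hmin : ∀ B' : Subgroup G, C₀ < B' → B' < B →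
    Nat.card B' * Nat.card ↥(W₂ ⊓ Subgroup.centralizer (B' : Set G)) < Nat.card W₂ * Nat.card C₀

namespace Mover

variable {c : Ctx G p} {H R M W K K' C₀ B W₂ : Subgroup G}

omit hp hq [Finite G] in
theorem cj_le (mv : Mover q R W K' C₀ B W₂) {h : G} (hh : h ∈ K') : cj W h ≤ W₂ :=
  mv.hW₂ ▸ le_iSup₂_of_le h hh le_rfl

omit hp hq in
theorem normalises (mv : Mover q R W K' C₀ B W₂) : K' ≤ Subgroup.normalizer (W₂ : Set G) := fun g hg =>
  mem_normalizer_of_cj_le (by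
    rw [mv.hW₂, cj, Subgroup.map_iSup]
    refine iSup_le fun h => ?_
    rw [Subgroup.map_iSup]
    exact iSup_le fun hh => le_iSup₂_of_le (g * h) (mul_mem hg hh) (cj_cj W h g).le)

omit hp hq in
theorem le_cent (mv : Mover q R W K' C₀ B W₂) (h : ∀ g ∈ K', B ≤ Subgroup.centralizer (cj W g : Set G)) :
    False := by
  refine mv.hlt.not_ge (mv.hC₀ ▸ le_inf le_rfl (Subgroup.le_centralizer_iff.1 ?_))
  rw [mv.hW₂]
  exact iSup₂_le fun g hg => Subgroup.le_centralizer_iff.1 (h g hg)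

theorem big (d : Layer c q H R M W) (ch : Chief q H R M K K') (mv : Mover q R W K' C₀ B W₂)
    (hbig : q * Nat.card C₀ < Nat.card B) : False := by
  classical
  have s := d.single
  have hBΓ : B ≤ redC q H ⊓ M := mv.hBR.trans (le_inf d.hR.1 d.hRM)
  have hBCu : B ≤ redC q H := hBΓ.trans inf_le_left
  have hC₀B : C₀ ≤ B := mv.hlt.le
  have hC₀W₂ : C₀ ≤ Subgroup.centralizer (W₂ : Set G) := mv.hC₀ ▸ inf_le_right
  have hBn : B ≤ Subgroup.normalizer (K' : Set G) := (hBCu.trans s.Cu_le).trans ch.hK'n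
  obtain ⟨K₁, hK₁⟩ : ∃ K₁, K₁ = (K' ⊓ Subgroup.centralizer (W₂ : Set G)) ⊔ K := ⟨_, rfl⟩
  have hK₁K' : K₁ ≤ K' := hK₁ ▸ sup_le inf_le_left ch.hKK
  have hK₁Γ : K₁ ≤ redC q H ⊓ M := by
    rw [hK₁]
    refine sup_le ?_ ch.hKΓ
    have h1 : K' ⊓ Subgroup.centralizer (W₂ : Set G) ≤ Subgroup.normalizer (W : Set G) :=
      inf_le_right.trans ((Subgroup.centralizer_le (by
        have := mv.cj_le (one_mem K')
        rwa [cj_one] at this)).trans (Subgroup.centralizer_le_normalizer _))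
    exact le_inf (inf_le_left.trans ch.hK') ((le_inf (inf_le_left.trans ch.hK') h1).trans d.cuN_le)
  have hK'H : K' ≤ H := ch.hK'.trans s.Cu_le
  have hW₂B : B ≤ Subgroup.normalizer (W₂ : Set G) := fun g hg => mem_normalizer_of_cj_le (by
    rw [mv.hW₂, cj, Subgroup.map_iSup]
    refine iSup_le fun h => ?_
    rw [Subgroup.map_iSup]
    refine iSup_le fun hh => le_iSup₂_of_le (g * h * g⁻¹) (nrm (hBn hg) hh) ?_
    show cj (cj W h) g ≤ _
    have e1 : cj W (g * h) = cj W (g * h * g⁻¹) := by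
      rw [← cj_mul_of_norm (d.hMW (Subgroup.mem_inf.1 (hBΓ hg)).2) (g * h * g⁻¹), inv_mul_cancel_right]
    rw [cj_cj, e1])
  have hn₁ : ∀ g : G, g ∈ Subgroup.normalizer (W₂ : Set G) → g ∈ H →
      g ∈ Subgroup.normalizer (K₁ : Set G) := fun g hg hgH => mem_normalizer_of_cj_le (by
    rw [hK₁, cj_sup, cj_inf, cj_centralizer, cj_eq_self hg, cj_eq_self (ch.hK'n hgH),
      cj_eq_self (ch.hKn hgH)])
  have hK'n₁ : K' ≤ Subgroup.normalizer (K₁ : Set G) := fun g hg => hn₁ g (mv.normalises hg) (hK'H hg)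
  have hBn₁ : B ≤ Subgroup.normalizer (K₁ : Set G) := fun g hg => hn₁ g (hW₂B hg) (s.Cu_le (hBCu hg))
  -- the conjugates centralised by `B` are permuted
  have step : ∀ B₀ : Subgroup G, C₀ ≤ B₀ → B₀ < B → Nat.card B ≤ q * Nat.card B₀ → ∀ h ∈ K',
      (∀ b ∈ B₀, ⁅b, h⁆ ∈ K₁) → ∀ l ∈ K', B ≤ Subgroup.centralizer (cj W l : Set G) →
        B ≤ Subgroup.centralizer (cj W (h * l) : Set G) := by
    intro B₀ hC₀B₀ hB₀B hcard h hh hcomm l hl hBl
    have hC₀lt : C₀ < B₀ := lt_of_le_of_ne hC₀B₀ fun he => (he ▸ hcard).not_gt hbig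
    have hfix : W₂ ⊓ Subgroup.centralizer (B₀ : Set G) = W₂ ⊓ Subgroup.centralizer (B : Set G) := by
      have hle : W₂ ⊓ Subgroup.centralizer (B : Set G) ≤ W₂ ⊓ Subgroup.centralizer (B₀ : Set G) :=
        inf_le_inf_left _ (Subgroup.centralizer_le hB₀B.le)
      refine (Subgroup.eq_of_le_of_card_ge hle ?_).symm
      obtain ⟨i, hi⟩ := IsPGroup.iff_card.1 (mv.hW₂q.to_le (inf_le_left :
        W₂ ⊓ Subgroup.centralizer (B : Set G) ≤ W₂))
      obtain ⟨j, hj⟩ := IsPGroup.iff_card.1 (mv.hW₂q.to_le (inf_le_left :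
        W₂ ⊓ Subgroup.centralizer (B₀ : Set G) ≤ W₂))
      have h1 : Nat.card B₀ * q ^ j < Nat.card B₀ * q ^ (i + 1) := by
        calc Nat.card B₀ * q ^ j < Nat.card W₂ * Nat.card C₀ := hj ▸ mv.hmin B₀ hC₀lt hB₀B
          _ ≤ Nat.card B * q ^ i := hi ▸ mv.hqual
          _ ≤ q * Nat.card B₀ * q ^ i := Nat.mul_le_mul_right _ hcard
          _ = _ := by ring
      have h2 : j < i + 1 := (Nat.pow_lt_pow_iff_right hq.out.one_lt).1 (Nat.lt_of_mul_lt_mul_left h1)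
      rw [hi, hj]
      exact Nat.pow_le_pow_right hq.out.pos (Nat.lt_succ_iff.1 h2)
    obtain ⟨V, hV⟩ : ∃ V, V = cj W (h * l) := ⟨_, rfl⟩
    have hVW₂ : V ≤ W₂ := hV ▸ mv.cj_le (mul_mem hh hl)
    have hB₀M : B₀ ≤ redC q H ⊓ cj M (h * l) := by
      intro b hb
      have hbB := hB₀B.le hb
      refine Subgroup.mem_inf.2 ⟨hBCu hbB, ?_⟩
      have hk : h⁻¹ * ⁅b, h⁆ * h⁻¹⁻¹ ∈ K₁ := nrm (inv_mem (hK'n₁ hh)) (hcomm b hb)
      have h1 : l⁻¹ * (h⁻¹ * ⁅b, h⁆ * h⁻¹⁻¹) * l⁻¹⁻¹ ∈ M :=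
        (Subgroup.mem_inf.1 (hK₁Γ (nrm (inv_mem (hK'n₁ hl)) hk))).2
      have h2 : l⁻¹ * b * l⁻¹⁻¹ ∈ M := by
        refine d.cuN_le (Subgroup.mem_inf.2
          ⟨nrm (inv_mem (s.H_normalizer_Cu (hK'H hl))) (hBCu hbB), ?_⟩)
        have h3 : l⁻¹ * b * l⁻¹⁻¹ ∈ cj (Subgroup.centralizer (cj W l : Set G)) l⁻¹ := conj_mem_cj (hBl hbB)
        rw [cj_centralizer, cj_cj_inv] at h3
        exact Subgroup.centralizer_le_normalizer _ h3
      have h4 := conj_mem_cj (g := h * l) (mul_mem h1 h2)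
      rwa [show h * l * (l⁻¹ * (h⁻¹ * ⁅b, h⁆ * h⁻¹⁻¹) * l⁻¹⁻¹ * (l⁻¹ * b * l⁻¹⁻¹)) * (h * l)⁻¹ = b by
        rw [commutatorElement_def]; group] at h4
    have hkey : B₀ ≤ Subgroup.centralizer (V : Set G) := by
      rcases d.good_conj (hK'H (mul_mem hh hl)) hB₀M (Local.elemAb_mono mv.hB hB₀B.le) with g1 | g1
      · exact hV ▸ g1
      exfalso
      rw [← hV] at g1
      obtain ⟨B₂, hB₂⟩ : ∃ B₂, B₂ = B₀ ⊓ Subgroup.centralizer (V : Set G) := ⟨_, rfl⟩
      rw [← hB₂] at g1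
      have hC₀B₂ : C₀ ≤ B₂ := hB₂ ▸ le_inf hC₀B₀ (hC₀W₂.trans (Subgroup.centralizer_le hVW₂))
      have hB₂B : B₂ < B := lt_of_le_of_lt (hB₂ ▸ inf_le_left) hB₀B
      have hmin' : Nat.card B₂ * Nat.card ↥(W₂ ⊓ Subgroup.centralizer (B₂ : Set G)) ≤
          Nat.card W₂ * Nat.card C₀ := by
        rcases hC₀B₂.lt_or_eq with h1 | h1
        · exact (mv.hmin B₂ h1 hB₂B).le
        · rw [← h1, inf_eq_left.2 (Subgroup.le_centralizer_iff.1 hC₀W₂), mul_comm]
      have h5 : Nat.card V * Nat.card ↥(W₂ ⊓ Subgroup.centralizer (B₀ : Set G)) ≤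
          Nat.card ↥(W₂ ⊓ Subgroup.centralizer (B₂ : Set G)) *
            Nat.card ↥(V ⊓ Subgroup.centralizer (B₀ : Set G)) := by
        have h6 := card_mul_card_le (V := V) (C := W₂ ⊓ Subgroup.centralizer (B₀ : Set G))
          (S := W₂ ⊓ Subgroup.centralizer (B₂ : Set G))
          (fun g hg => Subgroup.centralizer_le_normalizer _ (Subgroup.mem_centralizer_iff.2 fun v hv =>
            mv.hW₂c v (hVW₂ hv) g (Subgroup.mem_inf.1 hg).1))
          (le_inf hVW₂ (Subgroup.le_centralizer_iff.1 (hB₂ ▸ inf_le_right)))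
          (inf_le_inf_left _ (Subgroup.centralizer_le (hB₂ ▸ inf_le_left : B₂ ≤ B₀)))
        rwa [← inf_assoc, inf_eq_left.2 hVW₂] at h6
      have h7 : Nat.card W * Nat.card B₂ ≤
          q * Nat.card B₀ * Nat.card ↥(V ⊓ Subgroup.centralizer (B₀ : Set G)) := by
        refine Nat.le_of_mul_le_mul_right ?_
          (Nat.card_pos (α := ↥(W₂ ⊓ Subgroup.centralizer (B₀ : Set G))))
        have hWV : Nat.card V = Nat.card W := by rw [hV, card_cj]
        calc Nat.card W * Nat.card B₂ * Nat.card ↥(W₂ ⊓ Subgroup.centralizer (B₀ : Set G))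
            = Nat.card B₂ * (Nat.card V * Nat.card ↥(W₂ ⊓ Subgroup.centralizer (B₀ : Set G))) := by
              rw [hWV]; ring
          _ ≤ Nat.card B₂ * (Nat.card ↥(W₂ ⊓ Subgroup.centralizer (B₂ : Set G)) *
                Nat.card ↥(V ⊓ Subgroup.centralizer (B₀ : Set G))) := Nat.mul_le_mul_left _ h5
          _ = Nat.card B₂ * Nat.card ↥(W₂ ⊓ Subgroup.centralizer (B₂ : Set G)) *
                Nat.card ↥(V ⊓ Subgroup.centralizer (B₀ : Set G)) := by ring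
          _ ≤ q * Nat.card B₀ * Nat.card ↥(W₂ ⊓ Subgroup.centralizer (B₀ : Set G)) *
                Nat.card ↥(V ⊓ Subgroup.centralizer (B₀ : Set G)) :=
              Nat.mul_le_mul_right _ (hmin'.trans (mv.hqual.trans
                (by rw [hfix]; exact Nat.mul_le_mul_right _ hcard)))
          _ = _ := by ring
      exact no_gain (q := q) Nat.card_pos g1 h7 Nat.card_pos
    rw [← hV]
    refine Subgroup.le_centralizer_iff.1 ?_
    exact ((le_inf hVW₂ (Subgroup.le_centralizer_iff.1 hkey)).trans hfix.le).trans inf_le_right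
  -- the stabiliser of the set of conjugates centralised by `B`
  let S : Submonoid G :=
    { carrier := {h | h ∈ K' ∧ ∀ l ∈ K', B ≤ Subgroup.centralizer (cj W l : Set G) →
        B ≤ Subgroup.centralizer (cj W (h * l) : Set G)}
      one_mem' := ⟨one_mem _, fun l _ h => by rwa [one_mul]⟩
      mul_mem' := fun {x y} hx hy => ⟨mul_mem hx.1 hy.1, fun l hl h => by
        rw [mul_assoc]; exact hx.2 _ (mul_mem hy.1 hl) (hy.2 l hl h)⟩ }
  have hSinv : ∀ h ∈ S, h⁻¹ ∈ S := fun h hh => by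
    obtain ⟨m, hm⟩ := Submonoid.mem_powers_iff _ _ |>.1
      (mem_powers_iff_mem_zpowers.2 (inv_mem (Subgroup.mem_zpowers h)))
    exact hm ▸ pow_mem hh m
  let Sg : Subgroup G := { S with inv_mem' := fun {h} hh => hSinv h hh }
  obtain ⟨B₀', hB₀'1, hB₀'2, hB₀'3⟩ := exists_hyperplane mv.hB mv.hlt
  obtain ⟨N, hN⟩ : ∃ N, N = K' ⊔ B := ⟨_, rfl⟩
  have hK₁N : K₁ ≤ N := hN ▸ hK₁K'.trans le_sup_left
  haveI hnorm : (K₁.subgroupOf N).Normal :=
    (Subgroup.normal_subgroupOf_iff_le_normalizer hK₁N).2 (hN ▸ sup_le hK'n₁ hBn₁)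
  let π := QuotientGroup.mk' (K₁.subgroupOf N)
  have hker : ∀ g : N, π g = 1 ↔ (g : G) ∈ K₁ := fun g =>
    (QuotientGroup.eq_one_iff g).trans Subgroup.mem_subgroupOf
  have hcom : ∀ a b : N, Commute (π a) (π b) ↔ ⁅(a : G), (b : G)⁆ ∈ K₁ := fun a b => by
    rw [commute_iff_eq, ← commutatorElement_eq_one_iff_mul_comm, ← map_commutatorElement, hker]
    rfl
  have hC₀K₁ : ∀ b ∈ C₀, ∀ h ∈ K', ⁅b, h⁆ ∈ K₁ := fun b hb h hh => by
    rw [hK₁]
    refine Subgroup.mem_sup_left (Subgroup.mem_inf.2 ⟨comm_mem_right (hBn (hC₀B hb)) hh, ?_⟩)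
    rw [commutatorElement_def, show b * h * b⁻¹ * h⁻¹ = b * (h * b⁻¹ * h⁻¹) by group]
    refine mul_mem (hC₀W₂ hb) (nrm ?_ (inv_mem (hC₀W₂ hb)))
    exact normalizer_le_normalizer_centralizer W₂ (mv.normalises hh)
  have hBN : B ≤ N := hN ▸ le_sup_right
  have hK'N : K' ≤ N := hN ▸ le_sup_left
  obtain ⟨Ab, hAb⟩ : ∃ Ab, Ab = (B.subgroupOf N).map π := ⟨_, rfl⟩
  obtain ⟨Kb, hKb⟩ : ∃ Kb, Kb = (K'.subgroupOf N).map π := ⟨_, rfl⟩
  have hAbc : IsMulCommutative Ab := by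
    refine ⟨⟨fun a b => Subtype.ext ?_⟩⟩
    obtain ⟨a', ha', hae⟩ := (hAb ▸ a.2 : (a : N ⧸ K₁.subgroupOf N) ∈ (B.subgroupOf N).map π)
    obtain ⟨b', hb', hbe⟩ := (hAb ▸ b.2 : (b : N ⧸ K₁.subgroupOf N) ∈ (B.subgroupOf N).map π)
    show (a : N ⧸ K₁.subgroupOf N) * b = b * a
    rw [← hae, ← hbe, ← map_mul, ← map_mul,
      show a' * b' = b' * a' from Subtype.ext (Local.elemAb_commute mv.hB ha' hb')]
  have hAbn : Ab ≤ Subgroup.normalizer (Kb : Set (N ⧸ K₁.subgroupOf N)) := by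
    rintro y hy
    rw [hAb] at hy
    obtain ⟨a, ha, rfl⟩ := hy
    refine mem_normalizer_of_cj_le ?_
    rintro _ ⟨z, hz, rfl⟩
    rw [hKb] at hz ⊢
    obtain ⟨t, ht, rfl⟩ := hz
    exact ⟨a * t * a⁻¹, Subgroup.mem_subgroupOf.2 (nrm (hBn ha) ht), by rw [map_mul, map_mul, map_inv]; rfl⟩
  have hco : (Nat.card Ab).Coprime (Nat.card Kb) := by
    obtain ⟨n, hn⟩ := IsPGroup.iff_card.1 (((Local.elemAb_isPGroup mv.hB).of_equiv
      (Subgroup.subgroupOfEquivOfLe hBN).symm).map π)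
    rw [hAb, hn]
    refine ((Nat.Prime.coprime_iff_not_dvd hq.out).2 fun hd => ?_).pow_left n
    obtain ⟨y, hy⟩ := exists_prime_orderOf_dvd_card' q hd
    obtain ⟨t, ht, hty⟩ := (hKb ▸ y.2 : (y : N ⧸ K₁.subgroupOf N) ∈ (K'.subgroupOf N).map π)
    haveI : (K.subgroupOf K').Normal :=
      (Subgroup.normal_subgroupOf_iff_le_normalizer ch.hKK).2 (hK'H.trans ch.hKn)
    have h1 : π (t ^ K.relIndex K') = 1 := (hker _).2 (by
      have h := (K.subgroupOf K').pow_index_mem ⟨(t : G), ht⟩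
      rw [Subgroup.mem_subgroupOf, Subgroup.coe_pow] at h
      rw [Subgroup.coe_pow, hK₁]
      exact Subgroup.mem_sup_right h)
    rw [map_pow, hty] at h1
    refine hq.out.one_lt.ne' (Nat.eq_one_of_dvd_coprimes ((Nat.Prime.coprime_iff_not_dvd hq.out).2 ch.hco)
      dvd_rfl ?_)
    rw [← hy, ← Subgroup.orderOf_coe]
    exact orderOf_dvd_of_pow_eq_one h1
  have hgen : Kb ≤ (Sg.subgroupOf N).map π := by
    refine (Solv.gen_eq Ab Kb hAbc hAbn hco).ge.trans (iSup₂_le fun Bb hBb y hy => ?_)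
    obtain ⟨hy1, hy2⟩ := Subgroup.mem_inf.1 hy
    rw [hKb] at hy1
    obtain ⟨h, hh, rfl⟩ := hy1
    refine ⟨h, ?_, rfl⟩
    show (h : G) ∈ K' ∧ ∀ l ∈ K', _
    refine ⟨hh, ?_⟩
    obtain ⟨T, hT⟩ : ∃ T, T = B ⊓ ((Subgroup.centralizer {π h}).comap π).map N.subtype := ⟨_, rfl⟩
    have hTm : ∀ b : N, (b : G) ∈ T ↔ (b : G) ∈ B ∧ ⁅(b : G), (h : G)⁆ ∈ K₁ := fun b => by
      rw [hT, Subgroup.mem_inf, ← hcom]
      exact and_congr_right fun _ => ⟨fun ⟨b', hb', he⟩ =>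
          Subtype.ext he ▸ Subgroup.mem_centralizer_singleton_iff.1 hb',
        fun hc => ⟨b, Subgroup.mem_centralizer_singleton_iff.2 hc, rfl⟩⟩
    have hC₀T : C₀ ≤ T := fun b hb => (hTm ⟨b, hBN (hC₀B hb)⟩).2 ⟨hC₀B hb, hC₀K₁ b hb h hh⟩
    have hTB : T ≤ B := hT ▸ inf_le_left
    have hTmem : ∀ b ∈ T, ⁅b, (h : G)⁆ ∈ K₁ := fun b hb => ((hTm ⟨b, hBN (hTB hb)⟩).1 hb).2
    rcases hTB.lt_or_eq with hlt | heq
    · refine step T hC₀T hlt ?_ h hh hTmem
      obtain ⟨hBbA, a, ha, hgenA⟩ := hBb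
      rw [hAb] at ha
      obtain ⟨a', ha', rfl⟩ := ha
      refine card_sup_zpowers_le (fun x hx => Local.elemAb_commute mv.hB ha' (hTB hx)) ?_ (mv.hB.2 _ ha')
      refine le_antisymm (sup_le hTB (Subgroup.zpowers_le.2 ha')) fun b hb => ?_
      have hb1 : π ⟨b, hBN hb⟩ ∈ Bb ⊔ Subgroup.zpowers (π a') :=
        hgenA.ge (hAb ▸ ⟨⟨b, hBN hb⟩, hb, rfl⟩)
      have hb2 : π ⟨b, hBN hb⟩ ∈ ((Bb ⊔ Subgroup.zpowers (π a') : Subgroup _) : Set _) := hb1
      rw [Subgroup.coe_mul_of_right_le_normalizer_left Bb _ (Subgroup.zpowers_le.2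
        (Subgroup.centralizer_le_normalizer _ (Subgroup.mem_centralizer_iff.2 fun x hx =>
          congrArg Subtype.val (hAbc.1.1 ⟨x, hBbA hx⟩ ⟨π a', hAb ▸ ⟨a', ha', rfl⟩⟩))))] at hb2
      obtain ⟨x, hx, z, hz, hxz⟩ := hb2
      obtain ⟨i, hi⟩ := Subgroup.mem_zpowers_iff.1 hz
      have h1 : b * ((a' : G) ^ i)⁻¹ ∈ T := by
        refine (hTm (⟨b, hBN hb⟩ * (a' ^ i)⁻¹)).2 ⟨?_, ?_⟩
        · rw [Subgroup.coe_mul, Subgroup.coe_inv, Subgroup.coe_zpow]
          exact mul_mem hb (inv_mem (zpow_mem ha' i))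
        · rw [← hcom, map_mul, map_inv, map_zpow, ← hxz, ← hi, mul_inv_cancel_right]
          exact Subgroup.mem_centralizer_iff.1 hy2 x hx
      have h2 := mul_mem (Subgroup.mem_sup_left h1 : _ ∈ T ⊔ Subgroup.zpowers (a' : G))
        (Subgroup.mem_sup_right (zpow_mem (Subgroup.mem_zpowers (a' : G)) i))
      rwa [inv_mul_cancel_right] at h2
    · exact step B₀' hB₀'1 hB₀'2 hB₀'3 h hh fun b hb => hTmem b (heq ▸ hB₀'2.le hb)
  have hK₁S : ∀ k ∈ K₁, k ∈ Sg := fun k hk =>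
    ⟨hK₁K' hk, step B₀' hB₀'1 hB₀'2 hB₀'3 k (hK₁K' hk) fun b hb =>
      comm_mem_right (hBn₁ (hB₀'2.le hb)) hk⟩
  refine mv.le_cent fun g hg => ?_
  obtain ⟨t, ht, hte⟩ := hgen (hKb ▸ ⟨⟨g, hK'N hg⟩, hg, rfl⟩ : π ⟨g, hK'N hg⟩ ∈ Kb)
  have h1 : (t : G)⁻¹ * g ∈ K₁ :=
    (hker (t⁻¹ * ⟨g, hK'N hg⟩)).1 (by rw [map_mul, map_inv, hte, inv_mul_cancel])
  have hgS : g ∈ Sg := by
    have := mul_mem (show (t : G) ∈ Sg from ht) (hK₁S _ h1)
    rwa [mul_inv_cancel_left] at this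
  have h2 := hgS.2 1 (one_mem _) (by rw [cj_one]; exact mv.hBW)
  rwa [mul_one] at h2

theorem small (d : Layer c q H R M W) (ch : Chief q H R M K K') (mv : Mover q R W K' C₀ B W₂)
    (hsmall : Nat.card B ≤ q * Nat.card C₀) : False := by
  classical
  have s := d.single
  have hRΓ : R ≤ redC q H ⊓ M := le_inf d.hR.1 d.hRM
  have hRH : R ≤ H := d.hR.1.trans s.Cu_le
  have hK'H : K' ≤ H := ch.hK'.trans s.Cu_le
  have hWW₂ : W ≤ W₂ := by
    have := mv.cj_le (one_mem K')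
    rwa [cj_one] at this
  obtain ⟨e, he, hen⟩ := SetLike.exists_of_lt mv.hlt
  have heR := mv.hBR he
  have heW : e ∈ Subgroup.centralizer (W : Set G) := mv.hBW he
  have hW₂e : Nat.card W₂ ≤ q * Nat.card ↥(W₂ ⊓ Subgroup.centralizer {e}) := by
    refine Nat.le_of_mul_le_mul_right ?_ (Nat.card_pos (α := C₀))
    calc Nat.card W₂ * Nat.card C₀ ≤ Nat.card B * Nat.card ↥(W₂ ⊓ Subgroup.centralizer (B : Set G)) :=
          mv.hqual
      _ ≤ q * Nat.card C₀ * Nat.card ↥(W₂ ⊓ Subgroup.centralizer ({e} : Set G)) :=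
          Nat.mul_le_mul hsmall (Subgroup.card_le_of_le (inf_le_inf_left _
            (Subgroup.centralizer_le (by simpa using he))))
      _ = _ := by ring
  obtain ⟨RK, hRK⟩ : ∃ RK, RK = R ⊓ K := ⟨_, rfl⟩
  have hRKR : RK ≤ R := hRK ▸ inf_le_left
  have hRKsyl' : Solv.IsSylIn q RK K' := by
    have h := Single.fixed_le_U.inter_sylow d.hR ch.hK' (s.Cu_le.trans ch.hK'n)
    rwa [inf_comm, le_antisymm (le_inf inf_le_left ch.hRK) (inf_le_inf_left R ch.hKK), ← hRK] at h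
  have hRKK : RK ≤ K := hRK ▸ inf_le_right
  have hRKsyl : Solv.IsSylIn q RK K := sylIn_of_le hRKsyl' hRKK ch.hKK
  obtain ⟨N, hN⟩ : ∃ N, N = K' ⊓ Subgroup.normalizer (RK : Set G) := ⟨_, rfl⟩
  have hRnK : R ≤ Subgroup.normalizer (RK : Set G) := fun g hg => mem_normalizer_of_cj_le (by
    rw [hRK, cj_inf, cj_eq_self_of_mem hg, cj_eq_self (ch.hKn (hRH hg))])
  have hRnN : R ≤ Subgroup.normalizer (N : Set G) := fun g hg => mem_normalizer_of_cj_le (by
    rw [hN, cj_inf, cj_normalizer, cj_eq_self (hRnK hg), cj_eq_self (ch.hK'n (hRH hg))])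
  have hKW : K ≤ Subgroup.normalizer (W : Set G) := (ch.hKΓ.trans inf_le_right).trans d.hMW
  -- a conjugate in the normaliser of the Sylow subgroup not centralised by `e`
  obtain ⟨l, hl, hle⟩ : ∃ l ∈ N, e ∉ Subgroup.centralizer (cj W l : Set G) := by
    by_contra hno
    push Not at hno
    refine hen (mv.hC₀ ▸ Subgroup.mem_inf.2 ⟨he, Subgroup.zpowers_le.1 ?_⟩)
    refine Subgroup.le_centralizer_iff.1 ?_
    rw [mv.hW₂]
    refine iSup₂_le fun g hg => ?_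
    have hconj : Solv.IsSylIn q (MulAut.conj g⁻¹ • RK) K := hRKsyl.conj (ch.hKn (hK'H (inv_mem hg)))
    obtain ⟨k, hk, hke⟩ := hconj.exists_conj hRKsyl
    have hkg : k * g⁻¹ ∈ Subgroup.normalizer (RK : Set G) :=
      Solv.mem_normalizer_of_conj_smul (by rw [← Solv.conj_smul_conj, hke])
    have hl : g * k⁻¹ ∈ N := by
      rw [hN]
      refine Subgroup.mem_inf.2 ⟨mul_mem hg (inv_mem (ch.hKK hk)), ?_⟩
      have := inv_mem hkg
      rwa [mul_inv_rev, inv_inv] at this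
    have heq : cj W g = cj W (g * k⁻¹) := by
      conv_lhs => rw [show g = g * k⁻¹ * k by group, ← cj_cj, cj_eq_self (hKW hk)]
    exact heq ▸ Subgroup.le_centralizer_iff.1 (Subgroup.zpowers_le.2 (hno _ hl))
  have hlK' : l ∈ K' := (Subgroup.mem_inf.1 (hN ▸ hl)).1
  obtain ⟨e', he'⟩ : ∃ e', e' = l⁻¹ * e * l⁻¹⁻¹ := ⟨_, rfl⟩
  have he'W : e' ∉ Subgroup.centralizer (W : Set G) := fun h => hle (by
    have h1 := conj_mem_cj (g := l) h
    rw [cj_centralizer] at h1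
    rwa [he', show l * (l⁻¹ * e * l⁻¹⁻¹) * l⁻¹ = e by group] at h1)
  have he'Cu : e' ∈ redC q H := he' ▸ nrm (inv_mem (s.H_normalizer_Cu (hK'H hlK'))) (d.hR.1 heR)
  have heq' : e' ^ q = 1 := by
    rw [he', conj_pow, mv.hB.2 e he, mul_one, mul_inv_cancel]
  obtain ⟨D, hD⟩ : ∃ D, D = W ⊓ Subgroup.centralizer {e'} := ⟨_, rfl⟩
  have hDW : D ≤ W := hD ▸ inf_le_left
  have hcard : Nat.card W ≤ q * Nat.card D := by
    rw [hD]
    refine index_fixed_le mv.hW₂c hWW₂ (hW₂e.trans (le_of_eq ?_))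
    rw [← card_cj (W₂ ⊓ Subgroup.centralizer {e}) l⁻¹, cj_inf,
      cj_eq_self (inv_mem (mv.normalises hlK')), cj_cent_singleton, he']
  have he'D : e' ∈ Subgroup.centralizer (D : Set G) :=
    Subgroup.mem_centralizer_iff.2 fun x hx => (Subgroup.mem_centralizer_iff.1
      (Subgroup.mem_inf.1 (hD ▸ hx)).2 e' (Set.mem_singleton _)).symm
  obtain ⟨h, hh⟩ : ∃ h, h = e⁻¹ * e' := ⟨_, rfl⟩
  have hhN : h ∈ N := by
    rw [hh, he', show e⁻¹ * (l⁻¹ * e * l⁻¹⁻¹) = e⁻¹ * l⁻¹ * e⁻¹⁻¹ * l by group]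
    exact mul_mem (nrm (inv_mem (hRnN heR)) (inv_mem hl)) hl
  have hhK' : h ∈ K' := (Subgroup.mem_inf.1 (hN ▸ hhN)).1
  have hhM : h ∉ M := fun hM => he'W (d.cent_of_hyper hDW hcard 1 e' (Subgroup.mem_inf.2 ⟨he'Cu, by
    rw [show e' = e * h by rw [hh]; group]
    exact mul_mem (d.hRM heR) hM⟩) he'D (by rwa [pow_one]))
  have hhD : h ∈ Subgroup.centralizer (D : Set G) :=
    hh ▸ mul_mem (inv_mem (Subgroup.centralizer_le hDW heW)) he'D
  -- the part of `h` of order prime to `q`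
  obtain ⟨n, hn⟩ : ∃ n, n = ordProj[q] (orderOf h) := ⟨_, rfl⟩
  obtain ⟨f, hf⟩ : ∃ f, f = h ^ n := ⟨_, rfl⟩
  have h0 : orderOf h ≠ 0 := (orderOf_pos h).ne'
  have hfco : (orderOf f).Coprime q := by
    rw [hf, orderOf_pow_of_dvd (hn ▸ (pow_pos hq.out.pos _).ne') (hn ▸ Nat.ordProj_dvd _ q), hn]
    exact (Nat.coprime_ordCompl hq.out h0).symm
  have hfM : f ∉ M := by
    intro hfM
    obtain ⟨m, hm⟩ : ∃ m, m = ordCompl[q] (orderOf h) := ⟨_, rfl⟩
    have h1 : h ^ m ∈ M := by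
      refine (Subgroup.mem_inf.1 (ch.hKΓ ?_)).2
      have hpow : (h ^ m) ^ n ∈ K := by
        rw [← pow_mul, hm, hn, mul_comm, Nat.ordProj_mul_ordCompl_eq_self, pow_orderOf_eq_one]
        exact one_mem _
      haveI : (K.subgroupOf K').Normal :=
        (Subgroup.normal_subgroupOf_iff_le_normalizer ch.hKK).2 (hK'H.trans ch.hKn)
      have hidx := (K.subgroupOf K').pow_index_mem ⟨h ^ m, pow_mem hhK' m⟩
      rw [Subgroup.mem_subgroupOf, Subgroup.coe_pow] at hidx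
      have := mem_of_coprime_pows hpow hidx
        (hn ▸ ((Nat.Prime.coprime_iff_not_dvd hq.out).2 ch.hco).pow_left _)
      exact this
    have hco : n.Coprime m := by
      rw [hn, hm]
      exact (Nat.coprime_ordCompl hq.out h0).pow_left _
    exact hhM (mem_of_coprime_pows (hf ▸ hfM) h1 hco)
  have hfN : f ∈ N := hf ▸ pow_mem hhN n
  have hfK' : f ∈ K' := (Subgroup.mem_inf.1 (hN ▸ hfN)).1
  have hfRK : f ∈ Subgroup.normalizer (RK : Set G) := (Subgroup.mem_inf.1 (hN ▸ hfN)).2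
  have hfD : f ∈ Subgroup.centralizer (D : Set G) := hf ▸ pow_mem hhD n
  have hfW : f ∉ Subgroup.normalizer (W : Set G) := fun h' =>
    hfM (d.cuN_le (Subgroup.mem_inf.2 ⟨ch.hK' hfK', h'⟩))
  -- the hyperplane is the intersection of `W` with its conjugate
  have hDeq : W ⊓ cj W f = D := by
    have hle : D ≤ W ⊓ cj W f := le_inf hDW fun x hx => by
      have h1 := conj_mem_cj (g := f) (hDW hx)
      rwa [show f * x * f⁻¹ = x from mul_inv_eq_iff_eq_mul.2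
        (Subgroup.mem_centralizer_iff.1 hfD x hx).symm] at h1
    refine (Subgroup.eq_of_le_of_card_ge hle ?_).symm
    by_contra hlt
    push Not at hlt
    obtain ⟨i, hi⟩ := IsPGroup.iff_card.1 (Local.elemAb_isPGroup d.hW)
    obtain ⟨j, hj⟩ := IsPGroup.iff_card.1 ((Local.elemAb_isPGroup d.hW).to_le (inf_le_left : W ⊓ cj W f ≤ W))
    obtain ⟨k, hk⟩ := IsPGroup.iff_card.1 ((Local.elemAb_isPGroup d.hW).to_le hDW)
    rw [hj, hk] at hlt
    rw [hi, hk, ← pow_succ'] at hcard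
    have h1 := (Nat.pow_le_pow_iff_right hq.out.one_lt).1 hcard
    have h2 := (Nat.pow_lt_pow_iff_right hq.out.one_lt).1 hlt
    refine hfW (mem_normalizer_of_cj_le ?_)
    have h3 : W ⊓ cj W f = cj W f := Subgroup.eq_of_le_of_card_ge inf_le_right (by
      rw [card_cj, hi, hj]; exact Nat.pow_le_pow_right hq.out.pos (h1.trans h2))
    exact h3 ▸ inf_le_left
  -- powers of `f` and elements of the Sylow subgroup of `K`
  have hFn : Subgroup.zpowers f ≤ Subgroup.normalizer (RK : Set G) := Subgroup.zpowers_le.2 hfRK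
  have hRKW : RK ≤ Subgroup.normalizer (W : Set G) := (hRKR.trans d.hRM).trans d.hMW
  have hRKn : ∀ g ∈ Subgroup.normalizer (RK : Set G),
      RK ≤ Subgroup.normalizer (cj W g : Set G) := fun g hg => by
    rw [← cj_normalizer]
    exact (cj_eq_self hg).ge.trans (cj_mono hRKW g)
  obtain ⟨T, hT⟩ : ∃ T, T = ⨆ g ∈ (Subgroup.zpowers f : Set G), cj W g := ⟨_, rfl⟩
  have hTW₂ : T ≤ W₂ := hT ▸ iSup₂_le fun g hg => mv.cj_le (Subgroup.zpowers_le.2 hfK' hg)
  have hFT : Subgroup.zpowers f ≤ Subgroup.normalizer (T : Set G) := fun g hg =>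
    mem_normalizer_of_cj_le (by
      rw [hT, cj, Subgroup.map_iSup]
      refine iSup_le fun x => ?_
      rw [Subgroup.map_iSup]
      exact iSup_le fun hx => le_iSup₂_of_le (g * x) (mul_mem hg hx) (cj_cj W x g).le)
  have hRKT : RK ≤ Subgroup.normalizer (T : Set G) := by
    rw [hT]
    exact fun u hu => Solv.normalizer_biSup_le _ _ fun g hg => hRKn g (hFn hg) hu
  have hcW : ∀ u ∈ RK, ⁅u, f⁆ ∈ Subgroup.centralizer (W : Set G) := by
    intro u hu
    have huD : u ∈ Subgroup.normalizer (D : Set G) := mem_normalizer_of_cj_le (by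
      rw [← hDeq, cj_inf, cj_eq_self (hRKW hu), cj_eq_self (hRKn f hfRK hu)])
    have hv : ⁅u, f⁆ ∈ RK := comm_mem_left hfRK hu
    obtain ⟨k, hk⟩ := d.hR.isPGroup ⟨_, hRKR hv⟩
    refine d.cent_of_hyper hDW hcard k _ (hRΓ (hRKR hv)) ?_ (congrArg Subtype.val hk)
    refine Subgroup.mem_centralizer_iff.2 fun x hx => ?_
    have hx' : u⁻¹ * x * u⁻¹⁻¹ ∈ D := nrm (inv_mem huD) hx
    have c1 : Commute x f := Subgroup.mem_centralizer_iff.1 hfD x hx
    have c2 : Commute (u⁻¹ * x * u⁻¹⁻¹) f := Subgroup.mem_centralizer_iff.1 hfD _ hx'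
    rw [commutatorElement_def]
    calc x * (u * f * u⁻¹ * f⁻¹) = u * (u⁻¹ * x * u⁻¹⁻¹ * f) * u⁻¹ * f⁻¹ := by group
      _ = u * f * u⁻¹ * (x * f⁻¹) := by rw [c2.eq]; group
      _ = u * f * u⁻¹ * f⁻¹ * x := by rw [c1.inv_right.eq]; group
  have hcT : ∀ u ∈ RK, ⁅u, f⁆ ∈ Subgroup.centralizer (T : Set G) := by
    intro u hu
    refine Subgroup.zpowers_le.1 (Subgroup.le_centralizer_iff.1 ?_)
    rw [hT]
    refine iSup₂_le fun g hg => ?_
    refine Subgroup.le_centralizer_iff.1 (Subgroup.zpowers_le.2 ?_)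
    have hcomm : Commute g⁻¹ f := by
      obtain ⟨i, rfl⟩ := Subgroup.mem_zpowers_iff.1 hg
      exact ((Commute.refl f).zpow_left i).inv_left
    have h1 := conj_mem_cj (g := g) (hcW (g⁻¹ * u * g⁻¹⁻¹) (nrm (inv_mem (hFn hg)) hu))
    rw [cj_centralizer] at h1
    convert h1 using 1
    rw [commutatorElement_def, commutatorElement_def]
    have e1 : g * f * g⁻¹ = f := by rw [mul_assoc, ← hcomm.eq, mul_inv_cancel_left]
    calc u * f * u⁻¹ * f⁻¹ = u * (g * f * g⁻¹) * u⁻¹ * (g * f * g⁻¹)⁻¹ := by rw [e1]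
      _ = _ := by group
  have hcTF : ∀ u ∈ RK, ∀ g ∈ Subgroup.zpowers f, ⁅u, g⁆ ∈ Subgroup.centralizer (T : Set G) := by
    intro u hu g hg
    obtain ⟨i, rfl⟩ := Submonoid.mem_powers_iff _ _ |>.1 (mem_powers_iff_mem_zpowers.2 hg)
    induction i with
    | zero => rw [pow_zero, commutatorElement_one_right]; exact one_mem _
    | succ i ih =>
      have hn' : f ^ i ∈ Subgroup.normalizer (Subgroup.centralizer (T : Set G) : Set G) :=
        normalizer_le_normalizer_centralizer T (pow_mem (hFT (Subgroup.mem_zpowers f)) i)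
      have e1 : ⁅u, f ^ (i + 1)⁆ = ⁅u, f ^ i⁆ * (f ^ i * ⁅u, f⁆ * (f ^ i)⁻¹) := by
        rw [pow_succ, commutatorElement_def, commutatorElement_def, commutatorElement_def]; group
      rw [e1]
      exact mul_mem (ih (pow_mem (Subgroup.mem_zpowers f) i)) (nrm hn' (hcT u hu))
  -- `f` centralises the fixed points of the Sylow subgroup of `K`
  obtain ⟨Y, hY⟩ : ∃ Y, Y = W₂ ⊓ Subgroup.centralizer (RK : Set G) := ⟨_, rfl⟩
  have hW₂e' : IsElementaryAbelian q W₂ := by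
    refine mv.hW₂ ▸ ⟨?_, ?_⟩
    · exact mv.hW₂ ▸ ⟨⟨fun a b => Subtype.ext (mv.hW₂c a a.2 b b.2)⟩⟩
    · intro x hx
      have hcl : ⨆ g ∈ (K' : Set G), cj W g ≤ Subgroup.closure {x | x ∈ W₂ ∧ x ^ q = 1} :=
        iSup₂_le fun g hg x hx => Subgroup.subset_closure ⟨mv.cj_le hg hx, by
          obtain ⟨w, hw, rfl⟩ := hx
          rw [← map_pow, d.hW.2 w hw, map_one]⟩
      exact (Local.elemAb_closure _ (fun a ha b hb => mv.hW₂c a ha.1 b hb.1) fun a ha => ha.2).2 x (hcl hx)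
  have hYe : IsElementaryAbelian q Y := Local.elemAb_mono hW₂e' (hY ▸ inf_le_left)
  have hNY : N ≤ Subgroup.normalizer (Y : Set G) := fun g hg => mem_normalizer_of_cj_le (by
    rw [hN] at hg
    rw [hY, cj_inf, cj_centralizer, cj_eq_self (Subgroup.mem_inf.1 hg).2,
      cj_eq_self (mv.normalises (Subgroup.mem_inf.1 hg).1)])
  have hRKN : RK ≤ N := hN ▸ le_inf (hRKK.trans ch.hKK) Subgroup.le_normalizer
  obtain ⟨L, hLN, hLco, hsup⟩ : ∃ L, L ≤ N ∧ (Nat.card L).Coprime q ∧ N ≤ RK ⊔ L := by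
    have hsyl : Solv.IsSylIn q RK N := sylIn_of_le hRKsyl' hRKN (hN ▸ inf_le_left)
    have hsol : Group.IsSolvable N := Solv.isSolvable_of_le
      ((hN ▸ inf_le_left : N ≤ K').trans hK'H) s.colour.sol
    have hN0 : Nat.card N ≠ 0 := Nat.card_pos.ne'
    obtain ⟨L, hL⟩ := Solv.hall_exists hsol (m := ordCompl[q] (Nat.card N)) (n := ordProj[q] (Nat.card N))
      (by rw [mul_comm]; exact (Nat.ordProj_mul_ordCompl_eq_self _ q).symm)
      ((Nat.coprime_ordCompl hq.out hN0).pow_left _).symm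
    have hLc : Nat.card (L.map N.subtype) = ordCompl[q] (Nat.card N) := by
      rw [Subgroup.card_map_of_injective N.subtype_injective, hL]
    refine ⟨L.map N.subtype, Subgroup.map_subtype_le L,
      hLc ▸ (Nat.coprime_ordCompl hq.out hN0).symm, ?_⟩
    have hn' : L.map N.subtype ≤ Subgroup.normalizer (RK : Set G) :=
      (Subgroup.map_subtype_le L).trans (hN ▸ inf_le_right)
    have h1 := Solv.card_sup_mul_card_inf' RK (L.map N.subtype) hn'
    have hdis : RK ⊓ L.map N.subtype = ⊥ := by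
      rw [inf_comm]
      exact coprime_inf_pGroup (hLc ▸ (Nat.coprime_ordCompl hq.out hN0).symm) hsyl.isPGroup
    rw [hdis, Subgroup.card_bot, mul_one, hsyl.2, hLc, Nat.ordProj_mul_ordCompl_eq_self] at h1
    exact (Subgroup.eq_of_le_of_card_ge (sup_le hRKN (Subgroup.map_subtype_le L)) h1.ge).ge
  have hYcomm : ⁅Y, N⁆ ≤ ⁅Y, L⁆ := Subgroup.commutator_le.2 fun y hy g hg => by
    have hg' : g ∈ ((RK ⊔ L : Subgroup G) : Set G) := hsup hg
    rw [Subgroup.coe_mul_of_right_le_normalizer_left RK L (hLN.trans (hN ▸ inf_le_right))] at hg'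
    obtain ⟨r, hr, t, ht, rfl⟩ := hg'
    have hyr : ∀ z ∈ Y, r * z * r⁻¹ = z := fun z hz => mul_inv_eq_iff_eq_mul.2
      (Subgroup.mem_centralizer_iff.1 (Subgroup.mem_inf.1 (hY ▸ hz)).2 r hr)
    have hm : ⁅y, t⁆ ∈ Y := comm_mem_left (hNY (hLN ht)) hy
    have e1 : ⁅y, r * t⁆ = ⁅y, t⁆ := by
      have hy1 : Commute y r := ((Subgroup.mem_centralizer_iff.1 (Subgroup.mem_inf.1 (hY ▸ hy)).2 r hr)).symm
      calc ⁅y, r * t⁆ = (y * r) * t * y⁻¹ * t⁻¹ * r⁻¹ := by rw [commutatorElement_def]; group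
        _ = r * ⁅y, t⁆ * r⁻¹ := by rw [hy1.eq, commutatorElement_def]; group
        _ = _ := hyr _ hm
    rw [e1]
    exact Subgroup.commutator_mem_commutator hy ht
  have hRY : R ≤ Subgroup.normalizer (Y : Set G) := fun g hg => mem_normalizer_of_cj_le (by
    have hgK : g ∈ Subgroup.normalizer (W₂ : Set G) := mem_normalizer_of_cj_le (by
      rw [mv.hW₂, cj, Subgroup.map_iSup]
      refine iSup_le fun x => ?_
      rw [Subgroup.map_iSup]
      refine iSup_le fun hx => le_iSup₂_of_le (g * x * g⁻¹) (nrm (ch.hK'n (hRH hg)) hx) ?_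
      show cj (cj W x) g ≤ _
      have e1 : cj W (g * x) = cj W (g * x * g⁻¹) := by
        rw [← cj_mul_of_norm (d.hMW (d.hRM hg)) (g * x * g⁻¹), inv_mul_cancel_right]
      rw [cj_cj, e1])
    rw [hY, cj_inf, cj_centralizer, cj_eq_self (hRnK hg), cj_eq_self hgK])
  have hLcent : L ≤ Subgroup.centralizer (Y : Set G) := by
    have heq : ⁅Y, L⁆ = ⁅Y, N⁆ := le_antisymm (Subgroup.commutator_mono le_rfl hLN) hYcomm
    refine kill_comm hYe hLco d.hR.isPGroup (hLN.trans hNY) (heq.symm ▸ fun g hg =>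
      mem_normalizer_of_cj_le (by rw [cj_commutator, cj_eq_self (hRY hg), cj_eq_self (hRnN hg)])) ?_
    intro y hy
    obtain ⟨hy1, hy2⟩ := Subgroup.mem_inf.1 hy
    have hyW₂ : y ∈ W₂ := (Subgroup.mem_inf.1 (hY ▸ hy1)).1
    have hW₂Q : W₂ ≤ Ox q H := mv.hW₂ ▸ iSup₂_le fun g hg => (cj_mono d.W_le_Q g).trans
      (cj_eq_self (self_le_normalizer_Ox q H (hK'H hg))).le
    have hyU : y ∈ redU q H := s.fixed_le_U d.hR (Subgroup.mem_inf.2 ⟨mem_omegaZ (hW₂Q hyW₂)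
      (Subgroup.centralizer_le (s.Q_le_sylow d.hR) hy2) (hW₂e'.2 y hyW₂), hy2⟩)
    refine Subgroup.mem_centralizer_iff.2 fun t ht => ?_
    exact ((Subgroup.mem_centralizer_iff.1 (Subgroup.mem_inf.1
      (ch.hK' ((hN ▸ inf_le_left : N ≤ K') (hLN ht)))).2 y hyU)).symm
  have hfY : f ∈ Subgroup.centralizer (Y : Set G) :=
    ((sup_le (Subgroup.le_centralizer_iff.1 (hY ▸ inf_le_right)) hLcent) : RK ⊔ L ≤ _) (hsup hfN)
  -- hence `f` centralises the span of its conjugates of `W`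
  have hcomm : RK ≤ Subgroup.normalizer ((⁅T, Subgroup.zpowers f⁆ : Subgroup G) : Set G) := fun u hu =>
    mem_normalizer_of_cj_le (by
      rw [cj_commutator, cj_eq_self (hRKT hu)]
      refine Subgroup.commutator_le.2 fun t ht y hy => ?_
      obtain ⟨g, hg, rfl⟩ := hy
      obtain ⟨k, hk⟩ : ∃ k, k = ⁅u, g⁆ := ⟨_, rfl⟩
      have hkc : k ∈ Subgroup.centralizer (T : Set G) := hk ▸ hcTF u hu g hg
      have htg : ⁅t, g⁆ ∈ T := comm_mem_left (hFT hg) ht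
      have c1 : Commute t k := Subgroup.mem_centralizer_iff.1 hkc t ht
      have c2 : Commute ⁅t, g⁆ k := Subgroup.mem_centralizer_iff.1 hkc _ htg
      have e1 : ⁅t, (MulAut.conj u).toMonoidHom g⁆ = ⁅t, g⁆ := by
        calc ⁅t, (MulAut.conj u).toMonoidHom g⁆ = ⁅t, k * g⁆ := by
              rw [hk]
              show ⁅t, u * g * u⁻¹⁆ = _
              congr 1
              rw [commutatorElement_def]; group
          _ = (t * k) * g * t⁻¹ * g⁻¹ * k⁻¹ := by rw [commutatorElement_def]; group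
          _ = k * ⁅t, g⁆ * k⁻¹ := by rw [c1.eq, commutatorElement_def]; group
          _ = _ := by rw [← c2.eq, mul_inv_cancel_right]
      rw [e1]
      exact Subgroup.commutator_mem_commutator ht hg)
  have hfinal : Subgroup.zpowers f ≤ Subgroup.centralizer (T : Set G) :=
    kill_comm (Local.elemAb_mono hW₂e' hTW₂) (by rwa [Nat.card_zpowers]) (d.hR.isPGroup.to_le hRKR) hFT hcomm
      fun y hy => by
        have hyY : y ∈ Y := hY ▸ Subgroup.mem_inf.2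
          ⟨hTW₂ (Subgroup.mem_inf.1 hy).1, (Subgroup.mem_inf.1 hy).2⟩
        exact Subgroup.le_centralizer_iff.1 (Subgroup.zpowers_le.2 hfY) hyY
  refine hfW (Subgroup.centralizer_le_normalizer _ (Subgroup.centralizer_le ?_ (hfinal (Subgroup.mem_zpowers f))))
  rw [hT]
  exact le_iSup₂_of_le (f := fun g (_ : g ∈ (Subgroup.zpowers f : Set G)) => cj W g) 1 (one_mem _) (cj_one W).ge

end Mover

end Cfsg.Agent.SSF
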