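import Cfsg.Agent.Lib.SSF.LayerBase

/-!
Tools for the centraliser of a reduced module: Sylow bookkeeping, cardinalities, and a detection
criterion for elements of prime power order.
-/

set_option autoImplicit false
set_option linter.style.haveILetI false

open Cfsg Cfsg.Agent Cfsg.Agent.Fusion
open scoped commutatorElement Pointwise

namespace Cfsg.Agent.SSF

universe u

variable {G : Type u} [Group G] [Finite G] {p q : ℕ} [hp : Fact p.Prime] [hq : Fact q.Prime]

omit hp in
theorem sylIn_of_le {P X K : Subgroup G} (h : Solv.IsSylIn q P K) (hPX : P ≤ X) (hXK : X ≤ K) :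
    Solv.IsSylIn q P X := by
  refine ⟨hPX, h.2.trans (congrArg (q ^ ·) (le_antisymm ?_ ?_))⟩
  · refine (Nat.Prime.pow_dvd_iff_le_factorization hq.out Nat.card_pos.ne').1 ?_
    exact h.2 ▸ Subgroup.card_dvd_of_le hPX
  · exact (Nat.factorization_le_iff_dvd Nat.card_pos.ne' Nat.card_pos.ne').2
      (Subgroup.card_dvd_of_le hXK) q

omit hp in
/-- Every `q`-subgroup is conjugate into a given Sylow subgroup. -/
theorem exists_cj_le_sylIn {R X E : Subgroup G} (hR : Solv.IsSylIn q R X) (hE : IsPGroup q E) (hEX : E ≤ X) :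
    ∃ x ∈ X, E ≤ cj R x := by
  obtain ⟨P, hP⟩ := IsPGroup.exists_le_sylow (hE.of_equiv (Subgroup.subgroupOfEquivOfLe hEX).symm)
  obtain ⟨x, hx, hxe⟩ := hR.exists_conj (Solv.IsSylIn.of_sylow P)
  refine ⟨x, hx, ?_⟩
  rw [Solv.conj_smul_eq_map] at hxe
  rw [show cj R x = (P : Subgroup X).map X.subtype from hxe]
  intro e he
  exact ⟨⟨e, hEX he⟩, hP he, rfl⟩

omit hp hq in
/-- The product of two commuting groups is bounded by any group containing both. -/
theorem card_mul_card_le {V C S : Subgroup G} (hC : C ≤ Subgroup.normalizer (V : Set G)) (hVS : V ≤ S)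
    (hCS : C ≤ S) : Nat.card V * Nat.card C ≤ Nat.card S * Nat.card ↥(V ⊓ C) := by
  rw [← Solv.card_sup_mul_card_inf' V C hC]
  exact Nat.mul_le_mul_right _ (Subgroup.card_le_of_le (sup_le hVS hCS))

omit hp hq in
/-- The index of a centraliser does not grow on a smaller subgroup. -/
theorem index_fixed_le {V S X : Subgroup G} {n : ℕ} (hS : ∀ a ∈ S, ∀ b ∈ S, a * b = b * a) (hVS : V ≤ S)
    (h : Nat.card S ≤ n * Nat.card ↥(S ⊓ X)) : Nat.card V ≤ n * Nat.card ↥(V ⊓ X) := by
  have h1 := card_mul_card_le (V := V) (C := S ⊓ X) (S := S)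
    (fun g hg => Subgroup.centralizer_le_normalizer _ (Subgroup.mem_centralizer_iff.2 fun v hv =>
      hS v (hVS hv) g (Subgroup.mem_inf.1 hg).1)) hVS inf_le_left
  have h2 : V ⊓ (S ⊓ X) = V ⊓ X := by rw [← inf_assoc, inf_eq_left.2 hVS]
  rw [h2] at h1
  refine Nat.le_of_mul_le_mul_right (h1.trans ?_) (Nat.card_pos (α := ↥(S ⊓ X)))
  calc Nat.card S * Nat.card ↥(V ⊓ X) ≤ n * Nat.card ↥(S ⊓ X) * Nat.card ↥(V ⊓ X) :=
        Nat.mul_le_mul_right _ h
    _ = _ := by ring

omit hp in
/-- In an elementary group a subgroup of index at least `q` lies in one of index exactly `q`. -/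
theorem exists_hyperplane {C B : Subgroup G} (hB : IsElementaryAbelian q B) (hCB : C < B) :
    ∃ B₀, C ≤ B₀ ∧ B₀ < B ∧ Nat.card B ≤ q * Nat.card B₀ := by
  obtain ⟨B₀, hCB₀, hmax⟩ := Finite.exists_le_maximal (p := fun S : Subgroup G => S < B) (a := C) hCB
  refine ⟨B₀, hCB₀, hmax.1, ?_⟩
  obtain ⟨b, hb, hbn⟩ := SetLike.exists_of_lt hmax.1
  refine card_sup_zpowers_le (fun x hx => Local.elemAb_commute hB hb (hmax.1.le hx)) ?_ (hB.2 b hb)
  by_contra hne
  have hlt : B₀ ⊔ Subgroup.zpowers b < B :=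
    lt_of_le_of_ne (sup_le hmax.1.le (Subgroup.zpowers_le.2 hb)) hne
  exact hbn (hmax.2 hlt le_sup_left (Subgroup.mem_sup_right (Subgroup.mem_zpowers b)))

omit hp in
/-- Cross-multiplication against a quadratic gain. -/
theorem no_gain {a b x w : ℕ} (hx : 0 < x)
    (h1 : q ^ 2 * b * x ≤ w * a) (h2 : w * a ≤ q * b * x) (hb : 0 < b) : False := by
  have h3 : q ^ 2 * b * x ≤ q * b * x := h1.trans h2
  have h4 : q * (q * b * x) ≤ q * b * x := by
    calc q * (q * b * x) = q ^ 2 * b * x := by ring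
      _ ≤ _ := h3
  exact absurd h4 (not_le.2 (lt_mul_of_one_lt_left
    (Nat.mul_pos (Nat.mul_pos hq.out.pos hb) hx) hq.out.one_lt))

omit hp hq [Finite G] in
theorem mem_of_coprime_pows {S : Subgroup G} {x : G} {m n : ℕ} (hm : x ^ m ∈ S) (hn : x ^ n ∈ S)
    (h : m.Coprime n) : x ∈ S := by
  have h1 : (1 : ℤ) = m * m.gcdA n + n * m.gcdB n := by
    rw [← Nat.gcd_eq_gcd_ab, h.gcd_eq_one, Nat.cast_one]
  rw [← zpow_one x, h1, zpow_add, zpow_mul, zpow_mul, zpow_natCast, zpow_natCast]
  exact mul_mem (zpow_mem hm _) (zpow_mem hn _)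

omit hp hq [Finite G] in
theorem cj_cent_singleton (g x : G) :
    cj (Subgroup.centralizer ({x} : Set G)) g = Subgroup.centralizer {g * x * g⁻¹} := by
  ext y
  rw [mem_cj, Subgroup.mem_centralizer_singleton_iff, Subgroup.mem_centralizer_singleton_iff]
  constructor
  · intro h
    calc y * (g * x * g⁻¹) = g * (g⁻¹ * y * g * x) * g⁻¹ := by group
      _ = g * (x * (g⁻¹ * y * g)) * g⁻¹ := by rw [h]
      _ = g * x * g⁻¹ * y := by group
  · intro h
    calc g⁻¹ * y * g * x = g⁻¹ * (y * (g * x * g⁻¹)) * g := by group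
      _ = g⁻¹ * (g * x * g⁻¹ * y) * g := by rw [h]
      _ = x * (g⁻¹ * y * g) := by group

omit hp hq in
theorem cj_mul_of_norm {W : Subgroup G} {b : G} (hb : b ∈ Subgroup.normalizer (W : Set G)) (a : G) :
    cj W (a * b) = cj W a := by
  rw [← cj_cj, cj_eq_self hb]

namespace Layer

variable {c : Ctx G p} {H R M W : Subgroup G} (d : Layer c q H R M W)

include d

/-- An element of prime power order centralising a hyperplane of the module centralises it. -/
theorem cent_of_hyper {D : Subgroup G} (hD : D ≤ W) (hcard : Nat.card W ≤ q * Nat.card D) :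
    ∀ (k : ℕ) (v : G), v ∈ redC q H ⊓ M → v ∈ Subgroup.centralizer (D : Set G) → v ^ q ^ k = 1 →
      v ∈ Subgroup.centralizer (W : Set G) := by
  intro k
  induction k with
  | zero =>
    intro v _ _ h
    rw [pow_zero, pow_one] at h
    exact h ▸ one_mem _
  | succ k ih =>
    intro v hv hvD h
    have hvq : v ^ q ∈ Subgroup.centralizer (W : Set G) :=
      ih (v ^ q) (pow_mem hv q) (pow_mem hvD q) (by rw [← pow_mul, ← pow_succ']; exact h)
    obtain ⟨B, hB⟩ : ∃ B, B = Subgroup.zpowers v := ⟨_, rfl⟩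
    have hvB : v ∈ B := hB ▸ Subgroup.mem_zpowers v
    have hBle : B ≤ redC q H ⊓ M := hB ▸ Subgroup.zpowers_le.2 hv
    by_contra hcon
    rcases d.good hBle (fun b hb => by
        rw [hB] at hb
        obtain ⟨i, rfl⟩ := Subgroup.mem_zpowers_iff.1 hb
        rw [← zpow_natCast, ← zpow_mul, mul_comm, zpow_mul, zpow_natCast]
        exact zpow_mem hvq i) (fun b hb b' hb' => by
        rw [hB] at hb hb'
        obtain ⟨i, rfl⟩ := Subgroup.mem_zpowers_iff.1 hb
        obtain ⟨j, rfl⟩ := Subgroup.mem_zpowers_iff.1 hb'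
        rw [commutatorElement_eq_one_iff_mul_comm.2 ((Commute.refl v).zpow_zpow i j).eq]
        exact one_mem _) with h1 | h1
    · exact hcon (h1 hvB)
    · have e1 : Nat.card W * Nat.card ↥(B ⊓ Subgroup.centralizer (W : Set G)) ≤
          q * Nat.card B * Nat.card ↥(W ⊓ Subgroup.centralizer (B : Set G)) := by
        have e2 : Nat.card W ≤ q * Nat.card ↥(W ⊓ Subgroup.centralizer (B : Set G)) :=
          hcard.trans (Nat.mul_le_mul_left _ (Subgroup.card_le_of_le (le_inf hD
            (Subgroup.le_centralizer_iff.1 (hB ▸ Subgroup.zpowers_le.2 hvD)))))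
        calc _ ≤ q * Nat.card ↥(W ⊓ Subgroup.centralizer (B : Set G)) * Nat.card B :=
              Nat.mul_le_mul e2 (Subgroup.card_le_of_le inf_le_left)
          _ = _ := by ring
      exact no_gain (q := q) Nat.card_pos h1 e1 Nat.card_pos

end Layer

end Cfsg.Agent.SSF
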