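import Cfsg.Agent.Lib.SSF.Int

/-!
At least three primes: the configurations without meeting cores are impossible too.
-/

set_option autoImplicit false
set_option linter.style.haveILetI false

open Cfsg Cfsg.Agent Cfsg.Agent.Fusion
open scoped commutatorElement Pointwise

namespace Cfsg.Agent.SSF

universe u

variable {G : Type u} [Group G] [Finite G] {p : ℕ} [hp : Fact p.Prime]

namespace Ctx

variable {c : Ctx G p}

omit [Finite G] in
theorem commutator_le_centralizer_left {T Y O : Subgroup G} (hT : T ≤ Subgroup.centralizer (O : Set G))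
    (hY : Y ≤ Subgroup.normalizer (Subgroup.centralizer (O : Set G) : Set G)) :
    ⁅T, Y⁆ ≤ Subgroup.centralizer (O : Set G) :=
  Subgroup.commutator_le.2 fun _ ha _ hb => comm_mem_left (hY hb) (hT ha)

theorem commutator_le_centralizer_right {T Y O : Subgroup G} (hY : Y ≤ Subgroup.centralizer (O : Set G))
    (hT : T ≤ Subgroup.normalizer (O : Set G)) :
    ⁅T, Y⁆ ≤ Subgroup.centralizer (O : Set G) :=
  Subgroup.commutator_le.2 fun _ ha _ hb =>
    comm_mem_right (normalizer_le_normalizer_centralizer O (hT ha)) (hY hb)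

/-- A member of `y` centralises all cores of a third colour except one. -/
theorem third_cent (hs : Setup c) (h3 : c.Three) {v w x : ℕ} {V W' : Subgroup G} (hV : c.IsR v V)
    (hW : c.IsR w W') (hwv : w ≠ v) (hwx : w ≠ x) (hx : x ∈ pi V) {y : Subgroup G} (hyz : y ≤ c.z x)
    (hyV : y ≤ Ox x V) : ∀ s ∈ pi W', s ≠ v → y ≤ Subgroup.centralizer (Ox s W' : Set G) := by
  intro s hs' hsv
  have hxp := hV.2.1.mem_primes hx
  rcases eq_or_ne s x with rfl | hsx
  · exact hyz.trans (c.z_cent (hW.2.1.Ox_le_W s))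
  · exact cent_Ox_of hx.1 hs'.1 hsx.symm hyV ((hyz.trans inf_le_left).trans (hW.2.2 x hxp hwx.symm))
      ((hW.2.1.Ox_le_W s).trans (hV.2.2 s (hW.2.1.mem_primes hs') hsv))

theorem v_mem_third (hs : Setup c) (h3 : c.Three) {v w x : ℕ} {V W' : Subgroup G} (hV : c.IsR v V)
    (hW : c.IsR w W') (hwv : w ≠ v) (hwx : w ≠ x) (hx : x ∈ pi V) : v ∈ pi W' := by
  by_contra hvW
  have hxv : x ≠ v := fun h => three_R hs h3 hV (h ▸ hx)
  have hne := hV.2.1.Yc_ne_bot hs.crit hx
    ((hV.2.2 x (hV.2.1.mem_primes hx) hxv).trans (self_le_normalizer_Ox x V))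
  refine hne (le_bot_iff.1 ?_)
  rw [← no_int hs h3 hW hV hwv hwx.symm hxv hx.1]
  refine le_inf ?_ inf_le_right
  exact hW.2.1.le_Ox_of_comm hx.1 ((inf_le_left.trans inf_le_left).trans
    (hW.2.2 x (hV.2.1.mem_primes hx) hwx.symm)) ((isPGroup_Ox x V).to_le inf_le_right)
    fun s hs' => third_cent hs h3 hV hW hwv hwx hx inf_le_left inf_le_right s hs' fun h => hvW (h ▸ hs')

theorem four_false (hs : Setup c) (h3 : c.Three) {v t r x : ℕ} {V T R : Subgroup G} (hV : c.IsR v V)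
    (hT : c.IsR t T) (hR : c.IsR r R) (htv : t ≠ v) (hrv : r ≠ v) (hrt : r ≠ t) (hx : x ∈ pi V)
    (htx : t ≠ x) (hrx : r ≠ x) : False := by
  have hxp := hV.2.1.mem_primes hx
  have hxv : x ≠ v := fun h => three_R hs h3 hV (h ▸ hx)
  have hvT := v_mem_third hs h3 hV hT htv htx hx
  obtain ⟨y, hy⟩ : ∃ y, y = c.Yc x V := ⟨_, rfl⟩
  have hyz : y ≤ c.z x := hy ▸ inf_le_left
  have hyV : y ≤ Ox x V := hy ▸ inf_le_right
  have hyne : y ≠ ⊥ := hy ▸ hV.2.1.Yc_ne_bot hs.crit hx ((hV.2.2 x hxp hxv).trans (self_le_normalizer_Ox x V))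
  have hyT : y ≤ T := (hyz.trans inf_le_left).trans (hT.2.2 x hxp htx.symm)
  have hyR : y ≤ R := (hyz.trans inf_le_left).trans (hR.2.2 x hxp hrx.symm)
  have hTR : Ox v T ≤ R := (hT.2.1.Ox_le_W v).trans (hR.2.2 v (hT.2.1.mem_primes hvT) hrv.symm)
  have hX : ⁅Ox v T, y⁆ ≤ Ox v T :=
    Subgroup.commutator_le.2 fun a ha b hb => comm_mem_left (self_le_normalizer_Ox v T (hyT hb)) ha
  have hXb : ⁅Ox v T, y⁆ = ⊥ := by
    refine le_bot_iff.1 (le_trans (le_inf hX ?_) (no_int hs h3 hT hR hrt.symm htv.symm hrv.symm hvT.1).le)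
    refine hR.2.1.le_Ox_of_comm hvT.1 (hX.trans hTR) ((isPGroup_Ox v T).to_le hX) fun s hs' => ?_
    by_cases hsv : s = v
    · subst hsv
      refine commutator_le_centralizer_left ?_
        ((hyR.trans (self_le_normalizer_Ox s R)).trans (normalizer_le_normalizer_centralizer _))
      refine comm_of_inf (no_int hs h3 hT hR hrt.symm htv.symm hrv.symm hs'.1)
        (hTR.trans (self_le_normalizer_Ox s R)) ?_
      exact ((hR.2.1.Ox_le_W s).trans (hT.2.2 s (hR.2.1.mem_primes hs') htv.symm)).trans (self_le_normalizer_Ox s T)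
    · exact commutator_le_centralizer_right (third_cent hs h3 hV hR hrv hrx hx hyz hyV s hs' hsv)
        (hTR.trans (self_le_normalizer_Ox s R))
  refine hyne (le_bot_iff.1 ?_)
  rw [← no_int hs h3 hT hV htv htx.symm hxv hx.1]
  refine le_inf ?_ hyV
  refine hT.2.1.le_Ox_of_comm hx.1 hyT ((isPGroup_Ox x V).to_le hyV) fun s hs' => ?_
  by_cases hsv : s = v
  · subst hsv
    exact Subgroup.le_centralizer_iff.1 ((Subgroup.commutator_eq_bot_iff_le_centralizer).1 hXb)
  · exact third_cent hs h3 hV hT htv htx hx hyz hyV s hs' hsv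

theorem cover_false {K₁ K₂ K₃ : Subgroup G} (n₁ : ¬ c.A ≤ K₁) (n₂ : ¬ c.A ≤ K₂) (n₃ : ¬ c.A ≤ K₃)
    (hcov : ∀ a ∈ c.A, a ≠ 1 → a ∈ K₁ ∨ a ∈ K₂ ∨ a ∈ K₃) :
    ∃ d ∈ c.A, d ≠ 1 ∧ d ∈ K₁ ∧ d ∈ K₂ ∧ d ∈ K₃ := by
  have h4 : 4 < Nat.card c.A := by
    refine lt_of_lt_of_le ?_ c.h3
    calc 4 < 2 ^ 3 := by norm_num
      _ ≤ p ^ 3 := Nat.pow_le_pow_left hp.out.two_le 3
  have hne : ∀ K : Subgroup G, ¬ c.A ≤ K → c.A ⊓ K ≠ c.A := fun K h e => h (e ▸ inf_le_right)
  obtain ⟨d, hd, hd1, h1, h2, h3⟩ := three_cover (A := c.A) (K₁ := c.A ⊓ K₁) (K₂ := c.A ⊓ K₂) (K₃ := c.A ⊓ K₃)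
    h4 inf_le_left inf_le_left inf_le_left (hne K₁ n₁) (hne K₂ n₂) (hne K₃ n₃) fun a ha => by
    rcases eq_or_ne a 1 with rfl | ha1
    · exact Or.inl (one_mem _)
    rcases hcov a ha ha1 with h | h | h
    exacts [Or.inl ⟨ha, h⟩, Or.inr (Or.inl ⟨ha, h⟩), Or.inr (Or.inr ⟨ha, h⟩)]
  exact ⟨d, hd, hd1, h1.2, h2.2, h3.2⟩

theorem single_excl {V P : Subgroup G} {x z : ℕ} (hV : c.Colour V) (hP : c.Colour P) (hx : x ∈ pi V)
    (hz : pi P = {z}) (hne : x ≠ z) (hW : c.W z ≤ V) (hle : Zc x V ≤ P) : False := by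
  refine Zc_ne_bot hx (hP.eq_bot_of_comm hx.1 hle (isPGroup_Zc x V) (fun h => hne (by rw [hz] at h; exact h))
    fun q hq => ?_)
  rw [hz, Set.mem_singleton_iff] at hq
  subst hq
  exact cent_of_mutual hx.1 (prime_of_pi_eq hz).1 hne (isPGroup_Zc x V) (isPGroup_Ox q P)
    (hle.trans (self_le_normalizer_Ox q P)) (((hP.Ox_le_W q).trans hW).trans (self_le_normalizer_Zc x V))

theorem not_A_le {U : Subgroup G} (hU : c.Inv U) (h : ¬ U ≤ c.C) :
    ¬ c.A ≤ Subgroup.centralizer (U : Set G) := fun hle =>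
  h ((le_inf le_rfl (Subgroup.le_centralizer_iff.1 hle)).trans (c.inf_centA_le hU.1))

theorem le_of_mem_cent {U P : Subgroup G} (hU : c.Inv U) {d : G} (hd : d ∈ c.A) (hd1 : d ≠ 1)
    (hdU : d ∈ Subgroup.centralizer (U : Set G)) (hdP : c.θ d ≤ P) : U ≤ P :=
  ((le_inf le_rfl (le_cent_of_swap hdU)).trans (c.inf_cent_le hU.1 hd hd1)).trans hdP

theorem triangle_false (hs : Setup c) (h3 : c.Three) {a b e : ℕ} {A' B' E' : Subgroup G} (hA : c.IsR a A')
    (hB : c.IsR b B') (hE : c.IsR e E') (hab : a ≠ b) (hbe : b ≠ e) (hae : a ≠ e)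
    (hall : ∀ r ∈ c.primes, r = a ∨ r = b ∨ r = e) (pA : pi A' = {b}) (pB : pi B' = {e}) (pE : pi E' = {a}) :
    False := by
  have hbA := prime_of_pi_eq pA
  have heB := prime_of_pi_eq pB
  have haE := prime_of_pi_eq pE
  -- the three colours are all colours
  have hcol : ∀ P, c.Colour P → P = A' ∨ P = B' ∨ P = E' := by
    intro P hP
    rcases hP.mixed_or_single hs.crit with hm | ⟨q, hq⟩
    · exfalso
      have key : ∀ (H : Subgroup G) (t q u : ℕ), c.IsR t H → pi H = {q} → q ∈ pi P → u ∈ pi P → u ≠ q →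
          u ≠ t → False := fun H t q u hH hHq hqP huP huq hut => huP.2 (by
        have h := c.pq hs hH.2.1 hHq hP hqP huP huq
        rwa [inf_eq_left.2 ((hP.Ox_le_W u).trans (hH.2.2 u (hP.mem_primes huP) hut))] at h)
      obtain ⟨r, hr, t, ht, hrt⟩ := hm
      rcases hall r (hP.mem_primes hr) with rfl | rfl | rfl <;>
        rcases hall t (hP.mem_primes ht) with rfl | rfl | rfl
      exacts [hrt rfl, key E' e r t hE pE hr ht hrt.symm hbe, key B' b t r hB pB ht hr hrt hab,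
        key E' e t r hE pE ht hr hrt hbe, hrt rfl, key A' a r t hA pA hr ht hrt.symm hae.symm,
        key B' b r t hB pB hr ht hrt.symm hab, key A' a t r hA pA ht hr hrt hae.symm, hrt rfl]
    · rcases hall q (hP.mem_primes (prime_of_pi_eq hq)) with rfl | rfl | rfl
      exacts [Or.inr (Or.inr ((hs.hu E' q hE.2.1 pE).2 P hP hq)), Or.inl ((hs.hu A' q hA.2.1 pA).2 P hP hq),
        Or.inr (Or.inl ((hs.hu B' q hB.2.1 pB).2 P hP hq))]
  -- points of a colour centralise the centre of its core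
  have hfix : ∀ (V P : Subgroup G) (t x z : ℕ), c.Colour V → c.IsR t P → pi V = {x} → pi P = {z} → x ≠ z →
      x ≠ t → ∀ d ∈ c.A, d ≠ 1 → c.θ d ≤ V → d ∈ Subgroup.centralizer (Zc x V : Set G) := by
    intro V P t x z hV hP hVx hPz hxz hxt d hd hd1 hdV
    have hxV := prime_of_pi_eq hVx
    refine cent_singleton_swap (le_cent_of_commutator (le_bot_iff.1 ?_))
    have hb : Ox x P = ⊥ := Ox_eq_bot hxV.1 fun h => hxz (by rw [hPz] at h; exact h)
    refine (c.kLem hV hP.2.1 hxV.1 (hV.inv_Zc x) (Zc_comm x V) (Zc_le_Ox x V)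
      (((Zc_le_Ox x V).trans (hV.Ox_le_W x)).trans (hP.2.2 x (hV.mem_primes hxV) hxt)) ?_ hd hd1 hdV).trans hb.le
    rw [hb]
    exact fun g _ => Subgroup.mem_centralizer_iff.2 fun t ht => by
      rw [Subgroup.mem_bot.1 ht, one_mul, mul_one]
  obtain ⟨d, hd, hd1, d1, d2, d3⟩ := cover_false (c := c)
    (K₁ := Subgroup.centralizer (Zc b A' : Set G)) (K₂ := Subgroup.centralizer (Zc e B' : Set G))
    (K₃ := Subgroup.centralizer (Zc a E' : Set G))
    (not_A_le (hA.2.1.inv_Zc b) fun h => single_excl hA.2.1 hB.2.1 hbA pB hbe (hA.2.2 e hE.1 hae.symm)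
      (h.trans hB.2.1.2.1))
    (not_A_le (hB.2.1.inv_Zc e) fun h => single_excl hB.2.1 hE.2.1 heB pE hae.symm (hB.2.2 a hA.1 hab)
      (h.trans hE.2.1.2.1))
    (not_A_le (hE.2.1.inv_Zc a) fun h => single_excl hE.2.1 hA.2.1 haE pA hab (hE.2.2 b hB.1 hbe)
      (h.trans hA.2.1.2.1)) fun g hg hg1 => by
    obtain ⟨P, hP, hgP⟩ := c.theta_colour hg hg1
    rcases hcol P hP with rfl | rfl | rfl
    · exact Or.inl (hfix _ E' e b a hA.2.1 hE pA pE hab.symm hbe g hg hg1 hgP)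
    · exact Or.inr (Or.inl (hfix _ A' a e b hB.2.1 hA pB pA hbe.symm hae.symm g hg hg1 hgP))
    · exact Or.inr (Or.inr (hfix _ B' b a e hE.2.1 hB pE pB hae hab g hg hg1 hgP))
  obtain ⟨P, hP, hdP⟩ := c.theta_colour hd hd1
  rcases hcol P hP with rfl | rfl | rfl
  · exact single_excl hE.2.1 hA.2.1 haE pA hab (hE.2.2 b hB.1 hbe)
      (le_of_mem_cent (hE.2.1.inv_Zc a) hd hd1 d3 hdP)
  · exact single_excl hA.2.1 hB.2.1 hbA pB hbe (hA.2.2 e hE.1 hae.symm)
      (le_of_mem_cent (hA.2.1.inv_Zc b) hd hd1 d1 hdP)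
  · exact single_excl hB.2.1 hE.2.1 heB pE hae.symm (hB.2.2 a hA.1 hab)
      (le_of_mem_cent (hB.2.1.inv_Zc e) hd hd1 d2 hdP)

/-- The properties of the central piece `z b ⊓ O_b(R_a)` when all three colours have two primes. -/
theorem corank_piece (hs : Setup c) (h3 : c.Three) {a b e : ℕ} {A' B' E' : Subgroup G} (hA : c.IsR a A')
    (hB : c.IsR b B') (hE : c.IsR e E') (hab : a ≠ b) (hbe : b ≠ e) (hae : a ≠ e)
    (hall : ∀ r ∈ c.primes, r = a ∨ r = b ∨ r = e) (hbA : b ∈ pi A') (heA : e ∈ pi A') :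
    c.Inv (c.Yc b A') ∧
    (∀ d ∈ c.A, d ≠ 1 → (c.θ d ≤ A' ∨ ∃ H, c.Colour H ∧ pi H = {b} ∧ c.θ d ≤ H) →
      d ∈ Subgroup.centralizer (c.Yc b A' : Set G)) ∧
    ¬ c.Yc b A' ≤ B' ∧
    ∀ H, c.Colour H → pi H = {e} → ¬ c.Yc b A' ≤ H := by
  have hbp := hB.1
  obtain ⟨y, hy⟩ : ∃ y, y = c.Yc b A' := ⟨_, rfl⟩
  rw [← hy]
  have hyI : c.Inv y := hy ▸ hA.2.1.inv_Yc hs.crit hbp.1
  have hyz : y ≤ c.z b := hy ▸ inf_le_left
  have hyA : y ≤ Ox b A' := hy ▸ inf_le_right
  have hyne : y ≠ ⊥ := hy ▸ hA.2.1.Yc_ne_bot hs.crit hbA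
    ((hA.2.2 b hbp hab.symm).trans (self_le_normalizer_Ox b A'))
  have hyc : IsMulCommutative y := ⟨⟨fun u v => Subtype.ext
    (Subgroup.mem_centralizer_iff.1 (Subgroup.mem_inf.1 (hyz v.2)).2 u (Subgroup.mem_inf.1 (hyz u.2)).1)⟩⟩
  have hyE : y ≤ E' := (hyz.trans inf_le_left).trans (hE.2.2 b hbp hbe)
  refine ⟨hyI, fun d hd hd1 h => ?_, fun hyB => ?_, fun H hH hHe hyH => ?_⟩
  · have key : ∀ N, c.Colour N → y ≤ Ox b N → c.θ d ≤ N → d ∈ Subgroup.centralizer (y : Set G) := by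
      intro N hN hyN hdN
      refine cent_singleton_swap (le_cent_of_commutator (le_bot_iff.1 ?_))
      rw [← no_int hs h3 hE hA hae.symm hbe hab.symm hbp.1]
      exact le_inf (c.kLem hN hE.2.1 hbp.1 hyI hyc hyN hyE (hyz.trans (c.z_cent (hE.2.1.Ox_le_W b))) hd hd1 hdN)
        ((c.comm_inv hyI hd).2.trans hyA)
    rcases h with h | ⟨H, hH, hHb, h⟩
    · exact key A' hA.2.1 hyA h
    · refine key H hH (hH.le_Ox_of_comm hbp.1 (hyz.trans (hH.z_le hs.crit (prime_of_pi_eq hHb)))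
        ((isPGroup_Ox b A').to_le hyA) fun q hq => ?_) h
      rw [hHb, Set.mem_singleton_iff] at hq
      subst hq
      exact hyz.trans (c.z_cent (hH.Ox_le_W q))
  · have hbB : b ∉ pi B' := three_R hs h3 hB
    refine hyne (hB.2.1.eq_bot_of_comm hbp.1 hyB ((isPGroup_Ox b A').to_le hyA) hbB fun q hq => ?_)
    rcases hall q (hB.2.1.mem_primes hq) with rfl | rfl | rfl
    swap
    · exact absurd hq hbB
    swap
    · exact cent_Ox_of hbp.1 hq.1 hbe hyA hyB
        ((hB.2.1.Ox_le_W q).trans (hA.2.2 q hE.1 hae.symm))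
    have hVE : Ox q B' ≤ E' := (hB.2.1.Ox_le_W q).trans (hE.2.2 q hA.1 hae)
    have hX : ⁅Ox q B', y⁆ ≤ Ox q B' :=
      Subgroup.commutator_le.2 fun u hu v hv => comm_mem_left (self_le_normalizer_Ox q B' (hyB hv)) hu
    refine Subgroup.le_centralizer_iff.1 ((Subgroup.commutator_eq_bot_iff_le_centralizer).1 (le_bot_iff.1 ?_))
    rw [← no_int hs h3 hB hE hbe hab hae hq.1]
    refine le_inf hX (hE.2.1.le_Ox_of_comm hq.1 (hX.trans hVE) ((isPGroup_Ox q B').to_le hX) fun r hr => ?_)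
    rcases hall r (hE.2.1.mem_primes hr) with rfl | rfl | rfl
    · refine commutator_le_centralizer_left ?_
        ((hyE.trans (self_le_normalizer_Ox r E')).trans (normalizer_le_normalizer_centralizer _))
      refine comm_of_inf (no_int hs h3 hB hE hbe hab hae hr.1) (hVE.trans (self_le_normalizer_Ox r E')) ?_
      exact ((hE.2.1.Ox_le_W r).trans (hB.2.2 r hA.1 hab)).trans (self_le_normalizer_Ox r B')
    · exact commutator_le_centralizer_right (hyz.trans (c.z_cent (hE.2.1.Ox_le_W r)))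
        (hVE.trans (self_le_normalizer_Ox r E'))
    · exact absurd hr (three_R hs h3 hE)
  · exact hyne (le_bot_iff.1 ((le_inf hyA hyH).trans (c.pq hs hH hHe hA.2.1 heA hbA hbe).le))

theorem corank_false (hs : Setup c) (h3 : c.Three) {a b e : ℕ} {A' B' E' : Subgroup G} (hA : c.IsR a A')
    (hB : c.IsR b B') (hE : c.IsR e E') (hab : a ≠ b) (hbe : b ≠ e) (hae : a ≠ e)
    (hall : ∀ r ∈ c.primes, r = a ∨ r = b ∨ r = e) (hbA : b ∈ pi A') (heA : e ∈ pi A') (haB : a ∈ pi B')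
    (heB : e ∈ pi B') (haE : a ∈ pi E') (hbE : b ∈ pi E') : False := by
  obtain ⟨i1, f1, x1, y1⟩ := corank_piece hs h3 hA hB hE hab hbe hae hall hbA heA
  obtain ⟨i2, f2, x2, y2⟩ := corank_piece hs h3 hB hE hA hbe hae.symm hab.symm
    (fun r hr => by rcases hall r hr with h | h | h <;> simp [h]) heB haB
  obtain ⟨i3, f3, x3, y3⟩ := corank_piece hs h3 hE hA hB hae.symm hab hbe.symm
    (fun r hr => by rcases hall r hr with h | h | h <;> simp [h]) haE hbE
  have hcol : ∀ P, c.Colour P →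
      P = A' ∨ P = B' ∨ P = E' ∨ pi P = {a} ∨ pi P = {b} ∨ pi P = {e} := by
    intro P hP
    rcases hP.mixed_or_single hs.crit with hm | ⟨q, hq⟩
    · obtain ⟨t, ht, htP⟩ := three_no_full hs h3 hP
      have key : ∀ T : Subgroup G, c.IsR t T → (∀ s ∈ c.primes, s ≠ t → s ∈ pi T) → P = T := by
        intro T hT hTall
        by_contra hne
        obtain ⟨s, hs', hsP⟩ := arrow₁ hs.crit hP hT.2.1 hm (free hT hP htP) (Ne.symm hne)
        obtain ⟨r, hr, r', hr', hrr⟩ := hm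
        have hst : s ≠ t := fun h => three_R hs h3 hT (h ▸ hs')
        have hrt : r ≠ t := fun h => htP (h ▸ hr)
        have hr't : r' ≠ t := fun h => htP (h ▸ hr')
        have hrs : r ≠ s := fun h => hsP (h ▸ hr)
        have hr's : r' ≠ s := fun h => hsP (h ▸ hr')
        rcases hall s (hT.2.1.mem_primes hs') with rfl | rfl | rfl <;>
          rcases hall t ht with rfl | rfl | rfl <;>
          rcases hall r (hP.mem_primes hr) with rfl | rfl | rfl <;>
          rcases hall r' (hP.mem_primes hr') with rfl | rfl | rfl <;>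
          first
            | exact hrr rfl
            | exact hst rfl
            | exact hrt rfl
            | exact hr't rfl
            | exact hrs rfl
            | exact hr's rfl
      rcases hall t ht with rfl | rfl | rfl
      · exact Or.inl (key A' hA fun s hs' hne => by rcases hall s hs' with rfl | rfl | rfl
                                                    exacts [absurd rfl hne, hbA, heA])
      · exact Or.inr (Or.inl (key B' hB fun s hs' hne => by rcases hall s hs' with rfl | rfl | rfl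
                                                            exacts [haB, absurd rfl hne, heB]))
      · exact Or.inr (Or.inr (Or.inl (key E' hE fun s hs' hne => by rcases hall s hs' with rfl | rfl | rfl
                                                                    exacts [haE, hbE, absurd rfl hne])))
    · rcases hall q (hP.mem_primes (prime_of_pi_eq hq)) with h | h | h <;> subst h <;> simp [hq]
  obtain ⟨d, hd, hd1, d1, d2, d3⟩ := cover_false (c := c)
    (not_A_le i1 fun h => x1 (h.trans hB.2.1.2.1)) (not_A_le i2 fun h => x2 (h.trans hE.2.1.2.1))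
    (not_A_le i3 fun h => x3 (h.trans hA.2.1.2.1)) fun g hg hg1 => by
    obtain ⟨P, hP, hgP⟩ := c.theta_colour hg hg1
    rcases hcol P hP with rfl | rfl | rfl | h | h | h
    · exact Or.inl (f1 g hg hg1 (Or.inl hgP))
    · exact Or.inr (Or.inl (f2 g hg hg1 (Or.inl hgP)))
    · exact Or.inr (Or.inr (f3 g hg hg1 (Or.inl hgP)))
    · exact Or.inr (Or.inr (f3 g hg hg1 (Or.inr ⟨P, hP, h, hgP⟩)))
    · exact Or.inl (f1 g hg hg1 (Or.inr ⟨P, hP, h, hgP⟩))
    · exact Or.inr (Or.inl (f2 g hg hg1 (Or.inr ⟨P, hP, h, hgP⟩)))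
  obtain ⟨P, hP, hdP⟩ := c.theta_colour hd hd1
  rcases hcol P hP with rfl | rfl | rfl | h | h | h
  · exact x3 (le_of_mem_cent i3 hd hd1 d3 hdP)
  · exact x1 (le_of_mem_cent i1 hd hd1 d1 hdP)
  · exact x2 (le_of_mem_cent i2 hd hd1 d2 hdP)
  · exact y2 P hP h (le_of_mem_cent i2 hd hd1 d2 hdP)
  · exact y3 P hP h (le_of_mem_cent i3 hd hd1 d3 hdP)
  · exact y1 P hP h (le_of_mem_cent i1 hd hd1 d1 hdP)

theorem three_false (hs : Setup c) (h3 : c.Three) : False := by
  obtain ⟨a, ha, -, -⟩ := h3 0 0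
  obtain ⟨A', hA⟩ := c.exists_R hs.crit ha
  obtain ⟨b, hbA⟩ := hA.2.1.pi_nonempty hs.crit
  have hab : a ≠ b := fun h => three_R hs h3 hA (h ▸ hbA)
  obtain ⟨e, he, hea, heb⟩ := h3 a b
  by_cases hex : ∃ r ∈ c.primes, r ≠ a ∧ r ≠ b ∧ r ≠ e
  · obtain ⟨r, hr, hra, hrb, hre⟩ := hex
    obtain ⟨E', hE⟩ := c.exists_R hs.crit he
    obtain ⟨R, hR⟩ := c.exists_R hs.crit hr
    exact four_false hs h3 hA hE hR hea hra hre hbA heb hrb
  push Not at hex
  have hall : ∀ r ∈ c.primes, r = a ∨ r = b ∨ r = e := fun r hr => by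
    by_cases h1 : r = a
    · exact Or.inl h1
    by_cases h2 : r = b
    · exact Or.inr (Or.inl h2)
    exact Or.inr (Or.inr (hex r hr h1 h2))
  obtain ⟨B', hB⟩ := c.exists_R hs.crit (hA.2.1.mem_primes hbA)
  obtain ⟨E', hE⟩ := c.exists_R hs.crit he
  -- the cycle forced by `b ∈ π(R_a)`
  have haE : a ∈ pi E' := v_mem_third hs h3 hA hE hea heb hbA
  have heB : e ∈ pi B' := v_mem_third hs h3 hE hB heb.symm hab.symm haE
  by_cases hop : e ∈ pi A' ∨ a ∈ pi B' ∨ b ∈ pi E'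
  · have h : e ∈ pi A' ∧ a ∈ pi B' ∧ b ∈ pi E' := by
      rcases hop with h | h | h
      · have h2 := v_mem_third hs h3 hA hB hab.symm heb.symm h
        exact ⟨h, h2, v_mem_third hs h3 hB hE heb hea h2⟩
      · have h2 := v_mem_third hs h3 hB hE heb hea h
        exact ⟨v_mem_third hs h3 hE hA hea.symm hab h2, h, h2⟩
      · have h2 := v_mem_third hs h3 hE hA hea.symm hab h
        exact ⟨h2, v_mem_third hs h3 hA hB hab.symm heb.symm h2, h⟩
    exact corank_false hs h3 hA hB hE hab heb.symm hea.symm hall hbA h.1 h.2.1 heB haE h.2.2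
  push Not at hop
  have single : ∀ (T : Subgroup G) (t q r : ℕ), c.IsR t T → q ∈ pi T → r ∉ pi T →
      (∀ s ∈ c.primes, s = t ∨ s = q ∨ s = r) → pi T = {q} := fun T t q r hT hq hr hcase =>
    Set.eq_singleton_iff_unique_mem.2 ⟨hq, fun s hs' => by
      rcases hcase s (hT.2.1.mem_primes hs') with rfl | rfl | rfl
      exacts [absurd hs' (three_R hs h3 hT), rfl, absurd hs' hr]⟩
  exact triangle_false hs h3 hA hB hE hab heb.symm hea.symm hall
    (single A' a b e hA hbA hop.1 hall)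
    (single B' b e a hB heB hop.2.1 fun s hs' => by rcases hall s hs' with h | h | h <;> simp [h])
    (single E' e a b hE haE hop.2.2 fun s hs' => by rcases hall s hs' with h | h | h <;> simp [h])

end Ctx

end Cfsg.Agent.SSF
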