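import Cfsg.Agent.Lib.SSF.NoTwoNonabelian
import Cfsg.Agent.Lib.SSF.Cores

/-!
The non-abelian case: at most two pieces are moved and their stabilisers act trivially.
-/

set_option autoImplicit false
set_option linter.style.haveILetI false

open Cfsg Cfsg.Agent Cfsg.Agent.Fusion
open scoped commutatorElement Pointwise

namespace Cfsg.Agent.SSF

universe u

variable {G : Type u} [Group G] [Finite G]

theorem comm_mem_of_sup_eq {a e : G} {E N : Subgroup G} (haN : a ∈ Subgroup.normalizer (N : Set G))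
    (hEN : E ≤ Subgroup.normalizer (N : Set G)) (heq : N ⊔ (E ⊓ Subgroup.centralizer {a}) = E) (he : e ∈ E) :
    ⁅a, e⁆ ∈ N := by
  have he' : e ∈ ((N ⊔ (E ⊓ Subgroup.centralizer {a}) : Subgroup G) : Set G) := heq.ge he
  rw [Subgroup.coe_mul_of_right_le_normalizer_left N _ (inf_le_left.trans hEN)] at he'
  obtain ⟨n, hn, c, hc, rfl⟩ := he'
  have hac : a * c = c * a :=
    (Subgroup.mem_centralizer_singleton_iff.1 (Subgroup.mem_inf.1 hc).2).symm
  show ⁅a, n * c⁆ ∈ N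
  rw [show ⁅a, n * c⁆ = ⁅a, n⁆ from ?_]
  · exact comm_mem_right haN hn
  · calc ⁅a, n * c⁆ = ⁅a, n⁆ * (n * ⁅a, c⁆ * n⁻¹) := by simp only [commutatorElement_def]; group
      _ = _ := by rw [commutatorElement_eq_one_iff_mul_comm.2 hac, mul_one, mul_inv_cancel, mul_one]

theorem gl_bound_two (n : ℕ) (hn : n ≤ 6) : ¬ (3 : ℕ) ^ 5 ∣ ∏ i : Fin n, (2 ^ n - 2 ^ (i : ℕ)) := by
  interval_cases n <;> simp [Fin.prod_univ_succ]

theorem gl_bound_three (n : ℕ) (hn : n ≤ 4) : ¬ (2 : ℕ) ^ 10 ∣ ∏ i : Fin n, (3 ^ n - 3 ^ (i : ℕ)) := by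
  interval_cases n <;> simp [Fin.prod_univ_succ]

/-- A `p`-element moving a group of `q`-power order: the modulus divides a difference of powers. -/
theorem exists_pow_modEq {p q : ℕ} (hp : p.Prime) (hq : q.Prime) (hne : p ≠ q) {V F : Subgroup G}
    (hV : IsPGroup q V) (hF : F ≤ V) (h : Nat.card V ≡ Nat.card F [MOD p]) :
    ∃ j, Nat.card V = Nat.card F * q ^ j ∧ p ∣ q ^ j - 1 := by
  haveI := Fact.mk hq
  obtain ⟨j, hj⟩ := hV.index (F.subgroupOf V)
  have hj' : F.relIndex V = q ^ j := hj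
  have hcard := card_mul_relIndex_of_le hF
  rw [hj'] at hcard
  refine ⟨j, hcard.symm, ?_⟩
  obtain ⟨m, hm⟩ := IsPGroup.iff_card.1 (hV.to_le hF)
  rw [← hcard, hm] at h
  nth_rewrite 2 [← mul_one (q ^ m)] at h
  have h2 := Nat.ModEq.cancel_left_of_coprime (Nat.Coprime.pow_right m ((Nat.coprime_primes hp hq).2 hne)) h
  exact (Nat.modEq_iff_dvd' (Nat.one_le_pow _ _ hq.pos)).1 h2.symm

namespace NT

variable {p q r : ℕ} {W A P E : Subgroup G} {x : G} (d : NT p q r W A P E x)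

include d

theorem three_pieces {U₁ U₂ U₃ : Subgroup G} (h₁ : U₁ ≤ W) (h₂ : U₂ ≤ W) (h₃ : U₃ ≤ W)
    (hd1 : U₂ ⊓ U₃ = ⊥) (hd2 : U₁ ⊓ (U₂ ⊔ U₃) = ⊥)
    (n₁ : x ∈ Subgroup.normalizer (U₁ : Set G)) (n₂ : x ∈ Subgroup.normalizer (U₂ : Set G))
    (n₃ : x ∈ Subgroup.normalizer (U₃ : Set G))
    (l₁ : q * Nat.card ↥(U₁ ⊓ Subgroup.centralizer {x}) ≤ Nat.card U₁)
    (l₂ : q * Nat.card ↥(U₂ ⊓ Subgroup.centralizer {x}) ≤ Nat.card U₂)
    (l₃ : q * Nat.card ↥(U₃ ⊓ Subgroup.centralizer {x}) ≤ Nat.card U₃) : False := by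
  have hnR : x ∈ Subgroup.normalizer (↑(U₂ ⊔ U₃) : Set G) :=
    mem_normalizer_of_cj_le (by rw [cj_sup, cj_eq_self n₂, cj_eq_self n₃])
  have hb := d.budget (sup_le h₁ (sup_le h₂ h₃))
  rw [fixed_split d.Wcomm h₁ (sup_le h₂ h₃) n₁ hnR hd2, fixed_split d.Wcomm h₂ h₃ n₂ n₃ hd1,
    card_sup_of_inf_bot d.Wcomm h₁ (sup_le h₂ h₃) hd2,
    card_sup_of_inf_bot d.Wcomm h₂ h₃ hd1,
    card_sup_of_inf_bot d.Wcomm (inf_le_left.trans h₁)
      (sup_le (inf_le_left.trans h₂) (inf_le_left.trans h₃))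
      (le_bot_iff.1 (hd2 ▸ inf_le_inf inf_le_left (sup_le_sup inf_le_left inf_le_left))),
    card_sup_of_inf_bot d.Wcomm (inf_le_left.trans h₂) (inf_le_left.trans h₃)
      (le_bot_iff.1 (hd1 ▸ inf_le_inf inf_le_left inf_le_left))] at hb
  have hprod := Nat.mul_le_mul l₁ (Nat.mul_le_mul l₂ l₃)
  obtain ⟨t, ht⟩ : ∃ t, t = Nat.card ↥(U₁ ⊓ Subgroup.centralizer {x}) *
    (Nat.card ↥(U₂ ⊓ Subgroup.centralizer {x}) * Nat.card ↥(U₃ ⊓ Subgroup.centralizer {x})) := ⟨_, rfl⟩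
  have h0 : 0 < q ^ 2 * t := Nat.mul_pos (pow_pos d.qprime.pos 2)
    (ht ▸ Nat.mul_pos Nat.card_pos (Nat.mul_pos Nat.card_pos Nat.card_pos))
  have h2 : q * (q ^ 2 * t) ≤ q ^ 2 * t := by
    calc q * (q ^ 2 * t) = _ := by rw [ht]; ring
      _ ≤ _ := hprod
      _ ≤ q ^ 2 * t := ht ▸ hb
  exact absurd h2 (not_le.2 (lt_mul_of_one_lt_left h0 d.qprime.one_lt))

theorem htriv' {K : Subgroup G} (hK : Pd r W E K) (hS : ∃ e ∈ E, ⁅x, e⁆ ∉ rad E K) {a : G} (ha : a ∈ A)
    (haK : cj K a = K) {f : G} (hf : f ∈ E) : ⁅a, f⁆ ∈ rad E K := by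
  haveI := Fact.mk d.hr
  haveI := Fact.mk d.qprime
  obtain ⟨e, he, hxe⟩ := hS
  obtain ⟨U, hU⟩ : ∃ U, U = piece W ⁅E, E⁆ K := ⟨_, rfl⟩
  have hpq : p ≠ q := fun h => absurd d.q_lt_p (h ▸ lt_irrefl _)
  have haU : a ∈ Subgroup.normalizer (U : Set G) := mem_normalizer_of_cj_le (by
    rw [hU, cj_piece, cj_eq_self (d.hAW ha), cj_commutator, cj_eq_self (d.hAE ha), haK])
  by_cases haC : a ∈ Subgroup.centralizer (U : Set G)
  · refine d.cent_rad hK (comm_mem_right (d.hAE ha) hf) (hU ▸ ?_)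
    exact comm_mem_left (mem_normalizer_of_cj_le (by
      rw [cj_centralizer, cj_eq_self (hU ▸ d.E_piece hK.1.1 hf)])) haC
  have hUW : U ≤ W := hU ▸ d.pieces'.piece_le K
  have hUq := (Local.elemAb_isPGroup d.hW).to_le hUW
  have hap := d.hA.2 a ha
  obtain ⟨F, hF⟩ : ∃ F, F = U ⊓ Subgroup.centralizer ({a} : Set G) := ⟨_, rfl⟩
  obtain ⟨j, hj, hjd⟩ := exists_pow_modEq d.hp d.qprime hpq hUq (hF ▸ inf_le_left : F ≤ U)
    (hF ▸ card_fixed_modEq d.hp hap haU)
  have hj0 : j ≠ 0 := by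
    rintro rfl
    rw [pow_zero, mul_one] at hj
    refine haC (Subgroup.mem_centralizer_iff.2 fun v hv => ?_)
    rw [← Subgroup.eq_of_le_of_card_ge (hF ▸ inf_le_left : F ≤ U) hj.le, hF] at hv
    exact Subgroup.mem_centralizer_singleton_iff.1 (Subgroup.mem_inf.1 hv).2
  obtain ⟨n, hn⟩ := IsPGroup.iff_card.1 hUq
  have hj' : q ^ j ≤ Nat.card U := by
    rw [hj]; exact Nat.le_mul_of_pos_left _ Nat.card_pos
  -- the image of `E` on the piece
  obtain ⟨J, hJ⟩ : ∃ J, J = rad E K ⊔ (E ⊓ Subgroup.centralizer ({a} : Set G)) := ⟨_, rfl⟩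
  have hradE : rad E K ≤ E := fun g hg => ((d.mem_rad hK.1.1).1 hg).1
  have haR : a ∈ Subgroup.normalizer (rad E K : Set G) :=
    mem_normalizer_iff_cj.2 (by rw [d.rad_cj K (d.hAE ha), haK])
  have hJE : J ≤ E := hJ ▸ sup_le hradE inf_le_left
  obtain ⟨i, hi, hid⟩ := exists_pow_modEq d.hp d.hr d.hrp.symm d.hE hJE
    (hJ ▸ card_fix_sup_modEq d.hp hap hradE (d.hAE ha) haR (d.rad_normal hK.1) d.coprime_pE)
  obtain ⟨L, hL⟩ : ∃ L, L = E ⊓ Subgroup.centralizer (U : Set G) := ⟨_, rfl⟩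
  have hLR : L < rad E K := by
    refine lt_of_le_of_ne (fun g hg => d.cent_rad hK (Subgroup.mem_inf.1 (hL ▸ hg)).1
      (hU ▸ (Subgroup.mem_inf.1 (hL ▸ hg)).2)) fun heq => ?_
    obtain ⟨z, hz, hzK⟩ := d.outside' hK
    refine hzK (d.cent_piece hK hz ?_)
    have hzr : z ∈ rad E K := (d.mem_rad hK.1.1).2 ⟨d.derived_le hz, fun g hg => by
      rw [commutatorElement_eq_one_iff_mul_comm.2 (Subgroup.mem_centralizer_iff.1 (d.derived_cent hz) g hg).symm]
      exact one_mem K⟩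
    rw [← heq, hL] at hzr
    exact hU ▸ (Subgroup.mem_inf.1 hzr).2
  have hbound : ∀ t, ¬ r ^ (t + 1) ∣ ∏ k : Fin n, (q ^ n - q ^ (k : ℕ)) → i + 1 ≤ t := by
    intro t ht
    let ψ : E →* MulAut U := U.normalizerMonoidHom.comp (Subgroup.inclusion (hU ▸ d.E_piece hK.1.1))
    have hker : ψ.ker = L.subgroupOf E := by
      ext g
      rw [MonoidHom.mem_ker, MonoidHom.comp_apply, ← MonoidHom.mem_ker,
        Subgroup.normalizerMonoidHom_ker, Subgroup.mem_subgroupOf, Subgroup.mem_subgroupOf, hL,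
        Subgroup.mem_inf]
      exact ⟨fun h => ⟨g.2, h⟩, fun h => h.2⟩
    obtain ⟨s, hs⟩ := d.hE.index (L.subgroupOf E)
    have hdvd : r ^ s ∣ ∏ k : Fin n, (q ^ n - q ^ (k : ℕ)) := by
      rw [← hs, ← hker, Subgroup.index_ker]
      exact (Subgroup.card_subgroup_dvd_card ψ.range).trans
        (card_mulAut_dvd (Local.elemAb_mono d.hW hUW) hn)
    have hst : s ≤ t := by
      by_contra hlt
      exact ht ((pow_dvd_pow r (by omega : t + 1 ≤ s)).trans hdvd)
    have hLE : L ≤ E := hL ▸ inf_le_left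
    have hcL : Nat.card L * r ^ s = Nat.card E := by
      rw [← hs]
      exact card_mul_relIndex_of_le hLE
    have hgt := mul_card_le_of_lt' (d.hE.to_le hradE) hLR
    have hle : Nat.card L * r ^ (i + 1) ≤ Nat.card L * r ^ s := by
      rw [hcL, hi, pow_succ]
      calc Nat.card L * (r ^ i * r) = r * Nat.card L * r ^ i := by ring
        _ ≤ Nat.card J * r ^ i := Nat.mul_le_mul_right _
          (hgt.trans (Subgroup.card_le_of_le (hJ ▸ le_sup_left)))
    exact ((Nat.pow_le_pow_iff_right d.hr.one_lt).1 (Nat.le_of_mul_le_mul_left hle Nat.card_pos)).trans hst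
  rcases eq_or_ne i 0 with rfl | hi0
  · rw [pow_zero, mul_one] at hi
    exact comm_mem_of_sup_eq haR (d.rad_normal hK.1) (hJ ▸ Subgroup.eq_of_le_of_card_ge hJE hi.le) hf
  exfalso
  rcases d.piece_small hK he hxe with ⟨hq, hr, hsz⟩ | ⟨hq, hr, hsz, hC⟩ <;> subst hq <;> subst hr
  · rw [← hU, hn] at hsz
    have hn6 : n ≤ 6 := (Nat.pow_le_pow_iff_right (by norm_num)).1 hsz
    have hi4 := hbound 4 (gl_bound_two n hn6)
    have hj6 : j ≤ 6 := (Nat.pow_le_pow_iff_right (by norm_num)).1 (hj'.trans (hn.le.trans hsz))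
    have hp3 : p ≠ 3 := d.hrp.symm
    have hp2 : p ≠ 2 := hpq
    have h13 : p = 13 := by
      have : i ≤ 3 := by omega
      have h1 : 1 ≤ i := Nat.pos_of_ne_zero hi0
      interval_cases i <;> norm_num at hid
      · exact absurd ((Nat.prime_dvd_prime_iff_eq d.hp Nat.prime_two).1 hid) hp2
      · exact absurd ((Nat.prime_dvd_prime_iff_eq d.hp Nat.prime_two).1
          (d.hp.dvd_of_dvd_pow (show p ∣ 2 ^ 3 by simpa using hid))) hp2
      · rcases d.hp.dvd_mul.1 (show p ∣ 2 * 13 by simpa using hid) with h | h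
        · exact absurd ((Nat.prime_dvd_prime_iff_eq d.hp Nat.prime_two).1 h) hp2
        · exact (Nat.prime_dvd_prime_iff_eq d.hp (by norm_num)).1 h
    subst h13
    have h1 : 1 ≤ j := Nat.pos_of_ne_zero hj0
    interval_cases j <;> norm_num at hjd
  · rw [← hU, hn] at hsz
    have hn4 : n ≤ 4 := (Nat.pow_le_pow_iff_right (by norm_num)).1 hsz
    have hi9 := hbound 9 (gl_bound_three n hn4)
    have hj4 : j ≤ 4 := (Nat.pow_le_pow_iff_right (by norm_num)).1 (hj'.trans (hn.le.trans hsz))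
    have hp5 : 5 ≤ p := by rcases d.hq with ⟨h, -⟩ | ⟨-, h⟩ <;> omega
    have key : ∀ {m}, m.Prime → p ∣ m → p = m := fun hm h => (Nat.prime_dvd_prime_iff_eq d.hp hm).1 h
    have h513 : (p = 5 ∧ j = 4) ∨ p = 13 := by
      have h1 : 1 ≤ j := Nat.pos_of_ne_zero hj0
      interval_cases j
      · have := key Nat.prime_two (by simpa using hjd); omega
      · have := key Nat.prime_two (d.hp.dvd_of_dvd_pow (show p ∣ 2 ^ 3 by simpa using hjd)); omega
      · rcases d.hp.dvd_mul.1 (show p ∣ 2 * 13 by simpa using hjd) with h | h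
        · have := key Nat.prime_two h; omega
        · exact Or.inr (key (by norm_num) h)
      · rcases d.hp.dvd_mul.1 (show p ∣ 2 ^ 4 * 5 by simpa using hjd) with h | h
        · have := key Nat.prime_two (d.hp.dvd_of_dvd_pow h); omega
        · exact Or.inl ⟨key (by norm_num) h, rfl⟩
    rcases h513 with ⟨rfl, rfl⟩ | rfl
    · -- the fixed points of `P` give a fixed point of `a`
      obtain ⟨C₀, hC₀⟩ : ∃ C₀, C₀ = U ⊓ Subgroup.centralizer (P : Set G) := ⟨_, rfl⟩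
      have hPU : P ≤ Subgroup.normalizer (U : Set G) := fun y hy => mem_normalizer_of_cj_le (by
        have hyc : y ∈ Subgroup.centralizer ((⁅E, E⁆ : Subgroup G) : Set G) := by
          refine Subgroup.mem_centralizer_iff.2 fun z hz => ?_
          have hle : ⁅E, E⁆ ≤ Subgroup.centralizer ({y} : Set G) := Subgroup.commutator_le.2 fun g hg h hh =>
            Subgroup.mem_centralizer_singleton_iff.2 (d.comm_cent_P hg hh hy).symm
          exact Subgroup.mem_centralizer_singleton_iff.1 (hle hz)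
        rw [hU, cj_piece, cj_eq_self (d.hPW hy), cj_eq_self (Subgroup.centralizer_le_normalizer _ hyc),
          cj_eq_self (Subgroup.centralizer_le_normalizer _ (Subgroup.centralizer_le hK.1.1 hyc))])
      have hne : C₀ ≠ ⊥ := fun hb => meet_center (x := 3) (hUq.to_sup_of_normal_left' d.hP hPU)
        le_sup_left (sup_le Subgroup.le_normalizer hPU) (fun h => hK.2 (hU ▸ h)) (le_bot_iff.1 (hb ▸
          le_of_le_of_eq (inf_le_inf_left _ (Subgroup.centralizer_le (le_sup_right : P ≤ U ⊔ P))) hC₀.symm))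
      have hC₀C : C₀ ≤ U ⊓ Subgroup.centralizer {x} := hC₀ ▸
        inf_le_inf_left _ (Subgroup.centralizer_le (Set.singleton_subset_iff.2 d.hx))
      have haC₀ : a ∈ Subgroup.normalizer (C₀ : Set G) := mem_normalizer_of_cj_le (by
        rw [hC₀, cj_inf, cj_centralizer, cj_eq_self haU, cj_eq_self (d.hAP ha)])
      obtain ⟨k, hk, hkd⟩ := exists_pow_modEq d.hp d.qprime hpq (hUq.to_le (hC₀C.trans inf_le_left))
        (inf_le_left : C₀ ⊓ Subgroup.centralizer {a} ≤ C₀) (card_fixed_modEq d.hp hap haC₀)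
      have hk2 : k ≤ 2 := by
        refine (Nat.pow_le_pow_iff_right (show 1 < 3 by norm_num)).1 (le_trans ?_ (hU ▸ hC))
        refine le_trans ?_ (Subgroup.card_le_of_le hC₀C)
        rw [hk]
        exact Nat.le_mul_of_pos_left _ Nat.card_pos
      have hk0 : k = 0 := by interval_cases k <;> first | rfl | norm_num at hkd
      subst hk0
      rw [pow_zero, mul_one] at hk
      have hC₀F : C₀ ≤ F := by
        rw [← Subgroup.eq_of_le_of_card_ge (inf_le_left : C₀ ⊓ Subgroup.centralizer {a} ≤ C₀) hk.le, hF]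
        exact inf_le_inf_right _ (hC₀ ▸ inf_le_left)
      have hF1 : 1 < Nat.card F := lt_of_lt_of_le
        ((Subgroup.one_lt_card_iff_ne_bot C₀).2 hne) (Subgroup.card_le_of_le hC₀F)
      rw [hn] at hj
      have := hj ▸ Nat.pow_le_pow_right (show 0 < 3 by norm_num) hn4
      omega
    · have h1 : 1 ≤ i := Nat.pos_of_ne_zero hi0
      have : i ≤ 8 := by omega
      interval_cases i <;> norm_num at hid

end NT

end Cfsg.Agent.SSF
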