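import Cfsg.Agent.Lib.SSF.NoTwoAbelian
import Cfsg.Agent.Lib.SSF.NoTwoNonabelianMain
import Cfsg.Agent.Lib.SSF.Cores

/-!
No element whose fixed points have index at most the square of its prime centralises the fixed points
of the operator group on the Fitting subgroup.
-/

set_option autoImplicit false
set_option linter.style.haveILetI false

open Cfsg Cfsg.Agent Cfsg.Agent.Fusion
open scoped commutatorElement Pointwise

namespace Cfsg.Agent.SSF

universe u

variable {G : Type u} [Group G] [Finite G]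

namespace NT

variable {p q r : ℕ} {W A P E : Subgroup G} {x : G} (d : NT p q r W A P E x)

include d

theorem nonabelian_false (hna : ¬ ∀ e ∈ E, ∀ f ∈ E, e * f = f * e) : False := by
  classical
  haveI := Fact.mk d.qprime
  have hP := d.pieces'
  have hxc := d.derived_centX
  have hnE : ∀ a ∈ Subgroup.normalizer (E : Set G),
      a ∈ Subgroup.normalizer ((⁅E, E⁆ : Subgroup G) : Set G) := fun a ha =>
    mem_normalizer_of_cj_le (by rw [cj_commutator, cj_eq_self ha])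
  obtain ⟨e, he, hexc⟩ : ∃ e ∈ E, ⁅x, e⁆ ∉ Subgroup.centralizer (E : Set G) := by
    by_contra hno
    push Not at hno
    obtain ⟨Zc, hZc⟩ : ∃ Zc, Zc = E ⊓ Subgroup.centralizer (E : Set G) := ⟨_, rfl⟩
    have hne : Zc ≠ E := fun h => hna fun a ha b hb => by
      rw [← h, hZc] at hb
      exact Subgroup.mem_centralizer_iff.1 (Subgroup.mem_inf.1 hb).2 a ha
    have hn : Subgroup.normalizer (E : Set G) ≤ Subgroup.normalizer (Zc : Set G) := fun g hg =>
      mem_normalizer_of_cj_le (by rw [hZc, cj_inf, cj_centralizer, cj_eq_self hg])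
    obtain ⟨f, hf, hxf⟩ := d.hne
    refine hxf (d.comm_eq_one hf (commutatorElement_eq_one_iff_mul_comm.2 ?_))
    exact (Subgroup.mem_centralizer_iff.1 (d.hmin Zc (hZc ▸ inf_le_left) hne (d.hAE.trans hn)
      (d.hPE.trans hn) (Subgroup.le_normalizer.trans hn) d.hx) _
        (hZc ▸ Subgroup.mem_inf.2 ⟨comm_mem_right d.xE hf, hno f hf⟩)).symm
  obtain ⟨f, hf, hz⟩ : ∃ f ∈ E, ⁅⁅x, e⁆, f⁆ ≠ 1 := by
    by_contra hno
    push Not at hno
    exact hexc (Subgroup.mem_centralizer_iff.2 fun f hf =>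
      (commutatorElement_eq_one_iff_mul_comm.1 (hno f hf)).symm)
  obtain ⟨K, hK, hzK, hKb⟩ := hP.exists_piece
    (Subgroup.commutator_mem_commutator (comm_mem_right d.xE he) hf) hz
  refine d.fixed_case (Pd r W E) (rad E) (fun L hL a ha => ⟨hL.1.cj (hnE a (d.hAE ha)), fun hb => hL.2 ?_⟩)
    (fun L hL g hg => ((d.mem_rad hL.1.1).1 hg).1) (fun L hL => d.rad_normal hL.1)
    (fun L hL => Subgroup.commutator_le.2 fun a ha b hb => (d.mem_rad hL.1.1).2
      ⟨comm_mem_right (Subgroup.le_normalizer ha) hb, fun g hg => by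
        rw [commutatorElement_eq_one_iff_mul_comm.2 (d.comm_central ha hb hg).symm]; exact one_mem L⟩)
    (fun L _ a ha => d.rad_cj L (d.hAE ha))
    (fun L hL _ => mem_normalizer_iff_cj.2 (by rw [d.rad_cj L d.xE, d.x_fix hL.1.1]))
    ?_ (fun L hL hS a ha hLa g hg => d.htriv' hL hS ha hLa hg)
    ⟨K, ⟨hK, hKb⟩, e, he, fun h => hzK (((d.mem_rad hK.1).1 h).2 f hf)⟩
  · rw [← Fusion.cj_cj_inv (piece W ⁅E, E⁆ L) a, cj_piece, cj_eq_self (d.hAW ha),
      cj_eq_self (hnE a (d.hAE ha)), hb, cj_bot]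
  · intro L₁ L₂ L₃ h₁ h₂ h₃ s₁ s₂ s₃
    by_contra hno
    push Not at hno
    obtain ⟨h12, h13, h23⟩ := hno
    have hd2 : piece W ⁅E, E⁆ L₁ ⊓ (piece W ⁅E, E⁆ L₂ ⊔ piece W ⁅E, E⁆ L₃) = ⊥ := by
      have h := hP.indep {L₂, L₃} L₁ h₁.1 (by simp [h₂.1, h₃.1]) (by simp [h12, h13])
      rwa [Finset.iSup_insert, Finset.iSup_singleton] at h
    have hd1 : piece W ⁅E, E⁆ L₂ ⊓ piece W ⁅E, E⁆ L₃ = ⊥ := by
      have h := hP.indep {L₃} L₂ h₂.1 (by simp [h₃.1]) (by simp [h23])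
      rwa [Finset.iSup_singleton] at h
    have hlt : ∀ {L}, Pd r W E L → (∃ g ∈ E, ⁅x, g⁆ ∉ rad E L) →
        q * Nat.card ↥(piece W ⁅E, E⁆ L ⊓ Subgroup.centralizer {x}) ≤ Nat.card (piece W ⁅E, E⁆ L) :=
      fun {L} hL ⟨g, hg, h⟩ =>
        mul_card_le_of_lt' ((Local.elemAb_isPGroup d.hW).to_le (hP.piece_le L)) (d.fix_lt' hL hg h)
    exact d.three_pieces (hP.piece_le _) (hP.piece_le _) (hP.piece_le _) hd1 hd2 (d.x_piece h₁.1.1)
      (d.x_piece h₂.1.1) (d.x_piece h₃.1.1) (hlt h₁ s₁) (hlt h₂ s₂) (hlt h₃ s₃)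

theorem false : False := by
  by_cases hab : ∀ e ∈ E, ∀ f ∈ E, e * f = f * e
  exacts [d.abelian_false hab, d.nonabelian_false hab]

end NT

variable {p q : ℕ} [hp : Fact p.Prime] [hq : Fact q.Prime] {W A M : Subgroup G}

omit hp in
/-- The Fitting subgroup of a solvable group without normal `q`-subgroup has order prime to `q`. -/
theorem exists_not_cent (hMs : Group.IsSolvable M) (hOq : Ox q M = ⊥) {x : G} (hx : x ∈ M) (hx1 : x ≠ 1)
    (hxq : x ^ q = 1) : ∃ r : ℕ, r.Prime ∧ r ≠ q ∧ ¬ Ox r M ≤ Subgroup.centralizer {x} := by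
  by_contra hno
  push Not at hno
  have hxp : IsPGroup q (Subgroup.zpowers x) := Local.elemAb_isPGroup (Local.elemAb_zpowers hxq)
  refine hx1 (Subgroup.mem_bot.1 (hOq ▸ le_Ox_of_centralizes hMs (Subgroup.zpowers_le.2 hx) hxp
    (fun r hr => Subgroup.zpowers_le.2 (Subgroup.mem_centralizer_iff.2 fun e he => ?_))
    (Subgroup.mem_zpowers x)))
  rcases eq_or_ne r q with rfl | hrq
  · rw [hOq] at he
    rw [Subgroup.mem_bot.1 he, one_mul, mul_one]
  · exact Subgroup.mem_centralizer_singleton_iff.1 (hno r hr hrq he)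

/-- **No two.** An element of order `q` in an invariant `q`-subgroup which centralises the fixed
points of `A` on the Fitting subgroup has fixed points of index at least `q ^ 3`. -/
theorem no_two (hq23 : (q = 2 ∧ p ≠ 2) ∨ (q = 3 ∧ 5 ≤ p)) (hW : IsElementaryAbelian q W)
    (hA : IsElementaryAbelian p A) (hAW : A ≤ Subgroup.normalizer (W : Set G))
    (hMW : M ≤ Subgroup.normalizer (W : Set G)) (hAM : A ≤ Subgroup.normalizer (M : Set G))
    (hMs : Group.IsSolvable M) (hpM : ¬ p ∣ Nat.card M) (hfaith : M ⊓ Subgroup.centralizer (W : Set G) = ⊥)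
    (hOq : Ox q M = ⊥) {P₀ : Subgroup G} (hP₀ : IsPGroup q P₀) (hP₀M : P₀ ≤ M)
    (hAP₀ : A ≤ Subgroup.normalizer (P₀ : Set G)) {x : G} (hx : x ∈ P₀) (hx1 : x ≠ 1) (hxq : x ^ q = 1)
    (hfix : ∀ r : ℕ, r.Prime → Ox r M ⊓ Subgroup.centralizer (A : Set G) ≤ Subgroup.centralizer {x}) :
    q ^ 2 * Nat.card ↥(W ⊓ Subgroup.centralizer {x}) < Nat.card W := by
  by_contra hle
  push Not at hle
  obtain ⟨r, hr, hrq, hxr⟩ := exists_not_cent hMs hOq (hP₀M hx) hx1 hxq
  obtain ⟨P, hP⟩ : ∃ P, P = Subgroup.closure ((fun a => a * x * a⁻¹) '' (A : Set G)) := ⟨_, rfl⟩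
  have hPP₀ : P ≤ P₀ := hP ▸ (Subgroup.closure_le _).2 (by
    rintro _ ⟨a, ha, rfl⟩
    exact nrm (hAP₀ ha) hx)
  have hxP : x ∈ P := hP ▸ Subgroup.subset_closure ⟨1, one_mem A, by simp⟩
  have hAP : A ≤ Subgroup.normalizer (P : Set G) := fun a ha => mem_normalizer_of_cj_le (by
    rw [hP, cj, MonoidHom.map_closure, Subgroup.closure_le]
    rintro _ ⟨_, ⟨b, hb, rfl⟩, rfl⟩
    refine Subgroup.subset_closure ⟨a * b, mul_mem ha hb, ?_⟩
    show a * b * x * (a * b)⁻¹ = a * (b * x * b⁻¹) * a⁻¹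
    group)
  have hPM : P ≤ M := hPP₀.trans hP₀M
  obtain ⟨E, hE, hEmin⟩ := (Set.toFinite {E : Subgroup G | E ≤ Ox r M ∧
    A ≤ Subgroup.normalizer (E : Set G) ∧ P ≤ Subgroup.normalizer (E : Set G) ∧
      ¬ E ≤ Subgroup.centralizer {x}}).exists_minimal ⟨Ox r M, le_rfl,
        hAM.trans (normalizer_le_normalizer_Ox r M), hPM.trans (self_le_normalizer_Ox r M), hxr⟩
  obtain ⟨hEle, hAE, hPE, hEx⟩ := hE
  have hEM : E ≤ M := hEle.trans (Ox_le r M)
  refine NT.false (p := p) (q := q) (r := r) (W := W) (A := A) (P := P) (E := E) (x := x)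
    { hp := hp.out, hr := hr, hq := hq23, hrp := ?_, hrq := hrq, hW := hW, hA := hA, hAW := hAW
      hPW := hPM.trans hMW, hEW := hEM.trans hMW, hAP := hAP, hAE := hAE, hPE := hPE
      hP := hP₀.to_le hPP₀, hE := (isPGroup_Ox r M).to_le hEle, hx := hxP, hxq := hxq
      hfaith := le_bot_iff.1 (hfaith ▸ inf_le_inf_right _ hEM)
      hne := ?_, hmin := ?_
      hfix := (inf_le_inf_right _ hEle).trans (hfix r hr)
      hsmall := hle }
  · rintro rfl
    obtain ⟨k, hk⟩ := IsPGroup.iff_card.1 ((isPGroup_Ox r M).to_le hEle)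
    rcases k with _ | k
    · exact hEx (by rw [Subgroup.card_eq_one.1 (by simpa using hk : Nat.card E = 1)]; exact bot_le)
    · exact hpM ((hk ▸ dvd_pow_self r k.succ_ne_zero).trans (Subgroup.card_dvd_of_le hEM))
  · obtain ⟨e, he, hex⟩ := SetLike.not_le_iff_exists.1 hEx
    exact ⟨e, he, fun h => hex (Subgroup.mem_centralizer_singleton_iff.2
      (commutatorElement_eq_one_iff_mul_comm.1 h).symm)⟩
  · intro L hL hne hAL hPL _
    have hcx : L ≤ Subgroup.centralizer {x} := by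
      by_contra h
      exact hne (le_antisymm hL (hEmin ⟨hL.trans hEle, hAL, hPL, h⟩ hL))
    rw [hP, Subgroup.closure_le]
    rintro _ ⟨a, ha, rfl⟩
    refine Subgroup.mem_centralizer_iff.2 fun l hl => ?_
    have hl' := hcx (show a⁻¹ * l * a⁻¹⁻¹ ∈ L from nrm (inv_mem (hAL ha)) hl)
    rw [inv_inv, Subgroup.mem_centralizer_singleton_iff] at hl'
    calc l * (a * x * a⁻¹) = a * ((a⁻¹ * l * a) * x) * a⁻¹ := by group
      _ = a * x * a⁻¹ * l := by rw [hl']; group

end Cfsg.Agent.SSF
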