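import Cfsg.Agent.Lib.SSF.Tools
import Cfsg.Agent.Lib.Fusion.Basic

/-!
Two elements of prime order of a group of prime power order moving overlapping sets of that prime
size move the same set.
-/

set_option autoImplicit false
set_option linter.style.haveILetI false

open Cfsg Cfsg.Agent Cfsg.Agent.Fusion
open scoped commutatorElement Pointwise

namespace Cfsg.Agent.SSF

universe u

variable {G : Type u} [Group G] [Finite G]

/-- An invariant set with one orbit under a group of prime power order has prime power size. -/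
theorem orbit_ncard {q : ℕ} [Fact q.Prime] {H : Subgroup G} (hH : IsPGroup q H) {S : Set (Subgroup G)}
    {K : Subgroup G} (hK : K ∈ S) (hclosed : ∀ h ∈ H, ∀ L ∈ S, cj L h ∈ S)
    (htrans : ∀ L ∈ S, ∃ h ∈ H, cj K h = L) : ∃ k, S.ncard = q ^ k := by
  letI : MulAction H (Subgroup G) :=
    { smul := fun h L => cj L (h : G)
      one_smul := fun L => cj_one L
      mul_smul := fun a b L => (cj_cj L (b : G) (a : G)).symm }
  have he : MulAction.orbit H K = S := Set.ext fun L =>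
    ⟨fun ⟨h, hh⟩ => hh ▸ hclosed h h.2 K hK, fun hL => by
      obtain ⟨h, hh, e⟩ := htrans L hL
      exact ⟨⟨h, hh⟩, e⟩⟩
  obtain ⟨k, hk⟩ := hH.card_orbit K
  exact ⟨k, by rw [← Nat.card_coe_set_eq, ← he, hk]⟩

/-- An element of `p`-power order fixes each member of an invariant set with fewer than `p` members. -/
theorem fix_of_small {p : ℕ} (hp : p.Prime) {a : G} (hap : a ^ p = 1) {S : Set (Subgroup G)}
    (hclosed : ∀ L ∈ S, cj L a ∈ S) (hcard : S.ncard < p) : ∀ L ∈ S, cj L a = L := by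
  haveI := Fact.mk hp
  intro L hL
  have hpow : ∀ i : ℕ, cj L (a ^ i) ∈ S := fun i => by
    induction i with
    | zero => rwa [pow_zero, cj_one]
    | succ i ih => rw [pow_succ', ← cj_cj]; exact hclosed _ ih
  have hz : IsPGroup p (Subgroup.zpowers a) := fun t => ⟨1, Subtype.ext (by
    obtain ⟨i, hi⟩ := Subgroup.mem_zpowers_iff.1 t.2
    rw [Subgroup.coe_pow, Subgroup.coe_one, pow_one, ← hi, ← zpow_natCast, ← zpow_mul, mul_comm,
      zpow_mul, zpow_natCast, hap, one_zpow])⟩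
  have hsub : {M | ∃ i : ℕ, cj L (a ^ i) = M} ⊆ S := by
    rintro M ⟨i, rfl⟩
    exact hpow i
  obtain ⟨k, hk⟩ := orbit_ncard (S := {M | ∃ i : ℕ, cj L (a ^ i) = M}) hz
    ⟨0, by rw [pow_zero, cj_one]⟩ (fun h hh M ⟨i, hi⟩ => by
      obtain ⟨j, hj⟩ : ∃ j : ℕ, a ^ j = h := Submonoid.mem_powers_iff _ _ |>.1
        (mem_powers_iff_mem_zpowers.2 hh)
      exact ⟨j + i, by rw [← hi, ← hj, cj_cj, pow_add]⟩)
    (fun M ⟨i, hi⟩ => ⟨a ^ i, pow_mem (Subgroup.mem_zpowers a) i, hi⟩)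
  have hle := Set.ncard_le_ncard hsub (Set.toFinite S)
  rw [hk] at hle
  have hk0 : k = 0 := by
    by_contra h0
    exact absurd (hle.trans_lt hcard) (not_lt.2 (Nat.le_self_pow h0 p))
  rw [hk0, pow_zero, Set.ncard_eq_one] at hk
  obtain ⟨M, hM⟩ := hk
  have h1 : L ∈ ({M} : Set (Subgroup G)) := hM ▸ ⟨0, by rw [pow_zero, cj_one]⟩
  have h2 : cj L a ∈ ({M} : Set (Subgroup G)) := hM ▸ ⟨1, by rw [pow_one]⟩
  exact (Set.mem_singleton_iff.1 h2).trans (Set.mem_singleton_iff.1 h1).symm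

/-- The sets moved by two such elements are disjoint or equal. -/
theorem moved_eq {q : ℕ} [Fact q.Prime] {H : Subgroup G} (hH : IsPGroup q H) {x y : G} (hx : x ∈ H)
    (hy : y ∈ H) (Kp : Subgroup G → Prop) (hKp : ∀ h ∈ H, ∀ L, Kp L → Kp (cj L h))
    {Sx Sy : Set (Subgroup G)} (hxS : ∀ L ∈ Sx, Kp L) (hyS : ∀ L ∈ Sy, Kp L)
    (hxin : ∀ L ∈ Sx, cj L x ∈ Sx) (hyin : ∀ L ∈ Sy, cj L y ∈ Sy)
    (hxout : ∀ L, Kp L → L ∉ Sx → cj L x = L) (hyout : ∀ L, Kp L → L ∉ Sy → cj L y = L)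
    (hxc : Sx.ncard = q) (hyc : Sy.ncard = q)
    {M : Subgroup G} (hMx : M ∈ Sx) (hMy : M ∈ Sy)
    (hxt : ∀ L ∈ Sx, ∃ i : ℕ, cj M (x ^ i) = L) (hyt : ∀ L ∈ Sy, ∃ i : ℕ, cj M (y ^ i) = L) :
    Sy = Sx := by
  obtain ⟨H', hH'⟩ : ∃ H', H' = Subgroup.closure ({x, y} : Set G) := ⟨_, rfl⟩
  have hle : H' ≤ H := hH' ▸ (Subgroup.closure_le _).2 (Set.insert_subset hx (Set.singleton_subset_iff.2 hy))
  have hxH : x ∈ H' := hH' ▸ Subgroup.subset_closure (Set.mem_insert _ _)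
  have hyH : y ∈ H' := hH' ▸ Subgroup.subset_closure (Set.mem_insert_of_mem _ rfl)
  have hgen : ∀ g ∈ ({x, y} : Set G), ∀ L ∈ Sx ∪ Sy, cj L g ∈ Sx ∪ Sy := by
    intro g hg L hL
    have hLp : Kp L := hL.elim (hxS L) (hyS L)
    rcases hg with rfl | rfl
    · by_cases h : L ∈ Sx
      · exact Or.inl (hxin L h)
      · rw [hxout L hLp h]; exact hL
    · by_cases h : L ∈ Sy
      · exact Or.inr (hyin L h)
      · rw [hyout L hLp h]; exact hL
  have hclosed : ∀ h ∈ H', ∀ L ∈ Sx ∪ Sy, cj L h ∈ Sx ∪ Sy := by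
    intro h hh
    rw [hH', ← Subgroup.mem_toSubmonoid, Subgroup.closure_toSubmonoid_of_finite] at hh
    induction hh using Submonoid.closure_induction with
    | mem g hg => exact hgen g hg
    | one => intro L hL; rwa [cj_one]
    | mul a b _ _ iha ihb => intro L hL; rw [← cj_cj]; exact iha _ (ihb L hL)
  obtain ⟨k, hk⟩ := orbit_ncard (hH.to_le hle) (Or.inl hMx : M ∈ Sx ∪ Sy) hclosed (fun L hL => by
    rcases hL with hL | hL
    · obtain ⟨i, hi⟩ := hxt L hL; exact ⟨x ^ i, pow_mem hxH i, hi⟩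
    · obtain ⟨i, hi⟩ := hyt L hL; exact ⟨y ^ i, pow_mem hyH i, hi⟩)
  have h1 : q ≤ (Sx ∪ Sy).ncard := hxc ▸ Set.ncard_le_ncard Set.subset_union_left (Set.toFinite _)
  have h2 : (Sx ∪ Sy).ncard < 2 * q := by
    have h3 := Set.ncard_union_add_ncard_inter Sx Sy (Set.toFinite _) (Set.toFinite _)
    have h4 : 0 < (Sx ∩ Sy).ncard := (Set.ncard_pos (Set.toFinite _)).2 ⟨M, hMx, hMy⟩
    omega
  have hq := (Fact.out : q.Prime).two_le
  have hk1 : k = 1 := by
    rw [hk] at h1 h2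
    rcases k with _ | _ | k
    · simp at h1; omega
    · rfl
    · exfalso
      have : q * q ≤ q ^ (k + 1 + 1) := by rw [← pow_two]; exact Nat.pow_le_pow_right (by omega) (by omega)
      nlinarith
  rw [hk1, pow_one] at hk
  exact (Set.eq_of_subset_of_ncard_le Set.subset_union_right (by omega) (Set.toFinite _)).trans
    (Set.eq_of_subset_of_ncard_le Set.subset_union_left (by omega) (Set.toFinite _)).symm

end Cfsg.Agent.SSF
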