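import Cfsg.Agent.Lib.SSF.NoTwoFixed
import Cfsg.Agent.Lib.SSF.NoTwoOrbit

/-!
The configuration is impossible when the moved subgroup is abelian.
-/

set_option autoImplicit false
set_option linter.style.haveILetI false

open Cfsg Cfsg.Agent Cfsg.Agent.Fusion
open scoped commutatorElement Pointwise

namespace Cfsg.Agent.SSF

universe u

variable {G : Type u} [Group G] [Finite G] {p q r : ℕ} {W A P E : Subgroup G} {x : G}

/-- A maximal subgroup of `E` with non-trivial piece. -/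
def Pc (r : ℕ) (W E K : Subgroup G) : Prop := Hy r E K ∧ piece W E K ≠ ⊥

omit [Finite G] in
theorem Pc.cj {K : Subgroup G} (h : Pc r W E K) {g : G} (hW : g ∈ Subgroup.normalizer (W : Set G))
    (hE : g ∈ Subgroup.normalizer (E : Set G)) :
    Pc r W E (Fusion.cj K g) ∧ piece W E (Fusion.cj K g) = Fusion.cj (piece W E K) g := by
  have he : piece W E (Fusion.cj K g) = Fusion.cj (piece W E K) g := by
    rw [cj_piece, cj_eq_self hW, cj_eq_self hE]
  refine ⟨⟨h.1.cj hE, fun hb => h.2 ?_⟩, he⟩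
  rw [← Fusion.cj_cj_inv (piece W E K) g, ← he, hb, cj_bot]

theorem piece_le_iSup {W E : Subgroup G} {T : Finset (Subgroup G)} {M : Subgroup G} (h : M ∈ T) :
    piece W E M ≤ ⨆ L ∈ T, piece W E L :=
  le_iSup₂ (f := fun L (_ : L ∈ T) => piece W E L) M h

namespace NT

variable (d : NT p q r W A P E x) (hab : ∀ e ∈ E, ∀ f ∈ E, e * f = f * e)

include d hab

theorem elementary : IsElementaryAbelian r E := by
  obtain ⟨M, -, -, hMP, hpow, -⟩ := d.exists_phi
  have hw : ∀ e ∈ E, ⁅x, e⁆ ^ r = 1 := fun e he => by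
    have hwE : ⁅x, e⁆ ∈ E := comm_mem_right d.xE he
    have h1 : x * e ^ r * x⁻¹ = e ^ r := mul_inv_eq_iff_eq_mul.2
      (Subgroup.mem_centralizer_iff.1 (hMP d.hx) _ (hpow e he)).symm
    rw [← conj_pow, show x * e * x⁻¹ = ⁅x, e⁆ * e by rw [commutatorElement_def]; group,
      (show Commute ⁅x, e⁆ e from hab _ hwE _ he).mul_pow] at h1
    exact mul_eq_right.1 h1
  let O : Subgroup G :=
    { carrier := {e | e ∈ E ∧ e ^ r = 1}
      one_mem' := ⟨one_mem E, one_pow r⟩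
      mul_mem' := fun {a b} ha hb => ⟨mul_mem ha.1 hb.1, by
        rw [(show Commute a b from hab a ha.1 b hb.1).mul_pow, ha.2, hb.2, one_mul]⟩
      inv_mem' := fun {a} ha => ⟨inv_mem ha.1, by rw [inv_pow, ha.2, inv_one]⟩ }
  have hn : Subgroup.normalizer (E : Set G) ≤ Subgroup.normalizer (O : Set G) := fun g hg =>
    mem_normalizer_of_cj_le (by
      rintro _ ⟨e, he, rfl⟩
      exact ⟨nrm hg (show e ∈ E ∧ _ from he).1, by
        show (g * e * g⁻¹) ^ r = 1
        rw [conj_pow, (show e ∈ E ∧ e ^ r = 1 from he).2, mul_one, mul_inv_cancel]⟩)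
  refine ⟨⟨⟨fun a b => Subtype.ext (hab a a.2 b b.2)⟩⟩, fun e he => ?_⟩
  suffices hO : O = E by
    rw [← hO] at he
    exact (show e ∈ E ∧ e ^ r = 1 from he).2
  by_contra hne
  obtain ⟨f, hf, hxf⟩ := d.hne
  refine hxf (d.comm_eq_one hf (commutatorElement_eq_one_iff_mul_comm.2 ?_))
  exact (Subgroup.mem_centralizer_iff.1 (d.hmin O (fun z hz => (show z ∈ E ∧ _ from hz).1) hne
    (d.hAE.trans hn) (d.hPE.trans hn) (Subgroup.le_normalizer.trans hn) d.hx) ⁅x, f⁆
      ⟨comm_mem_right d.xE hf, hw f hf⟩).symm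

theorem pieces : PieceCtx q r W E :=
  ⟨d.qprime, d.hr, d.hrq, d.hW, d.elementary hab, d.hEW, d.hfaith⟩

omit hab in
theorem normE {L : Subgroup G} (hL : L ≤ E) (hc : ∀ e ∈ E, ∀ f ∈ E, e * f = f * e) :
    E ≤ Subgroup.normalizer (L : Set G) :=
  le_normalizer_of_comm hc le_rfl hL

/-- An element whose commutator with `E` leaves `K` moves the piece of `K`. -/
theorem fix_lt {K : Subgroup G} (hK : Pc r W E K) {e : G} (he : e ∈ E) (h : ⁅x, e⁆ ∉ K) :
    piece W E K ⊓ Subgroup.centralizer {x} < piece W E K := by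
  refine lt_of_le_of_ne inf_le_left fun heq => hK.2 ((Subgroup.eq_bot_iff_forall _).2 fun v hv => ?_)
  have hcx : ∀ w ∈ piece W E K, Commute x w := fun w hw => by
    rw [← heq] at hw
    exact (Subgroup.mem_centralizer_singleton_iff.1 (Subgroup.mem_inf.1 hw).2).symm
  refine (d.pieces hab).fpf hK.1 (comm_mem_right d.xE he) h hv ?_
  have heU : e⁻¹ ∈ Subgroup.normalizer (piece W E K : Set G) := inv_mem (mem_normalizer_of_cj_le (by
    rw [cj_piece, cj_eq_self (d.hEW he), cj_eq_self_of_mem he, cj_eq_self (d.normE hK.1.1 hab he)]))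
  have hmem := nrm heU hv
  rw [inv_inv] at hmem
  have h1 : x⁻¹ * v * x = v := by
    rw [mul_assoc, ← (hcx v hv).eq, inv_mul_cancel_left]
  have h2 : x * (e⁻¹ * v * e) * x⁻¹ = e⁻¹ * v * e := mul_inv_eq_iff_eq_mul.2 (hcx _ hmem).eq
  calc ⁅x, e⁆ * v = x * e * x⁻¹ * (e⁻¹ * v * e) * e⁻¹ := by rw [commutatorElement_def]; group
    _ = x * e * (x⁻¹ * (e⁻¹ * v * e) * x) * x⁻¹ * e⁻¹ := by group
    _ = x * e * (e⁻¹ * v * e) * x⁻¹ * e⁻¹ := by
        rw [show x⁻¹ * (e⁻¹ * v * e) * x = e⁻¹ * v * e by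
          rw [mul_assoc, ← (hcx _ hmem).eq, inv_mul_cancel_left]]
    _ = (x * v * x⁻¹) * (x * e * x⁻¹ * e⁻¹) := by group
    _ = v * ⁅x, e⁆ := by rw [mul_inv_eq_iff_eq_mul.2 (hcx v hv).eq, commutatorElement_def]

theorem outside {K : Subgroup G} (hK : Pc r W E K) : ∃ z ∈ E, z ∉ K := by
  by_contra hno
  push Not at hno
  have := Subgroup.card_le_of_le (show E ≤ K from hno)
  rw [hK.1.2] at this
  exact absurd this (not_le.2 (lt_mul_of_one_lt_left Nat.card_pos d.hr.one_lt))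

theorem card_piece {K : Subgroup G} (hK : Pc r W E K) :
    ∃ n, Nat.card (piece W E K) = q ^ (n + 1) ∧ q ^ (n + 1) ≡ 1 [MOD r] := by
  haveI := Fact.mk d.qprime
  obtain ⟨n, hn⟩ := IsPGroup.iff_card.1
    ((Local.elemAb_isPGroup d.hW).to_le ((d.pieces hab).piece_le K))
  rcases n with _ | n
  · exact absurd (Subgroup.card_eq_one.1 (by simpa using hn)) hK.2
  obtain ⟨z, hz, hzK⟩ := d.outside hab hK
  have h := card_fixed_modEq d.hr ((d.elementary hab).2 z hz) (V := piece W E K)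
    (mem_normalizer_of_cj_le (by
      rw [cj_piece, cj_eq_self (d.hEW hz), cj_eq_self_of_mem hz, cj_eq_self (d.normE hK.1.1 hab hz)]))
  rw [show piece W E K ⊓ Subgroup.centralizer {z} = ⊥ from (Subgroup.eq_bot_iff_forall _).2 fun v hv =>
    (d.pieces hab).fpf hK.1 hz hzK (Subgroup.mem_inf.1 hv).1
      (Subgroup.mem_centralizer_singleton_iff.1 (Subgroup.mem_inf.1 hv).2).symm,
    Subgroup.card_bot, hn] at h
  exact ⟨n, hn, h⟩

theorem piece_inf {K L : Subgroup G} (hK : Pc r W E K) (hL : Pc r W E L) (hne : K ≠ L) :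
    piece W E K ⊓ piece W E L = ⊥ := by
  have h := (d.pieces hab).indep {L} K hK.1 (by simpa using hL.1) (by simpa using hne)
  simpa using h

/-- A piece moved by `x`. -/
theorem moved_size {K : Subgroup G} (hK : Pc r W E K) (hmv : cj K x ≠ K) :
    piece W E K ⊓ Subgroup.centralizer {x} = ⊥ ∧ cj (cj K x) x ≠ cj K x ∧
      Nat.card (piece W E K) = (if q = 2 then 4 else 3) ∧ ¬ p ∣ r - 1 ∧
      (q = 2 ∧ cj (cj K x) x = K ∨ q = 3 ∧ cj (cj K x) x ≠ K ∧ cj (cj (cj K x) x) x = K) := by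
  classical
  obtain ⟨hK', hU'⟩ := hK.cj d.xW d.xE
  have hfix : piece W E K ⊓ Subgroup.centralizer {x} = ⊥ := by
    refine eq_bot_iff.2 fun v hv => ?_
    obtain ⟨hv1, hv2⟩ := Subgroup.mem_inf.1 hv
    rw [← d.piece_inf hab hK hK' hmv.symm]
    refine Subgroup.mem_inf.2 ⟨hv1, ?_⟩
    rw [hU']
    have := conj_mem_cj (g := x) hv1
    rwa [← Subgroup.mem_centralizer_singleton_iff.1 hv2, mul_inv_cancel_right] at this
  have hmv2 : cj (cj K x) x ≠ cj K x := fun h => hmv (by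
    have h' := congrArg (fun L => cj L x⁻¹) h
    simp only [Fusion.cj_cj_inv] at h'
    exact h')
  obtain ⟨n, hn, hmod⟩ := d.card_piece hab hK
  have hp2 : p ≠ 2 := fun h => by
    have := d.q_lt_p; have := d.qprime.two_le; omega
  refine ⟨hfix, hmv2, ?_⟩
  rcases d.hq with ⟨hq, -⟩ | ⟨hq, hp5⟩ <;> subst hq
  · have hb := d.budget ((d.pieces hab).piece_le K)
    rw [hfix, Subgroup.card_bot, hn] at hb
    have hn1 : n = 1 := by
      rcases n with _ | _ | n
      · exfalso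
        have := (Nat.modEq_iff_dvd' (by norm_num)).1 hmod.symm
        exact d.hr.one_lt.ne' (Nat.dvd_one.1 (by simpa using this))
      · rfl
      · exfalso
        have : 2 ^ 3 ≤ 2 ^ (n + 1 + 1 + 1) := Nat.pow_le_pow_right (by norm_num) (by omega)
        omega
    subst hn1
    have hr3 : r = 3 := (Nat.prime_dvd_prime_iff_eq d.hr Nat.prime_three).1
      (by simpa using (Nat.modEq_iff_dvd' (by norm_num)).1 hmod.symm)
    refine ⟨by rw [hn]; rfl, ?_, Or.inl ⟨rfl, by rw [cj_cj, ← pow_two, d.hxq, cj_one]⟩⟩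
    rw [hr3]
    exact fun h => hp2 ((Nat.prime_dvd_prime_iff_eq d.hp Nat.prime_two).1 h)
  · obtain ⟨hK'', hU''⟩ := hK'.cj d.xW d.xE
    have h3 : cj (cj (cj K x) x) x = K := by
      rw [cj_cj, cj_cj, ← pow_two, ← pow_succ, d.hxq, cj_one]
    have hne2 : cj (cj K x) x ≠ K := fun h => hmv ((congrArg (fun L => cj L x) h).symm.trans h3)
    have hP := (d.pieces hab)
    have hV := d.budget (sup_le (hP.piece_le (cj K x)) (hP.piece_le K))
    have hpeel := peel d.Wcomm (hP.piece_le (cj K x)) (hP.piece_le K) (x := x) (eq_bot_iff.2 (by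
      rw [← hU'', ← hU', ← hP.indep {cj K x, K} (cj (cj K x) x) hK''.1
        (by simp [hK'.1, hK.1]) (by simp [hmv2, hne2])]
      exact inf_le_inf_left _ (sup_le (sup_le (piece_le_iSup (by simp)) (piece_le_iSup (by simp)))
        (piece_le_iSup (by simp)))))
    rw [card_sup_of_inf_bot d.Wcomm (hP.piece_le _) (hP.piece_le _) (d.piece_inf hab hK' hK hmv),
      le_bot_iff.1 (hpeel.trans hfix.le), Subgroup.card_bot, hU', card_cj, hn] at hV
    have hn0 : n = 0 := by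
      by_contra h0
      have : 3 ^ 2 ≤ 3 ^ (n + 1) := Nat.pow_le_pow_right (by norm_num) (by omega)
      nlinarith
    subst hn0
    have hr2 : r = 2 := (Nat.prime_dvd_prime_iff_eq d.hr Nat.prime_two).1
      (by simpa using (Nat.modEq_iff_dvd' (by norm_num)).1 hmod.symm)
    refine ⟨by rw [hn]; rfl, ?_, Or.inr ⟨rfl, hne2, h3⟩⟩
    rw [hr2]
    exact fun h => d.hp.one_lt.ne' (Nat.dvd_one.1 h)

/-- A moved piece is the only one, up to `x`, on which the element acts. -/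
theorem moved_unique {K : Subgroup G} (hK : Pc r W E K) (hmv : cj K x ≠ K) {L : Subgroup G}
    (hL : Pc r W E L) {e : G} (he : e ∈ E) (heL : ⁅x, e⁆ ∉ L) :
    L = K ∨ L = cj K x ∨ L = cj (cj K x) x := by
  classical
  haveI := Fact.mk d.qprime
  by_contra hno
  push Not at hno
  obtain ⟨hne1, hne2, hne3⟩ := hno
  obtain ⟨hfix, hmv2, hsz, -, hor⟩ := d.moved_size hab hK hmv
  have hP := d.pieces hab
  obtain ⟨hK', hU'⟩ := hK.cj d.xW d.xE
  obtain ⟨hK'', hU''⟩ := hK'.cj d.xW d.xE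
  obtain ⟨hL', hUL⟩ := hL.cj d.xW d.xE
  have hlt := mul_card_le_of_lt' ((Local.elemAb_isPGroup d.hW).to_le (hP.piece_le L))
    (d.fix_lt hab hL he heL)
  have hinj : ∀ {M M' : Subgroup G}, cj M x = cj M' x → M = M' := fun {M M'} h => by
    have h' := congrArg (fun L => cj L x⁻¹) h
    simp only [Fusion.cj_cj_inv] at h'
    exact h'
  have hL1 : cj L x ≠ cj K x := fun h => hne1 (hinj h)
  have hpos : 0 < Nat.card ↥(piece W E L ⊓ Subgroup.centralizer {x}) := Nat.card_pos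
  rcases hor with ⟨hq, -⟩ | ⟨hq, h2K, h3⟩ <;> subst hq
  · have hp1 := peel d.Wcomm (hP.piece_le K) (hP.piece_le L) (x := x) (eq_bot_iff.2 (by
      rw [← hU', ← hUL, ← hP.indep {cj L x, L, K} (cj K x) hK'.1 (by simp [hL'.1, hL.1, hK.1])
        (by simp [hmv, hL1.symm, Ne.symm hne2])]
      exact inf_le_inf_left _ (sup_le (sup_le (piece_le_iSup (by simp)) (piece_le_iSup (by simp)))
        (piece_le_iSup (by simp)))))
    have hV := (d.budget (sup_le (hP.piece_le K) (hP.piece_le L))).trans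
      (Nat.mul_le_mul_left _ (Subgroup.card_le_of_le hp1))
    rw [card_sup_of_inf_bot d.Wcomm (hP.piece_le _) (hP.piece_le _)
      (d.piece_inf hab hK hL (Ne.symm hne1)), hsz] at hV
    simp only [if_pos] at hV
    omega
  · have hR : piece W E K ⊔ piece W E L ≤ W := sup_le (hP.piece_le K) (hP.piece_le L)
    have hne4 : cj (cj K x) x ≠ cj L x := fun h => hne2 (hinj h).symm
    have hp1 := peel d.Wcomm (hP.piece_le (cj K x)) hR (x := x) (eq_bot_iff.2 (by
      rw [cj_sup, ← hU'', ← hU', ← hUL,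
        ← hP.indep {cj K x, cj L x, L, K} (cj (cj K x) x) hK''.1 (by simp [hK'.1, hL'.1, hL.1, hK.1])
          (by simp [hmv2, h2K, Ne.symm hne3, hne4])]
      exact inf_le_inf_left _ (sup_le (sup_le (sup_le (piece_le_iSup (by simp)) (piece_le_iSup (by simp)))
        (sup_le (piece_le_iSup (by simp)) (piece_le_iSup (by simp)))) (piece_le_iSup (by simp)))))
    have hp2 := peel d.Wcomm (hP.piece_le K) (hP.piece_le L) (x := x) (eq_bot_iff.2 (by
      rw [← hU', ← hUL, ← hP.indep {cj L x, L, K} (cj K x) hK'.1 (by simp [hL'.1, hL.1, hK.1])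
        (by simp [hmv, hL1.symm, Ne.symm hne2])]
      exact inf_le_inf_left _ (sup_le (sup_le (piece_le_iSup (by simp)) (piece_le_iSup (by simp)))
        (piece_le_iSup (by simp)))))
    have hdis : piece W E (cj K x) ⊓ (piece W E K ⊔ piece W E L) = ⊥ := by
      have h := hP.indep {K, L} (cj K x) hK'.1 (by simp [hK.1, hL.1]) (by simp [hmv, Ne.symm hne2])
      rwa [Finset.iSup_insert, Finset.iSup_singleton] at h
    have hV := (d.budget (sup_le (hP.piece_le (cj K x)) hR)).trans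
      (Nat.mul_le_mul_left _ (Subgroup.card_le_of_le (hp1.trans hp2)))
    rw [card_sup_of_inf_bot d.Wcomm (hP.piece_le _) hR hdis, card_sup_of_inf_bot d.Wcomm
      (hP.piece_le _) (hP.piece_le _) (d.piece_inf hab hK hL (Ne.symm hne1)), hU', card_cj, hsz] at hV
    simp only [show (3 : ℕ) ≠ 2 by norm_num, if_false] at hV
    omega

theorem abelian_moved {K : Subgroup G} (hK : Pc r W E K) (hmv : cj K x ≠ K) {e₀ : G} (he₀ : e₀ ∈ E)
    (hu : ⁅x, ⁅x, e₀⁆⁆ ∉ K) : False := by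
  haveI := Fact.mk d.qprime
  obtain ⟨-, hmv2, -, hpr, hor⟩ := d.moved_size hab hK hmv
  obtain ⟨K', hK'd⟩ : ∃ K', K' = cj K x := ⟨_, rfl⟩
  obtain ⟨K'', hK''d⟩ : ∃ K'', K'' = cj K' x := ⟨_, rfl⟩
  let O : Set (Subgroup G) := {K, K', K''}
  have hK' : Pc r W E K' := hK'd ▸ (hK.cj d.xW d.xE).1
  have hK'' : Pc r W E K'' := hK''d ▸ (hK'.cj d.xW d.xE).1
  have hOp : ∀ L ∈ O, Pc r W E L := by
    rintro L (rfl | rfl | rfl)
    exacts [hK, hK', hK'']
  have hxO : ∀ L ∈ O, cj L x ∈ O := by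
    rintro L (rfl | rfl | rfl)
    · exact Or.inr (Or.inl hK'd.symm)
    · exact Or.inr (Or.inr hK''d.symm)
    · rcases hor with ⟨-, h⟩ | ⟨-, -, h⟩
      · rw [hK''d, hK'd, h]; exact Or.inr (Or.inl hK'd.symm)
      · rw [hK''d, hK'd, h]; exact Or.inl rfl
  have hOc : O.ncard = q := by
    rcases hor with ⟨hq, h⟩ | ⟨hq, h, -⟩
    · have : O = {K, K'} := by
        show ({K, K', K''} : Set (Subgroup G)) = _
        rw [show K'' = K by rw [hK''d, hK'd, h]]
        ext L; simp; tauto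
      rw [this, hq, Set.ncard_pair (by rw [hK'd]; exact hmv.symm)]
    · rw [hq, show O = {K, K', K''} from rfl, Set.ncard_eq_three]
      exact ⟨K, K', K'', by rw [hK'd]; exact hmv.symm, by rw [hK''d, hK'd]; exact h.symm,
        by rw [hK''d, hK'd]; exact hmv2.symm, rfl⟩
  have hout : ∀ L, Pc r W E L → L ∉ O → ∀ e ∈ E, ⁅x, e⁆ ∈ L := fun L hL hLO e he => by
    by_contra hne
    rcases d.moved_unique hab hK hmv hL he hne with h | h | h
    exacts [hLO (Or.inl h), hLO (Or.inr (Or.inl (h.trans hK'd.symm))),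
      hLO (Or.inr (Or.inr (h.trans (by rw [hK''d, hK'd]))))]
  have hout' : ∀ L, Pc r W E L → L ∉ O → cj L x = L := fun L hL hLO => cj_eq_of_cj_le (by
    rintro _ ⟨e, he, rfl⟩
    show x * e * x⁻¹ ∈ L
    rw [show x * e * x⁻¹ = ⁅x, e⁆ * e by rw [commutatorElement_def]; group]
    exact mul_mem (hout L hL hLO e (hL.1.1 he)) he)
  have horb : ∀ M ∈ O, ∀ L ∈ O, ∃ i : ℕ, cj M (x ^ i) = L := by
    have hcyc : ∀ M ∈ O, M = K ∨ cj M x = K ∨ cj (cj M x) x = K := by
      rintro M (rfl | rfl | rfl)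
      · exact Or.inl rfl
      · rcases hor with ⟨-, h⟩ | ⟨-, -, h⟩
        · exact Or.inr (Or.inl (by rw [hK'd, h]))
        · exact Or.inr (Or.inr (by rw [hK'd, h]))
      · rcases hor with ⟨-, h⟩ | ⟨-, -, h⟩
        · exact Or.inl (by rw [hK''d, hK'd, h])
        · exact Or.inr (Or.inl (by rw [hK''d, hK'd, h]))
    intro M hM L hL
    obtain ⟨j, hj⟩ : ∃ j : ℕ, cj M (x ^ j) = K := by
      rcases hcyc M hM with h | h | h
      · exact ⟨0, by rw [pow_zero, cj_one, h]⟩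
      · exact ⟨1, by rw [pow_one, h]⟩
      · exact ⟨2, by rw [pow_two, ← cj_cj, h]⟩
    rcases hL with rfl | rfl | rfl
    · exact ⟨j, hj⟩
    · exact ⟨j + 1, by rw [pow_succ', ← cj_cj, hj, hK'd]⟩
    · exact ⟨j + 1 + 1, by rw [pow_succ', ← cj_cj, pow_succ', ← cj_cj, hj, ← hK'd, hK''d]⟩
  have hdis : ∀ a ∈ A, ∀ L ∈ O, cj L a ∈ O → ∀ M ∈ O, cj M a = M := by
    intro a ha L hL hLa
    obtain ⟨y, hy⟩ : ∃ y, y = a * x * a⁻¹ := ⟨_, rfl⟩
    have hyP : y ∈ P := hy ▸ nrm (d.hAP ha) d.hx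
    have hc : ∀ (M : Subgroup G) (i : ℕ), cj (cj M a) (y ^ i) = cj (cj M (x ^ i)) a := fun M i => by
      rw [cj_cj, cj_cj, hy, conj_pow]; congr 1; group
    have hinj : Function.Injective (fun M : Subgroup G => cj M a) := fun M M' h => by
      have h' := congrArg (fun L => cj L a⁻¹) h
      simp only [Fusion.cj_cj_inv] at h'
      exact h'
    have heq : (fun M => cj M a) '' O = O := by
      refine moved_eq d.hP d.hx hyP (Pc r W E) (fun h hh M hM => (hM.cj (d.hPW hh) (d.hPE hh)).1)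
        hOp ?_ hxO ?_ hout' ?_ hOc ?_ hLa ⟨L, hL, rfl⟩ (horb _ hLa) ?_
      · rintro _ ⟨M, hM, rfl⟩
        exact ((hOp M hM).cj (d.hAW ha) (d.hAE ha)).1
      · rintro _ ⟨M, hM, rfl⟩
        refine ⟨cj M x, hxO M hM, ?_⟩
        simpa using (hc M 1).symm
      · intro M hM hMO
        have hM' : Pc r W E (cj M a⁻¹) := (hM.cj (inv_mem (d.hAW ha)) (inv_mem (d.hAE ha))).1
        have h := hout' _ hM' fun h => hMO ⟨_, h, cj_inv_cj M a⟩
        have h2 := hc (cj M a⁻¹) 1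
        rwa [pow_one, pow_one, h, cj_inv_cj] at h2
      · rw [Set.ncard_image_of_injective _ hinj, hOc]
      · rintro _ ⟨M, hM, rfl⟩
        obtain ⟨i, hi⟩ := horb L hL M hM
        exact ⟨i, by rw [hc, hi]⟩
    exact fix_of_small d.hp (d.hA.2 a ha) (fun M hM => heq ▸ Set.mem_image_of_mem _ hM)
      (hOc ▸ d.q_lt_p)
  obtain ⟨Km, hKm⟩ : ∃ Km, Km = cj K x⁻¹ := ⟨_, rfl⟩
  have hKmO : Km ∈ O := by
    rw [hKm]
    rcases hor with ⟨-, h⟩ | ⟨-, -, h⟩
    · exact Or.inr (Or.inl (by rw [hK'd]; conv_lhs => rw [← h, Fusion.cj_cj_inv]))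
    · exact Or.inr (Or.inr (Set.mem_singleton_iff.2 (by rw [hK''d, hK'd]; conv_lhs => rw [← h, Fusion.cj_cj_inv])))
  let Qs : Subgroup G :=
    { carrier := {e | e ∈ E ∧ ⁅x, e⁆ ∈ K}
      one_mem' := ⟨one_mem E, by rw [commutatorElement_one_right]; exact one_mem _⟩
      mul_mem' := fun {a b} ha hb => ⟨mul_mem ha.1 hb.1, by
        rw [comm_mul_right, hab a ha.1 _ (comm_mem_right d.xE hb.1), mul_inv_cancel_right]
        exact mul_mem ha.2 hb.2⟩
      inv_mem' := fun {a} ha => ⟨inv_mem ha.1, by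
        rw [comm_inv_right, hab _ (inv_mem ha.1) _ (inv_mem (comm_mem_right d.xE ha.1)),
          inv_mul_cancel_right]
        exact inv_mem ha.2⟩ }
  -- an element of `K` and of `x⁻¹ K x` has its commutator in `K`
  have hQ : ∀ v, v ∈ K → v ∈ Km → v ∈ Qs := fun v hv hvm => by
    refine ⟨hK.1.1 hv, ?_⟩
    rw [hKm] at hvm
    obtain ⟨f, hf, hfv⟩ := hvm
    have hfv' : x⁻¹ * f * x⁻¹⁻¹ = v := hfv
    show ⁅x, v⁆ ∈ K
    rw [commutatorElement_def]
    refine mul_mem ?_ (inv_mem hv)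
    rw [← hfv', show x * (x⁻¹ * f * x⁻¹⁻¹) * x⁻¹ = f by group]
    exact hf
  obtain ⟨u, hu'⟩ : ∃ u, u = ⁅x, e₀⁆ := ⟨_, rfl⟩
  have huE : u ∈ E := hu' ▸ comm_mem_right d.xE he₀
  refine d.key (Qs := Qs) (fun e he => (show e ∈ E ∧ _ from he).1)
    (le_normalizer_of_comm hab le_rfl fun e he => (show e ∈ E ∧ _ from he).1) ?_
    (fun e he hc => ⟨he, by rw [commutatorElement_eq_one_iff_mul_comm.2 hc]; exact one_mem _⟩) huE
    (fun h => hu (hu' ▸ (show u ∈ E ∧ _ from h).2))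
    (A₀ := A ⊓ (Subgroup.normalizer (K : Set G) ⊓ Subgroup.normalizer (Km : Set G))) inf_le_left ?_ ?_
  · refine (Subgroup.commutator_le.2 fun e he f hf => ?_)
    rw [commutatorElement_eq_one_iff_mul_comm.2 (hab e he f hf)]
    exact one_mem _
  · intro a ha
    obtain ⟨haA, haK, haKm⟩ : a ∈ A ∧ a ∈ Subgroup.normalizer (K : Set G) ∧
        a ∈ Subgroup.normalizer (Km : Set G) := by simpa [Subgroup.mem_inf] using ha
    have key : ∀ L, Pc r W E L → a ∈ Subgroup.normalizer (L : Set G) → ⁅a, u⁆ ∈ L := fun L hL haL =>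
      comm_mem_of_index_prime d.hp d.hr hpr (d.hA.2 a haA) hL.1.1 hL.1.2 (d.hAE haA) haL
        (d.normE hL.1.1 hab) d.coprime_pE huE
    exact hQ _ (key K hK haK) (key Km (hOp Km hKmO) haKm)
  · intro a ha hna
    have hmove : ∀ L ∈ O, a * u * a⁻¹ ∈ L := fun L hL => by
      have hL' := ((hOp L hL).cj (inv_mem (d.hAW ha)) (inv_mem (d.hAE ha))).1
      have hnO : cj L a⁻¹ ∉ O := fun h => hna (by
        have h1 := hdis a⁻¹ (inv_mem ha) L hL h
        exact Subgroup.mem_inf.2 ⟨ha, Subgroup.mem_inf.2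
          ⟨inv_mem_iff.1 (mem_normalizer_iff_cj.2 (h1 K (Or.inl rfl))),
           inv_mem_iff.1 (mem_normalizer_iff_cj.2 (h1 Km hKmO))⟩⟩)
      have hmem := conj_mem_cj (g := a) (hu' ▸ hout _ hL' hnO e₀ he₀ : u ∈ cj L a⁻¹)
      rwa [cj_inv_cj] at hmem
    exact hQ _ (hmove K (Or.inl rfl)) (hmove Km hKmO)

theorem abelian_fixed (hfix : ∀ L, Pc r W E L → (∃ e ∈ E, ⁅x, e⁆ ∉ L) → cj L x = L)
    (hne : ∃ L, Pc r W E L ∧ ∃ e ∈ E, ⁅x, e⁆ ∉ L) : False := by
  classical
  haveI := Fact.mk d.qprime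
  have hP := d.pieces hab
  have hnx : ∀ {L}, Pc r W E L → (∃ e ∈ E, ⁅x, e⁆ ∉ L) →
      x ∈ Subgroup.normalizer (piece W E L : Set G) := fun {L} hL hS =>
    mem_normalizer_of_cj_le (by rw [cj_piece, cj_eq_self d.xW, cj_eq_self d.xE, hfix L hL hS])
  have hlt : ∀ {L}, Pc r W E L → (∃ e ∈ E, ⁅x, e⁆ ∉ L) →
      q * Nat.card ↥(piece W E L ⊓ Subgroup.centralizer {x}) ≤ Nat.card (piece W E L) :=
    fun {L} hL ⟨e, he, h⟩ => mul_card_le_of_lt' ((Local.elemAb_isPGroup d.hW).to_le (hP.piece_le L))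
      (d.fix_lt hab hL he h)
  refine d.fixed_case (Pc r W E) id (fun L hL a ha => (hL.cj (d.hAW ha) (d.hAE ha)).1) (fun L hL => hL.1.1)
    (fun L hL => d.normE hL.1.1 hab) (fun L _ => Subgroup.commutator_le.2 fun e he f hf => by
      rw [commutatorElement_eq_one_iff_mul_comm.2 (hab e he f hf)]; exact one_mem _)
    (fun L _ a _ => rfl) (fun L hL hS => mem_normalizer_iff_cj.2 (hfix L hL hS)) ?_ ?_ hne
  · intro L₁ L₂ L₃ h₁ h₂ h₃ s₁ s₂ s₃
    by_contra hno
    push Not at hno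
    obtain ⟨h12, h13, h23⟩ := hno
    have hd1 := d.piece_inf hab h₂ h₃ h23
    have hd2 : piece W E L₁ ⊓ (piece W E L₂ ⊔ piece W E L₃) = ⊥ := by
      have h := hP.indep {L₂, L₃} L₁ h₁.1 (by simp [h₂.1, h₃.1]) (by simp [h12, h13])
      rwa [Finset.iSup_insert, Finset.iSup_singleton] at h
    have hR : piece W E L₂ ⊔ piece W E L₃ ≤ W := sup_le (hP.piece_le _) (hP.piece_le _)
    have hnR : x ∈ Subgroup.normalizer (↑(piece W E L₂ ⊔ piece W E L₃) : Set G) :=
      mem_normalizer_of_cj_le (by rw [cj_sup, cj_eq_self (hnx h₂ s₂), cj_eq_self (hnx h₃ s₃)])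
    have hb := d.budget (sup_le (hP.piece_le L₁) hR)
    rw [fixed_split d.Wcomm (hP.piece_le _) hR (hnx h₁ s₁) hnR hd2,
      fixed_split d.Wcomm (hP.piece_le _) (hP.piece_le _) (hnx h₂ s₂) (hnx h₃ s₃) hd1,
      card_sup_of_inf_bot d.Wcomm (hP.piece_le _) hR hd2,
      card_sup_of_inf_bot d.Wcomm (hP.piece_le _) (hP.piece_le _) hd1,
      card_sup_of_inf_bot d.Wcomm (inf_le_left.trans (hP.piece_le _))
        (sup_le (inf_le_left.trans (hP.piece_le _)) (inf_le_left.trans (hP.piece_le _)))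
        (le_bot_iff.1 (hd2 ▸ inf_le_inf inf_le_left (sup_le_sup inf_le_left inf_le_left))),
      card_sup_of_inf_bot d.Wcomm (inf_le_left.trans (hP.piece_le _)) (inf_le_left.trans (hP.piece_le _))
        (le_bot_iff.1 (hd1 ▸ inf_le_inf inf_le_left inf_le_left))] at hb
    have hprod := Nat.mul_le_mul (hlt h₁ s₁) (Nat.mul_le_mul (hlt h₂ s₂) (hlt h₃ s₃))
    obtain ⟨t, ht⟩ : ∃ t, t = Nat.card ↥(piece W E L₁ ⊓ Subgroup.centralizer {x}) *
      (Nat.card ↥(piece W E L₂ ⊓ Subgroup.centralizer {x}) *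
        Nat.card ↥(piece W E L₃ ⊓ Subgroup.centralizer {x})) := ⟨_, rfl⟩
    have h0 : 0 < q ^ 2 * t := Nat.mul_pos (pow_pos d.qprime.pos 2)
      (ht ▸ Nat.mul_pos Nat.card_pos (Nat.mul_pos Nat.card_pos Nat.card_pos))
    have h2 : q * (q ^ 2 * t) ≤ q ^ 2 * t := by
      calc q * (q ^ 2 * t) = _ := by rw [ht]; ring
        _ ≤ _ := hprod
        _ ≤ q ^ 2 * t := ht ▸ hb
    exact absurd h2 (not_le.2 (lt_mul_of_one_lt_left h0 d.qprime.one_lt))
  · intro L hL hS a ha hLa f hf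
    refine comm_mem_of_index_prime d.hp d.hr ?_ (d.hA.2 a ha) hL.1.1 hL.1.2 (d.hAE ha)
      (mem_normalizer_iff_cj.2 hLa) (d.normE hL.1.1 hab) d.coprime_pE hf
    obtain ⟨e, he, heL⟩ := hS
    obtain ⟨C, hC⟩ : ∃ C, C = piece W E L ⊓ Subgroup.centralizer ({x} : Set G) := ⟨_, rfl⟩
    have hb : Nat.card (piece W E L) ≤ q ^ 2 * Nat.card C := hC ▸ d.budget (hP.piece_le L)
    have hxU := hnx hL ⟨e, he, heL⟩
    have heU : e ∈ Subgroup.normalizer (piece W E L : Set G) := mem_normalizer_of_cj_le (by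
      rw [cj_piece, cj_eq_self (d.hEW he), cj_eq_self_of_mem he, cj_eq_self (d.normE hL.1.1 hab he)])
    have hCU : C ≤ piece W E L := hC ▸ inf_le_left
    have hCe : cj C e ≤ piece W E L := (cj_mono hCU e).trans (cj_eq_self heU).le
    have hdisC : C ⊓ cj C e = ⊥ := by
      rw [Subgroup.eq_bot_iff_forall]
      intro v hv
      obtain ⟨hv1, hv2⟩ := Subgroup.mem_inf.1 hv
      obtain ⟨w, hw, rfl⟩ := hv2
      rw [hC] at hv1 hw
      refine hP.fpf hL.1 (comm_mem_right d.xE he) heL (Subgroup.mem_inf.1 hv1).1 ?_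
      have c1 : Commute (e * w * e⁻¹) x := Subgroup.mem_centralizer_singleton_iff.1 (Subgroup.mem_inf.1 hv1).2
      have c2 : Commute (e * w * e⁻¹) (e * x * e⁻¹) := by
        have c3 : Commute w x := Subgroup.mem_centralizer_singleton_iff.1 (Subgroup.mem_inf.1 hw).2
        show _ = _
        calc e * w * e⁻¹ * (e * x * e⁻¹) = e * (w * x) * e⁻¹ := by group
          _ = _ := by rw [c3.eq]; group
      have hcomm : Commute (e * w * e⁻¹) ⁅x, e⁆ := by
        rw [show ⁅x, e⁆ = x * (e * x * e⁻¹)⁻¹ by rw [commutatorElement_def]; group]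
        exact c1.mul_right c2.inv_right
      exact hcomm.symm.eq
    have hsq : Nat.card C * Nat.card C ≤ Nat.card (piece W E L) := by
      have h := card_sup_of_inf_bot d.Wcomm (hCU.trans (hP.piece_le L)) (hCe.trans (hP.piece_le L)) hdisC
      rw [card_cj] at h
      exact h ▸ Subgroup.card_le_of_le (sup_le hCU hCe)
    obtain ⟨n, hn, hmod⟩ := d.card_piece hab hL
    rw [hn] at hb hsq
    have hC4 : Nat.card C ≤ q ^ 2 := Nat.le_of_mul_le_mul_right (hsq.trans hb) Nat.card_pos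
    have hn4 : q ^ (n + 1) ≤ q ^ 4 :=
      hb.trans ((Nat.mul_le_mul_left _ hC4).trans (le_of_eq (by ring)))
    have hn3 : n ≤ 3 := by
      have := (Nat.pow_le_pow_iff_right d.qprime.one_lt).1 hn4
      omega
    have hdvd := (Nat.modEq_iff_dvd' (Nat.one_le_pow _ _ d.qprime.pos)).1 hmod.symm
    intro hpr
    rcases d.hq with ⟨hq, hp2⟩ | ⟨hq, hp5⟩ <;> subst hq
    · have h2 : Nat.card (piece W E L) ≤ Nat.card C ^ 2 := by
        rw [hC]
        refine Local.card_le_sq_card_fixed (Local.elemAb_mono d.hW (hP.piece_le L))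
          (fun v hv => nrm hxU hv) fun v _ => ?_
        rw [d.hxq, one_mul, mul_one]
      rw [hn] at h2
      have heq : Nat.card C * Nat.card C = 2 ^ (n + 1) := le_antisymm hsq (h2.trans_eq (pow_two _))
      have hr : r = 3 ∨ r = 5 := by
        interval_cases n
        · exact absurd (Nat.dvd_one.1 (by simpa using hdvd)) d.hr.one_lt.ne'
        · exact Or.inl ((Nat.prime_dvd_prime_iff_eq d.hr Nat.prime_three).1 (by simpa using hdvd))
        · exfalso
          have : Nat.card C ≤ 2 := by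
            by_contra h
            have := Nat.mul_le_mul (not_le.1 h) (not_le.1 h)
            norm_num at heq this
            omega
          interval_cases (Nat.card C) <;> omega
        · rcases d.hr.dvd_mul.1 (show r ∣ 3 * 5 by simpa using hdvd) with h | h
          · exact Or.inl ((Nat.prime_dvd_prime_iff_eq d.hr Nat.prime_three).1 h)
          · exact Or.inr ((Nat.prime_dvd_prime_iff_eq d.hr (by norm_num)).1 h)
      rcases hr with rfl | rfl
      · exact hp2 ((Nat.prime_dvd_prime_iff_eq d.hp Nat.prime_two).1 hpr)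
      · exact hp2 ((Nat.prime_dvd_prime_iff_eq d.hp Nat.prime_two).1
          (d.hp.dvd_of_dvd_pow (show p ∣ 2 ^ 2 by simpa using hpr)))
    · have h12 : r - 1 ∣ 12 ∨ r - 1 ∣ 4 := by
        have hr : r = 2 ∨ r = 5 ∨ r = 13 := by
          have key : ∀ {m}, m.Prime → r ∣ m → r = m := fun hm h =>
            (Nat.prime_dvd_prime_iff_eq d.hr hm).1 h
          interval_cases n
          · exact Or.inl (key Nat.prime_two (by simpa using hdvd))
          · exact Or.inl (key Nat.prime_two (d.hr.dvd_of_dvd_pow (show r ∣ 2 ^ 3 by simpa using hdvd)))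
          · rcases d.hr.dvd_mul.1 (show r ∣ 2 * 13 by simpa using hdvd) with h | h
            · exact Or.inl (key Nat.prime_two h)
            · exact Or.inr (Or.inr (key (by norm_num) h))
          · rcases d.hr.dvd_mul.1 (show r ∣ 2 ^ 4 * 5 by simpa using hdvd) with h | h
            · exact Or.inl (key Nat.prime_two (d.hr.dvd_of_dvd_pow h))
            · exact Or.inr (Or.inl (key (by norm_num) h))
        rcases hr with rfl | rfl | rfl <;> norm_num
      have hp12 : p ∣ 12 := by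
        rcases h12 with h | h
        · exact hpr.trans h
        · exact (hpr.trans h).trans (by norm_num)
      rcases d.hp.dvd_mul.1 (show p ∣ 2 ^ 2 * 3 by simpa using hp12) with h | h
      · have := Nat.le_of_dvd (by norm_num) (d.hp.dvd_of_dvd_pow h); omega
      · have := Nat.le_of_dvd (by norm_num) h; omega

theorem abelian_false : False := by
  obtain ⟨e, he, hxe⟩ := d.hne
  obtain ⟨K, hK, hzK, hKb⟩ := (d.pieces hab).exists_piece (comm_mem_right d.xE (comm_mem_right d.xE he))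
    fun h => hxe (d.comm_eq_one he h)
  by_cases hmv : cj K x = K
  · by_cases hall : ∀ L, Pc r W E L → (∃ f ∈ E, ⁅x, f⁆ ∉ L) → cj L x = L
    · exact d.abelian_fixed hab hall ⟨K, ⟨hK, hKb⟩, ⁅x, e⁆, comm_mem_right d.xE he, hzK⟩
    push Not at hall
    obtain ⟨L, hL, -, hLx⟩ := hall
    have h2 := (d.moved_size hab hL hLx).2.2.2.2
    rcases d.moved_unique hab hL hLx (L := K) ⟨hK, hKb⟩ (comm_mem_right d.xE he) hzK with h | h | h
    · exact hLx (h ▸ hmv)
    · rw [h] at hmv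
      exact (d.moved_size hab hL hLx).2.1 hmv
    · rw [h] at hmv
      rcases h2 with ⟨-, h3⟩ | ⟨-, h3, h4⟩
      · rw [h3] at hmv; exact hLx hmv
      · rw [h4] at hmv; exact h3 hmv.symm
  · exact d.abelian_moved hab ⟨hK, hKb⟩ hmv he hzK

end NT

end Cfsg.Agent.SSF
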