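import Cfsg.Agent.Lib.SSF.NoTwoSetup

/-!
Counting tools for the configuration: the index budget, congruences, and the averaging argument
over the abelian group `A`.
-/

set_option autoImplicit false
set_option linter.style.haveILetI false

open Cfsg Cfsg.Agent Cfsg.Agent.Fusion
open scoped commutatorElement Pointwise

namespace Cfsg.Agent.SSF

universe u

variable {G : Type u} [Group G] [Finite G]

/-- A proper subgroup of a group of prime power order has index at least the prime. -/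
theorem mul_card_le_of_lt' {q : ℕ} [Fact q.Prime] {K L : Subgroup G} (hL : IsPGroup q L) (h : K < L) :
    q * Nat.card K ≤ Nat.card L := by
  obtain ⟨k, hk⟩ := hL.index (K.subgroupOf L)
  have h2 : K.relIndex L = q ^ k := hk
  have hk0 : k ≠ 0 := by
    rintro rfl
    exact h.not_ge (Subgroup.relIndex_eq_one.1 (h2.trans (pow_zero q)))
  rw [← card_mul_relIndex_of_le h.le, h2, mul_comm (Nat.card K)]
  exact Nat.mul_le_mul_right _ (Nat.le_self_pow hk0 q)

omit [Finite G] in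
theorem le_normalizer_of_comm {W U V : Subgroup G} (hW : ∀ a ∈ W, ∀ b ∈ W, a * b = b * a) (hU : U ≤ W)
    (hV : V ≤ W) : U ≤ Subgroup.normalizer (V : Set G) := fun a ha =>
  Subgroup.centralizer_le_normalizer _ (Subgroup.mem_centralizer_iff.2 fun b hb => hW b (hV hb) a (hU ha))

theorem card_sup_of_inf_bot {W U V : Subgroup G} (hW : ∀ a ∈ W, ∀ b ∈ W, a * b = b * a) (hU : U ≤ W)
    (hV : V ≤ W) (h : U ⊓ V = ⊥) : Nat.card ↥(U ⊔ V) = Nat.card U * Nat.card V := by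
  rw [← Solv.card_sup_mul_card_inf' U V (le_normalizer_of_comm hW hV hU), h, Subgroup.card_bot, mul_one]

/-- A fixed element of `U R` lies in `R` when the image of `U` is independent. -/
theorem peel {W U R : Subgroup G} (hW : ∀ a ∈ W, ∀ b ∈ W, a * b = b * a) (hU : U ≤ W) (hR : R ≤ W)
    {x : G} (h : cj U x ⊓ (cj R x ⊔ R ⊔ U) = ⊥) :
    (U ⊔ R) ⊓ Subgroup.centralizer {x} ≤ R ⊓ Subgroup.centralizer {x} := by
  intro v hv
  obtain ⟨hv1, hv2⟩ := Subgroup.mem_inf.1 hv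
  have hv' : v ∈ ((U ⊔ R : Subgroup G) : Set G) := hv1
  rw [Subgroup.coe_mul_of_right_le_normalizer_left U R (le_normalizer_of_comm hW hR hU)] at hv'
  obtain ⟨u, hu, w, hw, rfl⟩ := hv'
  have hc : x * (u * w) * x⁻¹ = u * w :=
    mul_inv_eq_iff_eq_mul.2 (Subgroup.mem_centralizer_singleton_iff.1 hv2).symm
  have h1 : x * u * x⁻¹ = u * w * (x * w * x⁻¹)⁻¹ := by
    calc x * u * x⁻¹ = x * (u * w) * x⁻¹ * (x * w * x⁻¹)⁻¹ := by group
      _ = _ := by rw [hc]
  have h2 : x * u * x⁻¹ = 1 := Subgroup.mem_bot.1 (h ▸ Subgroup.mem_inf.2 ⟨conj_mem_cj hu, h1 ▸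
    mul_mem (mul_mem (Subgroup.mem_sup_right hu) (Subgroup.mem_sup_left (Subgroup.mem_sup_right hw)))
      (inv_mem (Subgroup.mem_sup_left (Subgroup.mem_sup_left (conj_mem_cj hw))))⟩)
  rw [show u = 1 from conj_eq_one_iff.1 h2] at hv2 ⊢
  simp only [one_mul] at hv2 ⊢
  exact Subgroup.mem_inf.2 ⟨hw, hv2⟩

/-- Fixed points of a product of two independent invariant subgroups. -/
theorem fixed_split {W U R : Subgroup G} (hW : ∀ a ∈ W, ∀ b ∈ W, a * b = b * a) (hU : U ≤ W) (hR : R ≤ W)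
    {x : G} (hxU : x ∈ Subgroup.normalizer (U : Set G)) (hxR : x ∈ Subgroup.normalizer (R : Set G))
    (h : U ⊓ R = ⊥) :
    (U ⊔ R) ⊓ Subgroup.centralizer {x} =
      (U ⊓ Subgroup.centralizer {x}) ⊔ (R ⊓ Subgroup.centralizer {x}) := by
  refine le_antisymm (fun v hv => ?_) (sup_le (inf_le_inf_right _ le_sup_left) (inf_le_inf_right _ le_sup_right))
  obtain ⟨hv1, hv2⟩ := Subgroup.mem_inf.1 hv
  have hv' : v ∈ ((U ⊔ R : Subgroup G) : Set G) := hv1
  rw [Subgroup.coe_mul_of_right_le_normalizer_left U R (le_normalizer_of_comm hW hR hU)] at hv'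
  obtain ⟨u, hu, w, hw, rfl⟩ := hv'
  have hc : x * (u * w) * x⁻¹ = u * w :=
    mul_inv_eq_iff_eq_mul.2 (Subgroup.mem_centralizer_singleton_iff.1 hv2).symm
  have h1 : u⁻¹ * (x * u * x⁻¹) = w * (x * w * x⁻¹)⁻¹ := by
    calc u⁻¹ * (x * u * x⁻¹) = u⁻¹ * (x * (u * w) * x⁻¹) * (x * w * x⁻¹)⁻¹ := by group
      _ = _ := by rw [hc]; group
  have h2 : u⁻¹ * (x * u * x⁻¹) = 1 := Subgroup.mem_bot.1 (h ▸ Subgroup.mem_inf.2
    ⟨mul_mem (inv_mem hu) (nrm hxU hu), h1 ▸ mul_mem hw (inv_mem (nrm hxR hw))⟩)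
  have hxu : x * u * x⁻¹ = u := (inv_mul_eq_one.1 h2).symm
  have h3 : w * (x * w * x⁻¹)⁻¹ = 1 := h1 ▸ h2
  refine mul_mem (Subgroup.mem_sup_left (Subgroup.mem_inf.2 ⟨hu, ?_⟩))
    (Subgroup.mem_sup_right (Subgroup.mem_inf.2 ⟨hw, ?_⟩))
  · exact Subgroup.mem_centralizer_singleton_iff.2 (mul_inv_eq_iff_eq_mul.1 hxu).symm
  · exact Subgroup.mem_centralizer_singleton_iff.2 (mul_inv_eq_iff_eq_mul.1 (mul_inv_eq_one.1 h3).symm).symm

/-- Modulo `p`, the order of `E` is that of `C_E(a) N`. -/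
theorem card_fix_sup_modEq {p : ℕ} (hp : p.Prime) {a : G} (hap : a ^ p = 1) {E N : Subgroup G}
    (hN : N ≤ E) (haE : a ∈ Subgroup.normalizer (E : Set G)) (haN : a ∈ Subgroup.normalizer (N : Set G))
    (hEN : E ≤ Subgroup.normalizer (N : Set G)) (hco : (Nat.card E).Coprime p) :
    Nat.card E ≡ Nat.card ↥(N ⊔ (E ⊓ Subgroup.centralizer {a})) [MOD p] := by
  obtain ⟨C, hC⟩ : ∃ C, C = E ⊓ Subgroup.centralizer ({a} : Set G) := ⟨_, rfl⟩
  rw [← hC]
  have h1 : Nat.card E ≡ Nat.card C [MOD p] := hC ▸ card_fixed_modEq hp hap haE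
  have h2 : Nat.card N ≡ Nat.card ↥(N ⊓ C) [MOD p] := by
    rw [hC, ← inf_assoc, inf_eq_left.2 hN]
    exact card_fixed_modEq hp hap haN
  have hsup := Solv.card_sup_mul_card_inf' N C ((hC ▸ inf_le_left : C ≤ E).trans hEN)
  refine Nat.ModEq.cancel_right_of_coprime (c := Nat.card ↥(N ⊓ C)) ?_ ?_
  · exact (hco.coprime_dvd_left (Subgroup.card_dvd_of_le (inf_le_left.trans hN))).symm
  · rw [hsup]
    calc Nat.card E * Nat.card ↥(N ⊓ C) ≡ Nat.card C * Nat.card N [MOD p] := h1.mul h2.symm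
      _ ≡ _ [MOD p] := by rw [mul_comm]

/-- An element of order `p` acts trivially on a factor of order `r` when `p ∤ r - 1`. -/
theorem comm_mem_of_index_prime {p r : ℕ} (hp : p.Prime) (hr : r.Prime) (hne : ¬ p ∣ r - 1) {a : G}
    (hap : a ^ p = 1) {E N : Subgroup G} (hN : N ≤ E) (hcard : Nat.card E = r * Nat.card N)
    (haE : a ∈ Subgroup.normalizer (E : Set G)) (haN : a ∈ Subgroup.normalizer (N : Set G))
    (hEN : E ≤ Subgroup.normalizer (N : Set G)) (hco : (Nat.card E).Coprime p) {e : G} (he : e ∈ E) :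
    ⁅a, e⁆ ∈ N := by
  obtain ⟨C, hC⟩ : ∃ C, C = E ⊓ Subgroup.centralizer ({a} : Set G) := ⟨_, rfl⟩
  have hCE : C ≤ E := hC ▸ inf_le_left
  have h := card_fix_sup_modEq hp hap hN haE haN hEN hco
  rw [← hC] at h
  obtain ⟨m, hm⟩ := Subgroup.card_dvd_of_le (le_sup_left : N ≤ N ⊔ C)
  have hd := Subgroup.card_dvd_of_le (sup_le hN hCE)
  rw [hm, hcard, mul_comm r, Nat.mul_dvd_mul_iff_left Nat.card_pos] at hd
  rcases (Nat.dvd_prime hr).1 hd with h1 | h1
  · exfalso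
    rw [hcard, hm, h1, mul_one] at h
    have h2 : r * Nat.card N ≡ 1 * Nat.card N [MOD p] := by rwa [one_mul]
    have h3 := Nat.ModEq.cancel_right_of_coprime
      ((hco.coprime_dvd_left (Subgroup.card_dvd_of_le hN)).symm) h2
    exact hne ((Nat.modEq_iff_dvd' hr.one_le).1 h3.symm)
  · have heq : N ⊔ C = E := Subgroup.eq_of_le_of_card_ge (sup_le hN hCE) (by rw [hm, h1, hcard, mul_comm])
    have he' : e ∈ ((N ⊔ C : Subgroup G) : Set G) := heq.ge he
    rw [Subgroup.coe_mul_of_right_le_normalizer_left N C (hCE.trans hEN)] at he'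
    obtain ⟨n, hn, c, hc, rfl⟩ := he'
    have hac : a * c = c * a :=
      (Subgroup.mem_centralizer_singleton_iff.1 (Subgroup.mem_inf.1 (hC ▸ hc)).2).symm
    show ⁅a, n * c⁆ ∈ N
    rw [show ⁅a, n * c⁆ = ⁅a, n⁆ from ?_]
    · exact comm_mem_right haN hn
    · calc ⁅a, n * c⁆ = ⁅a, n⁆ * (n * ⁅a, c⁆ * n⁻¹) := by simp only [commutatorElement_def]; group
        _ = _ := by
            rw [commutatorElement_eq_one_iff_mul_comm.2 hac, mul_one, mul_inv_cancel, mul_one]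

namespace NT

variable {p q r : ℕ} {W A P E : Subgroup G} {x : G} (d : NT p q r W A P E x)

include d

omit [Finite G] in
theorem Wcomm : ∀ a ∈ W, ∀ b ∈ W, a * b = b * a := fun _ ha _ hb => Local.elemAb_commute d.hW ha hb

theorem coprime_pE : (Nat.card E).Coprime p := by
  haveI := Fact.mk d.hr
  obtain ⟨k, hk⟩ := IsPGroup.iff_card.1 d.hE
  rw [hk]
  exact ((Nat.coprime_primes d.hr d.hp).2 d.hrp).pow_left k

/-- The budget: every subgroup of `W` has small index over its fixed points. -/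
theorem budget {V : Subgroup G} (hV : V ≤ W) :
    Nat.card V ≤ q ^ 2 * Nat.card ↥(V ⊓ Subgroup.centralizer {x}) := by
  obtain ⟨C, hC⟩ : ∃ C, C = W ⊓ Subgroup.centralizer ({x} : Set G) := ⟨_, rfl⟩
  have hCW : C ≤ W := hC ▸ inf_le_left
  have h1 := Solv.card_sup_mul_card_inf' V C (le_normalizer_of_comm d.Wcomm hCW hV)
  have h2 : V ⊓ C = V ⊓ Subgroup.centralizer {x} := by rw [hC, ← inf_assoc, inf_eq_left.2 hV]
  rw [h2] at h1
  refine Nat.le_of_mul_le_mul_right (?_ : _ * Nat.card C ≤ _ * Nat.card C) Nat.card_pos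
  calc Nat.card V * Nat.card C = _ := h1.symm
    _ ≤ Nat.card W * Nat.card ↥(V ⊓ Subgroup.centralizer {x}) :=
      Nat.mul_le_mul_right _ (Subgroup.card_le_of_le (sup_le hV hCW))
    _ ≤ q ^ 2 * Nat.card C * Nat.card ↥(V ⊓ Subgroup.centralizer {x}) :=
      Nat.mul_le_mul_right _ (hC ▸ d.hsmall)
    _ = _ := by ring

/-- The averaging argument. -/
theorem key {Qs : Subgroup G} (hQ : Qs ≤ E) (hEQ : E ≤ Subgroup.normalizer (Qs : Set G))
    (hcomm : ⁅E, E⁆ ≤ Qs) (hfixQ : ∀ e ∈ E, x * e = e * x → e ∈ Qs) {u : G} (hu : u ∈ E) (huQ : u ∉ Qs)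
    {A₀ : Subgroup G} (hA₀ : A₀ ≤ A) (h1 : ∀ a ∈ A₀, ⁅a, u⁆ ∈ Qs)
    (h2 : ∀ a ∈ A, a ∉ A₀ → a * u * a⁻¹ ∈ Qs) : False := by
  classical
  haveI := Fintype.ofFinite A
  haveI := Fact.mk d.hr
  haveI := Fact.mk d.hp
  have hmem : ∀ a : A, ∀ e : E, (a : G) * e * (a : G)⁻¹ ∈ E := fun a e => nrm (d.hAE a.2) e.2
  let φ : A → (E →* E) := fun a => MonoidHom.mk' (fun e => ⟨(a : G) * e * (a : G)⁻¹, hmem a e⟩)
    fun e f => Subtype.ext (by
      show (a : G) * (↑e * ↑f) * (a : G)⁻¹ = (a : G) * e * (a : G)⁻¹ * ((a : G) * f * (a : G)⁻¹)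
      group)
  let u' : E := ⟨u, hu⟩
  obtain ⟨tt, htt⟩ : ∃ z : Abelianization E, z = ∏ a : A, Abelianization.of (φ a u') := ⟨_, rfl⟩
  obtain ⟨t, ht⟩ : ∃ t : E, Abelianization.of t = tt := QuotientGroup.mk_surjective (s := commutator E) tt
  have ht' : Abelianization.of t = ∏ a : A, Abelianization.of (φ a u') := ht.trans htt
  have hcomp : ∀ a b : A, φ b (φ a u') = φ (b * a) u' := fun a b => Subtype.ext (by
    show (b : G) * ((a : G) * u * (a : G)⁻¹) * (b : G)⁻¹ =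
      ((b * a : A) : G) * u * ((b * a : A) : G)⁻¹
    rw [Subgroup.coe_mul]; group)
  have hfixed : ∀ b : A, Abelianization.of (φ b t) = Abelianization.of t := fun b => by
    rw [← Abelianization.map_of (φ b), ht', map_prod]
    simp only [Abelianization.map_of, hcomp]
    exact Fintype.prod_equiv (Equiv.mulLeft b) (fun a => Abelianization.of (φ (b * a) u')) _ fun a => rfl
  have hD : ∀ e : E, e ∈ commutator E → (e : G) ∈ ⁅E, E⁆ := fun e he => by
    have := Subgroup.mem_map_of_mem E.subtype he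
    rw [commutator_def, Subgroup.map_commutator, ← MonoidHom.range_eq_map, Subgroup.range_subtype] at this
    exact this
  have hE1 : ∀ a ∈ A, (t : G)⁻¹ * (a * t * a⁻¹) ∈ ⁅E, E⁆ := fun a ha =>
    hD (t⁻¹ * φ ⟨a, ha⟩ t) (QuotientGroup.eq.1 (hfixed ⟨a, ha⟩).symm)
  obtain ⟨c, hc, hct⟩ := Solv.exists_fixed_in_coset' A E ⁅E, E⁆ d.hAE
    (elab_coprime d.hA fun h => d.hp.one_lt.ne'
      (Nat.eq_one_of_dvd_coprimes d.coprime_pE.symm dvd_rfl h))
    (Or.inl (Group.isSolvable_of_comm fun a b => Subtype.ext (Local.elemAb_commute d.hA a.2 b.2)))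
    (Subgroup.commutator_le.2 fun e he f hf => comm_mem_right (Subgroup.le_normalizer he) hf)
    (fun a ha => mem_normalizer_of_cj_le (by rw [cj_commutator, cj_eq_self (d.hAE ha)]))
    t.2 hE1
  have hcQ : c ∈ Qs := hfixQ c (Subgroup.mem_inf.1 hc).1
    (Subgroup.mem_centralizer_singleton_iff.1 (d.hfix hc)).symm
  have htQ : (t : G) ∈ Qs := by
    have h := mul_mem hcQ (inv_mem (hcomm hct))
    rwa [mul_inv_rev, inv_inv, mul_inv_cancel_left] at h
  haveI : (Qs.subgroupOf E).Normal := (Subgroup.normal_subgroupOf_iff_le_normalizer hQ).2 hEQ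
  have hcm : ∀ a b : E ⧸ Qs.subgroupOf E, a * b = b * a := Solv.quotient_mul_comm _ fun a b =>
    hcomm (Subgroup.commutator_mem_commutator a.2 b.2)
  letI : CommGroup (E ⧸ Qs.subgroupOf E) :=
    { (inferInstance : Group (E ⧸ Qs.subgroupOf E)) with mul_comm := hcm }
  let ψ : E →* E ⧸ Qs.subgroupOf E := QuotientGroup.mk' (Qs.subgroupOf E)
  have hψ : ∀ e : E, ψ e = 1 ↔ (e : G) ∈ Qs := fun e =>
    (QuotientGroup.eq_one_iff e).trans Subgroup.mem_subgroupOf
  have hprod : ψ t = ∏ a : A, ψ (φ a u') := by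
    have h := congrArg (Abelianization.lift ψ) ht'
    simpa only [map_prod, Abelianization.lift_apply_of] using h
  have hterm : ∀ a : A, ψ (φ a u') = if (a : G) ∈ A₀ then ψ u' else 1 := fun a => by
    split_ifs with ha
    · refine mul_inv_eq_one.1 ?_
      rw [← map_inv, ← map_mul, hψ]
      show (a : G) * u * (a : G)⁻¹ * u⁻¹ ∈ Qs
      rw [← commutatorElement_def]
      exact h1 a ha
    · exact (hψ _).2 (h2 a a.2 ha)
  rw [(hψ t).2 htQ, Finset.prod_congr rfl (fun a _ => hterm a), Finset.prod_ite,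
    Finset.prod_const, Finset.prod_const_one, mul_one] at hprod
  have hcnt : (Finset.univ.filter fun a : A => (a : G) ∈ A₀).card = Nat.card A₀ := by
    rw [← Nat.card_eq_finsetCard]
    exact Nat.card_congr ⟨fun a => ⟨a.1, (Finset.mem_filter.1 a.2).2⟩,
      fun a => ⟨⟨a, hA₀ a.2⟩, Finset.mem_filter.2 ⟨Finset.mem_univ _, a.2⟩⟩, fun _ => rfl, fun _ => rfl⟩
  rw [hcnt] at hprod
  refine huQ ((hψ u').1 (orderOf_eq_one_iff.1 ?_))
  obtain ⟨i, hi⟩ := d.hE u'
  obtain ⟨j, -, hj⟩ := (Nat.dvd_prime_pow d.hp).1 ((Subgroup.card_dvd_of_le hA₀).trans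
    (IsPGroup.iff_card.1 (Local.elemAb_isPGroup d.hA)).choose_spec.dvd)
  exact Nat.eq_one_of_dvd_coprimes (((Nat.coprime_primes d.hp d.hr).2 d.hrp.symm).pow j i)
    (hj ▸ orderOf_dvd_of_pow_eq_one hprod.symm)
    ((orderOf_map_dvd ψ u').trans (orderOf_dvd_of_pow_eq_one hi))

end NT

end Cfsg.Agent.SSF
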