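import Cfsg.Agent.Lib.SSF.NoTwoBudget

/-!
The case where the element fixes every piece it acts upon.
-/

set_option autoImplicit false
set_option linter.style.haveILetI false

open Cfsg Cfsg.Agent Cfsg.Agent.Fusion
open scoped commutatorElement Pointwise

namespace Cfsg.Agent.SSF

universe u

variable {G : Type u} [Group G] [Finite G]

omit [Finite G] in
theorem comm_mul_right (x e f : G) : ⁅x, e * f⁆ = ⁅x, e⁆ * (e * ⁅x, f⁆ * e⁻¹) := by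
  simp only [commutatorElement_def]; group

omit [Finite G] in
theorem comm_inv_right (x e : G) : ⁅x, e⁻¹⁆ = e⁻¹ * ⁅x, e⁆⁻¹ * e := by
  simp only [commutatorElement_def]; group

omit [Finite G] in
/-- An element of odd order fixes what its square fixes. -/
theorem cj_eq_of_sq {K : Subgroup G} {b : G} {p : ℕ} (hp : Odd p) (hbp : b ^ p = 1)
    (h : b * b ∈ Subgroup.normalizer (K : Set G)) : b ∈ Subgroup.normalizer (K : Set G) := by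
  obtain ⟨m, hm⟩ := hp
  have hb : b = ((b * b) ^ m)⁻¹ := by
    refine eq_inv_of_mul_eq_one_left ?_
    rw [← pow_two, ← pow_mul, ← pow_succ', ← hm, hbp]
  rw [hb]
  exact inv_mem (pow_mem h m)

namespace NT

variable {p q r : ℕ} {W A P E : Subgroup G} {x : G} (d : NT p q r W A P E x)

include d

theorem fixed_case (Kp : Subgroup G → Prop) (Rad : Subgroup G → Subgroup G)
    (hKp : ∀ L, Kp L → ∀ a ∈ A, Kp (cj L a))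
    (hle : ∀ L, Kp L → Rad L ≤ E)
    (hEn : ∀ L, Kp L → E ≤ Subgroup.normalizer (Rad L : Set G))
    (hcomm : ∀ L, Kp L → ⁅E, E⁆ ≤ Rad L)
    (hcj : ∀ L, Kp L → ∀ a ∈ A, cj (Rad L) a = Rad (cj L a))
    (hxR : ∀ L, Kp L → (∃ e ∈ E, ⁅x, e⁆ ∉ Rad L) → x ∈ Subgroup.normalizer (Rad L : Set G))
    (htwo : ∀ L₁ L₂ L₃, Kp L₁ → Kp L₂ → Kp L₃ → (∃ e ∈ E, ⁅x, e⁆ ∉ Rad L₁) →
      (∃ e ∈ E, ⁅x, e⁆ ∉ Rad L₂) → (∃ e ∈ E, ⁅x, e⁆ ∉ Rad L₃) → L₁ = L₂ ∨ L₁ = L₃ ∨ L₂ = L₃)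
    (htriv : ∀ L, Kp L → (∃ e ∈ E, ⁅x, e⁆ ∉ Rad L) → ∀ a ∈ A, cj L a = L → ∀ e ∈ E, ⁅a, e⁆ ∈ Rad L)
    (hne : ∃ L, Kp L ∧ ∃ e ∈ E, ⁅x, e⁆ ∉ Rad L) : False := by
  obtain ⟨K, hK, e₀, he₀, he₀K⟩ := hne
  have hxK : x ∈ Subgroup.normalizer (Rad K : Set G) := hxR K hK ⟨e₀, he₀, he₀K⟩
  let Qs : Subgroup G :=
    { carrier := {e | e ∈ E ∧ ⁅x, e⁆ ∈ Rad K}
      one_mem' := ⟨one_mem E, by rw [commutatorElement_one_right]; exact one_mem _⟩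
      mul_mem' := fun {a b} ha hb => ⟨mul_mem ha.1 hb.1, by
        rw [comm_mul_right]; exact mul_mem ha.2 (nrm (hEn K hK ha.1) hb.2)⟩
      inv_mem' := fun {a} ha => ⟨inv_mem ha.1, by
        rw [comm_inv_right]
        have := nrm (hEn K hK (inv_mem ha.1)) (inv_mem ha.2)
        rwa [inv_inv] at this⟩ }
  have hRQ : Rad K ≤ Qs := fun e he => ⟨hle K hK he, comm_mem_right hxK he⟩
  have hQn : E ≤ Subgroup.normalizer (Qs : Set G) := fun g hg => mem_normalizer_of_cj_le (by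
    rintro _ ⟨e, he, rfl⟩
    show g * e * g⁻¹ ∈ Qs
    rw [show g * e * g⁻¹ = ⁅g, e⁆ * e by rw [commutatorElement_def]; group]
    exact mul_mem (hRQ (hcomm K hK (Subgroup.commutator_mem_commutator hg he.1))) he)
  let A₀ : Subgroup G := A ⊓ Subgroup.normalizer (K : Set G)
  have hfin : ∀ u ∈ E, u ∉ Qs → (∀ a ∈ A, a ∉ A₀ → a * u * a⁻¹ ∈ Qs) → False := fun u hu huQ h2 =>
    d.key (fun e he => (show e ∈ E ∧ ⁅x, e⁆ ∈ Rad K from he).1) hQn ((hcomm K hK).trans hRQ)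
      (fun e he hc => ⟨he, by rw [commutatorElement_eq_one_iff_mul_comm.2 hc]; exact one_mem _⟩) hu huQ
      (inf_le_left : A₀ ≤ A)
      (fun a ha => hRQ (htriv K hK ⟨e₀, he₀, he₀K⟩ a (Subgroup.mem_inf.1 ha).1
        (cj_eq_self (Subgroup.mem_inf.1 ha).2) u hu)) h2
  have hQ2 : ∀ e ∈ E, ⁅x, e⁆ ∉ Rad K → ⁅x, e⁆ ∉ Qs := fun e he h hQ =>
    h (d.comm_fixed (hle K hK) (hEn K hK) hxK he hQ.2)
  -- conjugates of an element killed on a piece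
  have hmove : ∀ a ∈ A, ∀ e : G, e ∈ Rad (cj K a⁻¹) → a * e * a⁻¹ ∈ Rad K := fun a ha e he => by
    rw [← hcj K hK a⁻¹ (inv_mem ha)] at he
    obtain ⟨f, hf, rfl⟩ := he
    show a * (a⁻¹ * f * a⁻¹⁻¹) * a⁻¹ ∈ Rad K
    rwa [show a * (a⁻¹ * f * a⁻¹⁻¹) * a⁻¹ = f by group]
  obtain ⟨u₀, hu₀⟩ : ∃ u, u = ⁅x, e₀⁆ := ⟨_, rfl⟩
  have hu₀E : u₀ ∈ E := hu₀ ▸ comm_mem_right d.xE he₀
  by_cases hall : ∀ a ∈ A, a ∉ A₀ → a * u₀ * a⁻¹ ∈ Qs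
  · exact hfin u₀ hu₀E (hu₀ ▸ hQ2 e₀ he₀ he₀K) hall
  push Not at hall
  obtain ⟨b, hb, hbA, hbQ⟩ := hall
  have hbK : b ∉ Subgroup.normalizer (K : Set G) := fun h => hbA (Subgroup.mem_inf.2 ⟨hb, h⟩)
  obtain ⟨K₁, hK₁⟩ : ∃ K₁, K₁ = cj K b⁻¹ := ⟨_, rfl⟩
  have hKp₁ : Kp K₁ := hK₁ ▸ hKp K hK b⁻¹ (inv_mem hb)
  have hne₁ : K₁ ≠ K := fun h => hbK (inv_mem_iff.1 (mem_normalizer_iff_cj.2 (hK₁ ▸ h)))
  have hS₁ : ∃ e ∈ E, ⁅x, e⁆ ∉ Rad K₁ := by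
    by_contra hno
    push Not at hno
    exact hbQ (hRQ (hmove b hb u₀ (hK₁ ▸ hu₀ ▸ hno e₀ he₀)))
  have honly : ∀ L, Kp L → L ≠ K → L ≠ K₁ → ∀ e ∈ E, ⁅x, e⁆ ∈ Rad L := fun L hL h1 h2 e he => by
    by_contra hne'
    rcases htwo L K K₁ hL hK hKp₁ ⟨e, he, hne'⟩ ⟨e₀, he₀, he₀K⟩ hS₁ with h | h | h
    exacts [h1 h, h2 h, hne₁ h.symm]
  obtain ⟨v, hv⟩ : ∃ v, v = b * u₀ * b⁻¹ := ⟨_, rfl⟩
  have hvE : v ∈ E := hv ▸ nrm (d.hAE hb) hu₀E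
  have hvQ : ⁅x, v⁆ ∉ Rad K := fun h => hbQ (hv ▸ ⟨hvE, h⟩)
  obtain ⟨K₂, hK₂⟩ : ∃ K₂, K₂ = cj K₁ b⁻¹ := ⟨_, rfl⟩
  have hKp₂ : Kp K₂ := hK₂ ▸ hKp K₁ hKp₁ b⁻¹ (inv_mem hb)
  have hodd : Odd p := d.hp.odd_of_ne_two fun h => by
    have := d.q_lt_p
    have := d.qprime.two_le
    omega
  have hv1 : v ∈ Rad K₁ := by
    have h : u₀ ∈ Rad K₂ := hu₀ ▸ honly K₂ hKp₂ (fun h => hbK (cj_eq_of_sq hodd (d.hA.2 b hb)
      (inv_mem_iff.1 (mem_normalizer_iff_cj.2 (by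
        rw [mul_inv_rev, ← cj_cj, ← hK₁, ← hK₂, h]))))) (fun h => hbK (by
      have h1 : b⁻¹ ∈ Subgroup.normalizer (K₁ : Set G) := mem_normalizer_iff_cj.2 (hK₂ ▸ h)
      have h2 : cj K₁ b = K₁ := cj_eq_self (inv_mem_iff.1 h1)
      rw [hK₁, cj_inv_cj] at h2
      exact absurd (hK₁ ▸ h2.symm) hne₁)) e₀ he₀
    rw [hK₂, ← hcj K₁ hKp₁ b⁻¹ (inv_mem hb)] at h
    obtain ⟨f, hf, hfu⟩ := h
    have hfu' : b⁻¹ * f * b⁻¹⁻¹ = u₀ := hfu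
    rw [hv, ← hfu', show b * (b⁻¹ * f * b⁻¹⁻¹) * b⁻¹ = f by group]
    exact hf
  refine hfin ⁅x, v⁆ (comm_mem_right d.xE hvE) (hQ2 v hvE hvQ) fun a ha haA => hRQ (hmove a ha _ ?_)
  have hneK : cj K a⁻¹ ≠ K := fun h => haA (Subgroup.mem_inf.2
    ⟨ha, inv_mem_iff.1 (mem_normalizer_iff_cj.2 h)⟩)
  by_cases h1 : cj K a⁻¹ = K₁
  · rw [h1]
    exact comm_mem_right (hxR K₁ hKp₁ hS₁) hv1
  · exact honly _ (hKp K hK a⁻¹ (inv_mem ha)) hneK h1 v hvE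

end NT

end Cfsg.Agent.SSF
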