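import Cfsg.Agent.Lib.SSF.NoTwoFixed
import Cfsg.Agent.Lib.SSF.AutCard

/-!
The configuration is impossible when the moved subgroup is not abelian.
-/

set_option autoImplicit false
set_option linter.style.haveILetI false

open Cfsg Cfsg.Agent Cfsg.Agent.Fusion
open scoped commutatorElement Pointwise

namespace Cfsg.Agent.SSF

universe u

variable {G : Type u} [Group G] [Finite G] {p q r : ℕ} {W A P E : Subgroup G} {x : G}

/-- A maximal subgroup of the derived group with non-trivial piece. -/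
def Pd (r : ℕ) (W E K : Subgroup G) : Prop := Hy r ⁅E, E⁆ K ∧ piece W ⁅E, E⁆ K ≠ ⊥

/-- The elements whose commutators with `E` lie in `K`. -/
def radSet (E K : Subgroup G) : Set G := {e | e ∈ E ∧ ∀ f ∈ E, ⁅e, f⁆ ∈ K}

/-- The subgroup of elements whose commutators with `E` lie in `K`. -/
def rad (E K : Subgroup G) : Subgroup G := Subgroup.closure (radSet E K)

namespace NT

variable (d : NT p q r W A P E x)

include d

theorem derived_le : ⁅E, E⁆ ≤ E :=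
  Subgroup.commutator_le.2 fun _ he _ hf => comm_mem_right (Subgroup.le_normalizer he) hf

theorem derived_cent : ⁅E, E⁆ ≤ Subgroup.centralizer (E : Set G) :=
  Subgroup.commutator_le.2 fun e he f hf => Subgroup.mem_centralizer_iff.2 fun _ hg =>
    d.comm_central he hf hg

theorem derived_elem : IsElementaryAbelian r (⁅E, E⁆ : Subgroup G) := by
  rw [Subgroup.commutator_def]
  refine Local.elemAb_closure _ ?_ ?_
  · rintro _ ⟨a, ha, b, hb, rfl⟩ _ ⟨e, he, f, hf, rfl⟩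
    exact d.comm_central he hf (comm_mem_right (Subgroup.le_normalizer ha) hb)
  · rintro _ ⟨a, ha, b, hb, rfl⟩
    exact d.comm_pow_r ha hb

theorem pieces' : PieceCtx q r W ⁅E, E⁆ :=
  ⟨d.qprime, d.hr, d.hrq, d.hW, d.derived_elem, d.derived_le.trans d.hEW,
    le_bot_iff.1 (d.hfaith ▸ inf_le_inf_right _ d.derived_le)⟩

theorem derived_centX : x ∈ Subgroup.centralizer ((⁅E, E⁆ : Subgroup G) : Set G) := by
  have hle : ⁅E, E⁆ ≤ Subgroup.centralizer ({x} : Set G) := Subgroup.commutator_le.2 fun e he f hf =>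
    Subgroup.mem_centralizer_singleton_iff.2 (d.comm_cent_P he hf d.hx).symm
  exact Subgroup.mem_centralizer_iff.2 fun z hz => Subgroup.mem_centralizer_singleton_iff.1 (hle hz)

/-- The elements defining `rad` form a subgroup. -/
theorem mem_rad {K : Subgroup G} (hK : K ≤ ⁅E, E⁆) {e : G} :
    e ∈ rad E K ↔ e ∈ E ∧ ∀ f ∈ E, ⁅e, f⁆ ∈ K := by
  refine ⟨fun h => ?_, fun h => Subgroup.subset_closure h⟩
  have hcK : ∀ k ∈ K, ∀ g ∈ E, g * k = k * g := fun k hk g hg =>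
    Subgroup.mem_centralizer_iff.1 (d.derived_cent (hK hk)) g hg
  refine Subgroup.closure_induction (p := fun e _ => e ∈ E ∧ ∀ f ∈ E, ⁅e, f⁆ ∈ K) (fun e he => he)
    ⟨one_mem E, fun f _ => by rw [commutatorElement_one_left]; exact one_mem K⟩ ?_ ?_ h
  · rintro a b - - ⟨ha, ha'⟩ ⟨hb, hb'⟩
    refine ⟨mul_mem ha hb, fun f hf => ?_⟩
    rw [show ⁅a * b, f⁆ = a * ⁅b, f⁆ * a⁻¹ * ⁅a, f⁆ by simp only [commutatorElement_def]; group,
      hcK _ (hb' f hf) a ha, mul_inv_cancel_right]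
    exact mul_mem (hb' f hf) (ha' f hf)
  · rintro a - ⟨ha, ha'⟩
    refine ⟨inv_mem ha, fun f hf => ?_⟩
    rw [show ⁅a⁻¹, f⁆ = a⁻¹ * ⁅a, f⁆⁻¹ * a by simp only [commutatorElement_def]; group,
      hcK _ (inv_mem (ha' f hf)) a⁻¹ (inv_mem ha), inv_mul_cancel_right]
    exact inv_mem (ha' f hf)

theorem rad_normal {K : Subgroup G} (hK : Hy r ⁅E, E⁆ K) :
    E ≤ Subgroup.normalizer (rad E K : Set G) := fun g hg => mem_normalizer_of_cj_le (by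
  rintro _ ⟨e, he, rfl⟩
  obtain ⟨heE, he'⟩ := (d.mem_rad hK.1).1 he
  show g * e * g⁻¹ ∈ rad E K
  rw [show g * e * g⁻¹ = ⁅g, e⁆ * e by rw [commutatorElement_def]; group]
  refine mul_mem ((d.mem_rad hK.1).2 ⟨comm_mem_right (Subgroup.le_normalizer hg) heE, fun f hf => ?_⟩) he
  rw [commutatorElement_eq_one_iff_mul_comm.2 (d.comm_central hg heE hf).symm]
  exact one_mem K)

omit d in
theorem cj_rad_le (E K : Subgroup G) {a : G} (ha : a ∈ Subgroup.normalizer (E : Set G)) :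
    cj (rad E K) a ≤ rad E (cj K a) := by
  rw [rad, cj, MonoidHom.map_closure, Subgroup.closure_le]
  rintro _ ⟨e, ⟨heE, he⟩, rfl⟩
  refine Subgroup.subset_closure ⟨nrm ha heE, fun f hf => ?_⟩
  refine ⟨⁅e, a⁻¹ * f * a⁆, he _ ?_, ?_⟩
  · have := nrm (inv_mem ha) hf
    rwa [inv_inv] at this
  · show a * ⁅e, a⁻¹ * f * a⁆ * a⁻¹ = ⁅a * e * a⁻¹, f⁆
    simp only [commutatorElement_def]; group

theorem rad_cj (K : Subgroup G) {a : G} (ha : a ∈ Subgroup.normalizer (E : Set G)) :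
    cj (rad E K) a = rad E (cj K a) := by
  refine le_antisymm (cj_rad_le E K ha) ?_
  have h := cj_mono (cj_rad_le E (cj K a) (inv_mem ha)) a
  rwa [Fusion.cj_cj_inv, cj_inv_cj] at h

theorem x_fix {K : Subgroup G} (hK : K ≤ ⁅E, E⁆) : cj K x = K :=
  cj_eq_self (Subgroup.centralizer_le_normalizer _ (Subgroup.centralizer_le hK d.derived_centX))

theorem x_piece {K : Subgroup G} (hK : K ≤ ⁅E, E⁆) :
    x ∈ Subgroup.normalizer (piece W ⁅E, E⁆ K : Set G) := mem_normalizer_of_cj_le (by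
  rw [cj_piece, cj_eq_self d.xW, cj_eq_self (Subgroup.centralizer_le_normalizer _ d.derived_centX),
    d.x_fix hK])

theorem E_piece {K : Subgroup G} (hK : K ≤ ⁅E, E⁆) :
    E ≤ Subgroup.normalizer (piece W ⁅E, E⁆ K : Set G) := fun g hg => mem_normalizer_of_cj_le (by
  have hgc : g ∈ Subgroup.centralizer ((⁅E, E⁆ : Subgroup G) : Set G) :=
    Subgroup.le_centralizer_iff.1 d.derived_cent hg
  rw [cj_piece, cj_eq_self (d.hEW hg), cj_eq_self (Subgroup.centralizer_le_normalizer _ hgc),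
    cj_eq_self (Subgroup.centralizer_le_normalizer _ (Subgroup.centralizer_le hK hgc))])

theorem cent_piece {K : Subgroup G} (hK : Pd r W E K) {z : G} (hz : z ∈ ⁅E, E⁆)
    (hc : z ∈ Subgroup.centralizer (piece W ⁅E, E⁆ K : Set G)) : z ∈ K := by
  by_contra hzK
  exact hK.2 ((Subgroup.eq_bot_iff_forall _).2 fun v hv =>
    d.pieces'.fpf hK.1 hz hzK hv (Subgroup.mem_centralizer_iff.1 hc v hv).symm)

theorem cent_rad {K : Subgroup G} (hK : Pd r W E K) {e : G} (he : e ∈ E)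
    (hc : e ∈ Subgroup.centralizer (piece W ⁅E, E⁆ K : Set G)) : e ∈ rad E K :=
  (d.mem_rad hK.1.1).2 ⟨he, fun f hf => d.cent_piece hK (Subgroup.commutator_mem_commutator he hf)
    (comm_mem_left (mem_normalizer_of_cj_le (by
      rw [cj_centralizer, cj_eq_self (d.E_piece hK.1.1 hf)])) hc)⟩

theorem fix_lt' {K : Subgroup G} (hK : Pd r W E K) {e : G} (he : e ∈ E) (h : ⁅x, e⁆ ∉ rad E K) :
    piece W ⁅E, E⁆ K ⊓ Subgroup.centralizer {x} < piece W ⁅E, E⁆ K := by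
  refine lt_of_le_of_ne inf_le_left fun heq => h (d.cent_rad hK (comm_mem_right d.xE he) ?_)
  have hx : x ∈ Subgroup.centralizer (piece W ⁅E, E⁆ K : Set G) :=
    Subgroup.mem_centralizer_iff.2 fun v hv => Subgroup.mem_centralizer_singleton_iff.1
      (Subgroup.mem_inf.1 (heq.ge hv)).2
  exact comm_mem_left (mem_normalizer_of_cj_le (by
    rw [cj_centralizer, cj_eq_self (d.E_piece hK.1.1 he)])) hx

theorem outside' {K : Subgroup G} (hK : Pd r W E K) : ∃ z ∈ ⁅E, E⁆, z ∉ K := by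
  by_contra hno
  push Not at hno
  have := Subgroup.card_le_of_le (show ⁅E, E⁆ ≤ K from hno)
  rw [hK.1.2] at this
  exact absurd this (not_le.2 (lt_mul_of_one_lt_left Nat.card_pos d.hr.one_lt))

/-- The prime of `E` is small. -/
theorem r_eq {K : Subgroup G} (hK : Pd r W E K) {e : G} (he : e ∈ E) (h : ⁅x, e⁆ ∉ rad E K) :
    (q = 2 ∧ r = 3) ∨ (q = 3 ∧ r = 2) := by
  haveI := Fact.mk d.qprime
  obtain ⟨C, hC⟩ : ∃ C, C = piece W ⁅E, E⁆ K ⊓ Subgroup.centralizer ({x} : Set G) := ⟨_, rfl⟩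
  obtain ⟨z, hz, hzK⟩ := d.outside' hK
  have hzr := d.derived_elem.2 z hz
  have hzU := d.E_piece hK.1.1 (d.derived_le hz)
  have hzx : z ∈ Subgroup.centralizer ({x} : Set G) :=
    Subgroup.mem_centralizer_singleton_iff.2 (Subgroup.mem_centralizer_iff.1 d.derived_centX z hz)
  have hzC : z ∈ Subgroup.normalizer (C : Set G) := mem_normalizer_of_cj_le (by
    rw [hC, cj_inf, cj_eq_self hzU, cj_eq_self_of_mem hzx])
  have hfix : ∀ V : Subgroup G, V ≤ piece W ⁅E, E⁆ K → V ⊓ Subgroup.centralizer {z} = ⊥ := fun V hV =>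
    (Subgroup.eq_bot_iff_forall _).2 fun v hv => d.pieces'.fpf hK.1 hz hzK (hV (Subgroup.mem_inf.1 hv).1)
      (Subgroup.mem_centralizer_singleton_iff.1 (Subgroup.mem_inf.1 hv).2).symm
  have h1 := card_fixed_modEq d.hr hzr hzU
  rw [hfix _ le_rfl, Subgroup.card_bot] at h1
  have h2 := card_fixed_modEq d.hr hzr hzC
  rw [hfix C (hC ▸ inf_le_left), Subgroup.card_bot] at h2
  have hUq := (Local.elemAb_isPGroup d.hW).to_le (d.pieces'.piece_le K)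
  have hlt := d.fix_lt' hK he h
  rw [← hC] at hlt
  have hgt := mul_card_le_of_lt' hUq hlt
  have hb := d.budget (d.pieces'.piece_le K)
  rw [← hC] at hb
  obtain ⟨j, hj⟩ := hUq.index (C.subgroupOf (piece W ⁅E, E⁆ K))
  have hj' : C.relIndex (piece W ⁅E, E⁆ K) = q ^ j := hj
  have hcard := card_mul_relIndex_of_le hlt.le
  rw [hj'] at hcard
  rw [← hcard] at h1 hb hgt
  have hj1 : q ^ j ≡ 1 [MOD r] := by
    calc q ^ j = 1 * q ^ j := (one_mul _).symm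
      _ ≡ Nat.card C * q ^ j [MOD r] := (h2.symm.mul_right _)
      _ ≡ 1 [MOD r] := h1
  have hj0 : j ≠ 0 := by
    rintro rfl
    rw [pow_zero, mul_one] at hgt
    exact absurd hgt (not_le.2 (lt_mul_of_one_lt_left Nat.card_pos d.qprime.one_lt))
  have hj1' : 1 ≤ j := Nat.pos_of_ne_zero hj0
  have hj2 : j ≤ 2 := by
    refine (Nat.pow_le_pow_iff_right d.qprime.one_lt).1 (Nat.le_of_mul_le_mul_left ?_ (Nat.card_pos (α := C)))
    rw [mul_comm (Nat.card C) (q ^ 2)]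
    exact hb
  have hdvd := (Nat.modEq_iff_dvd' (Nat.one_le_pow _ _ d.qprime.pos)).1 hj1.symm
  have key : ∀ {m}, m.Prime → r ∣ m → r = m := fun hm h => (Nat.prime_dvd_prime_iff_eq d.hr hm).1 h
  rcases d.hq with ⟨hq, -⟩ | ⟨hq, -⟩ <;> subst hq <;> interval_cases j
  · exact absurd (Nat.dvd_one.1 (by simpa using hdvd)) d.hr.one_lt.ne'
  · exact Or.inl ⟨rfl, key Nat.prime_three (by simpa using hdvd)⟩
  · exact Or.inr ⟨rfl, key Nat.prime_two (by simpa using hdvd)⟩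
  · exact Or.inr ⟨rfl, key Nat.prime_two (d.hr.dvd_of_dvd_pow (show r ∣ 2 ^ 3 by simpa using hdvd))⟩

omit d in
theorem two_fixed_disjoint {U C : Subgroup G} {g : G} (hC : C = U ⊓ Subgroup.centralizer {x}) {v : G}
    (hv : v ∈ C ⊓ cj C g) : v ∈ Subgroup.centralizer {⁅x, g⁆} := by
  obtain ⟨hv1, hv2⟩ := Subgroup.mem_inf.1 hv
  obtain ⟨w, hw, rfl⟩ := hv2
  rw [hC] at hv1 hw
  have c1 : Commute (g * w * g⁻¹) x := Subgroup.mem_centralizer_singleton_iff.1 (Subgroup.mem_inf.1 hv1).2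
  have c2 : Commute (g * w * g⁻¹) (g * x * g⁻¹) := by
    have c3 : Commute w x := Subgroup.mem_centralizer_singleton_iff.1 (Subgroup.mem_inf.1 hw).2
    show _ = _
    calc g * w * g⁻¹ * (g * x * g⁻¹) = g * (w * x) * g⁻¹ := by group
      _ = _ := by rw [c3.eq]; group
  refine Subgroup.mem_centralizer_singleton_iff.2 ?_
  rw [show ⁅x, g⁆ = x * (g * x * g⁻¹)⁻¹ by rw [commutatorElement_def]; group]
  exact (c1.mul_right c2.inv_right).eq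

/-- Two commutators with a commutator outside `K`. -/
theorem exists_pair {K : Subgroup G} (hK : Pd r W E K) {e : G} (he : e ∈ E) (h : ⁅x, e⁆ ∉ rad E K) :
    ∃ e₁ ∈ E, ∃ e₂ ∈ E, ⁅⁅x, e₁⁆, ⁅x, e₂⁆⁆ ∉ K := by
  by_contra hno
  push Not at hno
  refine h (d.comm_fixed (fun g hg => ((d.mem_rad hK.1.1).1 hg).1) (d.rad_normal hK.1)
    (mem_normalizer_iff_cj.2 (by rw [d.rad_cj K d.xE, d.x_fix hK.1.1])) he ?_)
  obtain ⟨w, hw⟩ : ∃ w, w = ⁅x, e⁆ := ⟨_, rfl⟩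
  have hwE : w ∈ E := hw ▸ comm_mem_right d.xE he
  rw [← hw]
  refine (d.mem_rad hK.1.1).2 ⟨comm_mem_right d.xE hwE, fun f hf => ?_⟩
  obtain ⟨w', hw'⟩ : ∃ w', w' = ⁅x, w⁆ := ⟨_, rfl⟩
  obtain ⟨u, hu⟩ : ∃ u, u = ⁅x, f⁆ := ⟨_, rfl⟩
  have hw'E : w' ∈ E := hw' ▸ comm_mem_right d.xE hwE
  have huE : u ∈ E := hu ▸ comm_mem_right d.xE hf
  have hcK : ∀ k ∈ ⁅E, E⁆, ∀ g ∈ E, g * k = k * g := fun k hk g hg =>
    Subgroup.mem_centralizer_iff.1 (d.derived_cent hk) g hg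
  have hB : ∀ {a b}, a ∈ E → b ∈ E → ⁅a, b⁆ ∈ ⁅E, E⁆ := fun ha hb =>
    Subgroup.commutator_mem_commutator ha hb
  have hinv : x * ⁅w, f⁆ * x⁻¹ = ⁅w, f⁆ := mul_inv_eq_iff_eq_mul.2
    (Subgroup.mem_centralizer_iff.1 d.derived_centX _ (hB hwE hf)).symm
  have e1 : x * ⁅w, f⁆ * x⁻¹ = ⁅w' * w, u * f⁆ := by
    rw [hw', hu]; simp only [commutatorElement_def]; group
  have e2 : ⁅w' * w, u * f⁆ = ⁅w, u⁆ * ⁅w, f⁆ * (⁅w', u⁆ * ⁅w', f⁆) := by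
    rw [show ⁅w' * w, u * f⁆ = w' * (⁅w, u⁆ * (u * ⁅w, f⁆ * u⁻¹)) * w'⁻¹ * (⁅w', u⁆ * (u * ⁅w', f⁆ * u⁻¹))
      by simp only [commutatorElement_def]; group,
      hcK _ (hB hwE hf) u huE, mul_inv_cancel_right, hcK _ (hB hw'E hf) u huE, mul_inv_cancel_right,
      hcK _ (mul_mem (hB hwE huE) (hB hwE hf)) w' hw'E, mul_inv_cancel_right]
  have e3 : ⁅w, u⁆ * ⁅w, f⁆ * (⁅w', u⁆ * ⁅w', f⁆) = ⁅w, f⁆ := e2 ▸ e1 ▸ hinv
  have k1 : ⁅w, u⁆ ∈ K := hw ▸ hu ▸ hno e he f hf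
  have k2 : ⁅w', u⁆ ∈ K := hw' ▸ hu ▸ hno w hwE f hf
  rw [← hw']
  have e5 : ⁅w', f⁆ = ⁅w', u⁆⁻¹ * ((⁅w, f⁆)⁻¹ * ⁅w, u⁆⁻¹ * ⁅w, f⁆) := by
    calc ⁅w', f⁆ = ⁅w', u⁆⁻¹ * ((⁅w, f⁆)⁻¹ * ⁅w, u⁆⁻¹ *
          (⁅w, u⁆ * ⁅w, f⁆ * (⁅w', u⁆ * ⁅w', f⁆))) := by group
      _ = _ := by rw [e3]
  rw [e5, mul_assoc (⁅w, f⁆)⁻¹, ← hcK _ (inv_mem (hB hwE huE)) _ (d.derived_le (hB hwE hf)),
    inv_mul_cancel_left]
  exact mul_mem (inv_mem k2) (inv_mem k1)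

/-- The module is small. -/
theorem piece_small {K : Subgroup G} (hK : Pd r W E K) {e : G} (he : e ∈ E) (h : ⁅x, e⁆ ∉ rad E K) :
    (q = 2 ∧ r = 3 ∧ Nat.card (piece W ⁅E, E⁆ K) ≤ 2 ^ 6) ∨
    (q = 3 ∧ r = 2 ∧ Nat.card (piece W ⁅E, E⁆ K) ≤ 3 ^ 4 ∧
      Nat.card ↥(piece W ⁅E, E⁆ K ⊓ Subgroup.centralizer {x}) ≤ 3 ^ 2) := by
  obtain ⟨U, hU⟩ : ∃ U, U = piece W ⁅E, E⁆ K := ⟨_, rfl⟩
  obtain ⟨C, hC⟩ : ∃ C, C = U ⊓ Subgroup.centralizer ({x} : Set G) := ⟨_, rfl⟩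
  rw [← hU, ← hC]
  have hUW : U ≤ W := hU ▸ d.pieces'.piece_le K
  have hCU : C ≤ U := hC ▸ inf_le_left
  have hCg : ∀ g ∈ E, cj C g ≤ U := fun g hg =>
    (cj_mono hCU g).trans (hU ▸ cj_eq_self (d.E_piece hK.1.1 hg)).le
  have hb : Nat.card U ≤ q ^ 2 * Nat.card C := hC ▸ d.budget hUW
  have hfix : ∀ z ∈ ⁅E, E⁆, z ∉ K → ∀ v ∈ U, Commute z v → v = 1 := fun z hz hzK v hv hc =>
    d.pieces'.fpf hK.1 hz hzK (hU ▸ hv) hc.eq
  rcases d.r_eq hK he h with ⟨hq, hr⟩ | ⟨hq, hr⟩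
  · refine Or.inl ⟨hq, hr, ?_⟩
    obtain ⟨e₁, he₁, e₂, he₂, hz⟩ := d.exists_pair hK he h
    obtain ⟨C₁, hC₁⟩ : ∃ C₁, C₁ = C ⊓ cj C e₁ := ⟨_, rfl⟩
    have hC₁U : C₁ ≤ U := hC₁ ▸ inf_le_left.trans hCU
    have hbot : C₁ ⊓ cj C e₂ = ⊥ := (Subgroup.eq_bot_iff_forall _).2 fun v hv => by
      obtain ⟨hv1, hv2⟩ := Subgroup.mem_inf.1 hv
      refine hfix _ (Subgroup.commutator_mem_commutator (comm_mem_right d.xE he₁)
        (comm_mem_right d.xE he₂)) hz v (hC₁U hv1) ?_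
      have k1 : Commute ⁅x, e₁⁆ v := (Subgroup.mem_centralizer_singleton_iff.1
        (two_fixed_disjoint hC (g := e₁) (hC₁ ▸ hv1))).symm
      have k2 : Commute ⁅x, e₂⁆ v := (Subgroup.mem_centralizer_singleton_iff.1
        (two_fixed_disjoint hC (g := e₂) (Subgroup.mem_inf.2
          ⟨(Subgroup.mem_inf.1 (hC₁ ▸ hv1)).1, hv2⟩))).symm
      rw [commutatorElement_def]
      exact ((k1.mul_left k2).mul_left k1.inv_left).mul_left k2.inv_left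
    have h1 := card_sup_of_inf_bot d.Wcomm (hC₁U.trans hUW) ((hCg e₂ he₂).trans hUW) hbot
    have h1' : Nat.card C₁ * Nat.card C ≤ Nat.card U := by
      rw [card_cj] at h1
      exact h1 ▸ Subgroup.card_le_of_le (sup_le hC₁U (hCg e₂ he₂))
    have h2 := Solv.card_sup_mul_card_inf' C (cj C e₁)
      (le_normalizer_of_comm d.Wcomm ((hCg e₁ he₁).trans hUW) (hCU.trans hUW))
    rw [← hC₁, card_cj] at h2
    have h2' : Nat.card C * Nat.card C ≤ Nat.card U * Nat.card C₁ :=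
      h2 ▸ Nat.mul_le_mul_right _ (Subgroup.card_le_of_le (sup_le hCU (hCg e₁ he₁)))
    have h3 : Nat.card C * Nat.card C * Nat.card C ≤ Nat.card U * Nat.card U := by
      calc Nat.card C * Nat.card C * Nat.card C ≤ Nat.card U * Nat.card C₁ * Nat.card C :=
            Nat.mul_le_mul_right _ h2'
        _ ≤ Nat.card U * Nat.card U := by rw [mul_assoc]; exact Nat.mul_le_mul_left _ h1'
    subst hq
    obtain ⟨u, hu⟩ : ∃ u, u = Nat.card U := ⟨_, rfl⟩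
    obtain ⟨c, hc⟩ : ∃ c, c = Nat.card C := ⟨_, rfl⟩
    rw [← hu, ← hc] at hb h3
    rw [← hu]
    by_contra hlt
    push Not at hlt
    have h5 : u * u * u ≤ 64 * (c * c * c) := by
      calc u * u * u ≤ (2 ^ 2 * c) * (2 ^ 2 * c) * (2 ^ 2 * c) := Nat.mul_le_mul (Nat.mul_le_mul hb hb) hb
        _ = 64 * (c * c * c) := by ring
    have h7 : u * u * u ≤ 64 * (u * u) := h5.trans (Nat.mul_le_mul_left _ h3)
    have h8 : 64 * (u * u) < u * u * u := by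
      rw [mul_comm (u * u) u]
      exact Nat.mul_lt_mul_of_pos_right (by simpa using hlt) (Nat.mul_pos (by omega) (by omega))
    omega
  · refine Or.inr ⟨hq, hr, ?_⟩
    obtain ⟨e₀, he₀, hw⟩ : ∃ e₀ ∈ E, ⁅⁅x, e₀⁆, e₀⁆ ∉ K := by
      by_contra hno
      push Not at hno
      obtain ⟨e₁, he₁, e₂, he₂, hz⟩ := d.exists_pair hK he h
      have hcK : ∀ k ∈ ⁅E, E⁆, ∀ g ∈ E, g * k = k * g := fun k hk g hg =>
        Subgroup.mem_centralizer_iff.1 (d.derived_cent hk) g hg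
      have hB : ∀ {a b}, a ∈ E → b ∈ E → ⁅a, b⁆ ∈ ⁅E, E⁆ := fun ha hb =>
        Subgroup.commutator_mem_commutator ha hb
      obtain ⟨w₁, hw₁⟩ : ∃ w, w = ⁅x, e₁⁆ := ⟨_, rfl⟩
      obtain ⟨w₂, hw₂⟩ : ∃ w, w = ⁅x, e₂⁆ := ⟨_, rfl⟩
      have hw₁E : w₁ ∈ E := hw₁ ▸ comm_mem_right d.xE he₁
      have hw₂E : w₂ ∈ E := hw₂ ▸ comm_mem_right d.xE he₂
      rw [← hw₁, ← hw₂] at hz
      -- bilinearity modulo `K`
      have hcomm : ∀ {a b}, a ∈ ⁅E, E⁆ → b ∈ ⁅E, E⁆ → a * b = b * a := fun ha hb =>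
        hcK _ hb _ (d.derived_le ha)
      have hsq : ∀ z ∈ ⁅E, E⁆, z⁻¹ = z := fun z hz => by
        rw [inv_eq_iff_mul_eq_one, ← pow_two, ← hr]
        exact d.derived_elem.2 z hz
      have hl : ∀ a b c', a ∈ E → b ∈ E → c' ∈ E → ⁅a * b, c'⁆ = ⁅b, c'⁆ * ⁅a, c'⁆ := fun a b c' ha hb hc => by
        rw [show ⁅a * b, c'⁆ = a * ⁅b, c'⁆ * a⁻¹ * ⁅a, c'⁆ by simp only [commutatorElement_def]; group,
          hcK _ (hB hb hc) a ha, mul_inv_cancel_right]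
      have hr' : ∀ a b c', a ∈ E → b ∈ E → c' ∈ E → ⁅a, b * c'⁆ = ⁅a, b⁆ * ⁅a, c'⁆ := fun a b c' ha hb hc => by
        rw [show ⁅a, b * c'⁆ = ⁅a, b⁆ * (b * ⁅a, c'⁆ * b⁻¹) by simp only [commutatorElement_def]; group,
          hcK _ (hB ha hc) b hb, mul_inv_cancel_right]
      have hsum : ⁅w₁, e₂⁆ * ⁅w₂, e₁⁆ ∈ K := by
        have h1 := hno (e₁ * e₂) (mul_mem he₁ he₂)
        have h2 : ⁅x, e₁ * e₂⁆ = ⁅e₁, w₂⁆ * (w₁ * w₂) := by
          rw [comm_mul_right, ← hw₁, ← hw₂,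
            show e₁ * w₂ * e₁⁻¹ = ⁅e₁, w₂⁆ * w₂ by rw [commutatorElement_def]; group,
            ← mul_assoc, hcK _ (hB he₁ hw₂E) w₁ hw₁E, mul_assoc]
        rw [h2, hl _ _ _ (d.derived_le (hB he₁ hw₂E)) (mul_mem hw₁E hw₂E) (mul_mem he₁ he₂),
          commutatorElement_eq_one_iff_mul_comm.2 (hcK _ (hB he₁ hw₂E) _ (mul_mem he₁ he₂)).symm, mul_one,
          hl _ _ _ hw₁E hw₂E (mul_mem he₁ he₂), hr' _ _ _ hw₂E he₁ he₂, hr' _ _ _ hw₁E he₁ he₂] at h1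
        have k1 : ⁅w₁, e₁⁆ ∈ K := hw₁ ▸ hno e₁ he₁
        have k2 : ⁅w₂, e₂⁆ ∈ K := hw₂ ▸ hno e₂ he₂
        have h3 : ⁅w₂, e₁⁆ * ⁅w₂, e₂⁆ * (⁅w₁, e₁⁆ * ⁅w₁, e₂⁆) =
            (⁅w₁, e₂⁆ * ⁅w₂, e₁⁆) * (⁅w₂, e₂⁆ * ⁅w₁, e₁⁆) := by
          rw [hcomm (hB hw₁E he₁) (hB hw₁E he₂), ← mul_assoc,
            hcomm (mul_mem (hB hw₂E he₁) (hB hw₂E he₂)) (hB hw₁E he₂)]
          group
        rw [h3] at h1
        exact (mul_mem_cancel_right (mul_mem k2 k1)).1 h1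
      apply hz
      have hinv : x * ⁅e₁, e₂⁆ * x⁻¹ = ⁅e₁, e₂⁆ := mul_inv_eq_iff_eq_mul.2
        (Subgroup.mem_centralizer_iff.1 d.derived_centX _ (hB he₁ he₂)).symm
      have hexp : x * ⁅e₁, e₂⁆ * x⁻¹ = ⁅w₁ * e₁, w₂ * e₂⁆ := by
        rw [hw₁, hw₂]; simp only [commutatorElement_def]; group
      rw [hl _ _ _ hw₁E he₁ (mul_mem hw₂E he₂), hr' _ _ _ he₁ hw₂E he₂, hr' _ _ _ hw₁E hw₂E he₂,
        hinv] at hexp
      have h4 : ⁅w₁, w₂⁆ = (⁅w₁, e₂⁆ * ⁅w₂, e₁⁆)⁻¹ := by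
        have h5 : ⁅e₁, w₂⁆ = ⁅w₂, e₁⁆⁻¹ := (commutatorElement_inv w₂ e₁).symm
        calc ⁅w₁, w₂⁆ = ⁅e₁, e₂⁆⁻¹ * ⁅e₁, w₂⁆⁻¹ *
              (⁅e₁, w₂⁆ * ⁅e₁, e₂⁆ * (⁅w₁, w₂⁆ * ⁅w₁, e₂⁆)) * ⁅w₁, e₂⁆⁻¹ := by group
          _ = ⁅e₁, e₂⁆⁻¹ * ⁅e₁, w₂⁆⁻¹ * ⁅e₁, e₂⁆ * ⁅w₁, e₂⁆⁻¹ := by rw [← hexp]
          _ = _ := by
            rw [h5, inv_inv, mul_assoc (⁅e₁, e₂⁆⁻¹), hcomm (hB hw₂E he₁) (hB he₁ he₂),
              inv_mul_cancel_left, mul_inv_rev, hsq _ (hB hw₂E he₁)]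
      rw [h4]
      exact inv_mem hsum
    have hbot : C ⊓ cj C e₀ = ⊥ := (Subgroup.eq_bot_iff_forall _).2 fun v hv => by
      have k : Commute ⁅x, e₀⁆ v :=
        (Subgroup.mem_centralizer_singleton_iff.1 (two_fixed_disjoint hC (g := e₀) hv)).symm
      refine hfix _ (Subgroup.commutator_mem_commutator (comm_mem_right d.xE he₀) he₀) hw v
        (hCU (Subgroup.mem_inf.1 hv).1) ?_
      rw [← d.comm_sq he₀ hr]
      exact k.mul_left k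
    have h1 := card_sup_of_inf_bot d.Wcomm (hCU.trans hUW) ((hCg e₀ he₀).trans hUW) hbot
    have h1' : Nat.card C * Nat.card C ≤ Nat.card U := by
      rw [card_cj] at h1
      exact h1 ▸ Subgroup.card_le_of_le (sup_le hCU (hCg e₀ he₀))
    subst hq
    have hc : Nat.card C ≤ 3 ^ 2 := Nat.le_of_mul_le_mul_right (h1'.trans hb) Nat.card_pos
    exact ⟨hb.trans (by omega), hc⟩

end NT

end Cfsg.Agent.SSF
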