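import Cfsg.Agent.Lib.SSF.Two

/-!
There are not exactly two primes.
-/

set_option autoImplicit false
set_option linter.style.haveILetI false

open Cfsg Cfsg.Agent Cfsg.Agent.Fusion
open scoped commutatorElement Pointwise

namespace Cfsg.Agent.SSF

universe u

variable {G : Type u} [Group G]

theorem le_or_le_of_cover {L K₁ K₂ : Subgroup G} (h : ∀ l ∈ L, l ∈ K₁ ∨ l ∈ K₂) : L ≤ K₁ ∨ L ≤ K₂ := by
  by_contra hno
  rw [not_or] at hno
  obtain ⟨x, hx, hx1⟩ := SetLike.not_le_iff_exists.1 hno.1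
  obtain ⟨y, hy, hy2⟩ := SetLike.not_le_iff_exists.1 hno.2
  have hxK := (h x hx).resolve_left hx1
  have hyK := (h y hy).resolve_right hy2
  rcases h (x * y) (mul_mem hx hy) with h' | h'
  exacts [hx1 ((mul_mem_cancel_right hyK).1 h'), hy2 ((mul_mem_cancel_left hxK).1 h')]

variable [Finite G] {p : ℕ} [hp : Fact p.Prime]

/-- A proper subgroup of a p-group is properly contained in its normaliser. -/
theorem le_of_normalizer_le {x : ℕ} [Fact x.Prime] {R V : Subgroup G} (hR : IsPGroup x R) (hV : V ≤ R)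
    (h : R ⊓ Subgroup.normalizer (V : Set G) ≤ V) : R ≤ V := by
  by_contra hne
  haveI : Group.IsNilpotent R := hR.isNilpotent
  have hnc := Group.normalizerCondition_of_isNilpotent (G := R) (V.subgroupOf R)
    (lt_top_iff_ne_top.2 fun ht => hne (Subgroup.subgroupOf_eq_top.1 ht))
  obtain ⟨y, hy, hyV⟩ := SetLike.exists_of_lt hnc
  rw [← Subgroup.subgroupOf_normalizer_eq hV] at hy
  exact hyV (h (Subgroup.mem_inf.2 ⟨y.2, hy⟩))

namespace Ctx

variable {c : Ctx G p} {q r : ℕ}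

theorem hyp_sup {D : Subgroup G} (hD : c.Hyp D) {e : G} (he : e ∈ c.A) (heD : e ∉ D) :
    D ⊔ Subgroup.zpowers e = c.A := by
  have hle : D ⊔ Subgroup.zpowers e ≤ c.A := sup_le hD.1 (Subgroup.zpowers_le.2 he)
  have hlt : D < D ⊔ Subgroup.zpowers e := lt_of_le_not_ge le_sup_left fun h =>
    heD (h (Subgroup.mem_sup_right (Subgroup.mem_zpowers e)))
  obtain ⟨k, hk⟩ := Subgroup.card_dvd_of_le hlt.le
  have h1 := Solv.card_lt_of_lt hlt
  have hd := Subgroup.card_dvd_of_le hle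
  rw [hk, hD.2, mul_comm p] at hd
  rcases (Nat.dvd_prime hp.out).1 (Nat.dvd_of_mul_dvd_mul_left Nat.card_pos hd) with rfl | rfl
  · rw [hk, mul_one] at h1; exact absurd h1 (lt_irrefl _)
  · exact Subgroup.eq_of_le_of_card_ge hle (by rw [hk, hD.2, mul_comm])

theorem Two.z_comm (c : Ctx G p) (x : ℕ) : IsMulCommutative (c.z x) :=
  ⟨⟨fun a b => Subtype.ext (Subgroup.mem_centralizer_iff.1 (Subgroup.mem_inf.1 b.2).2 a
    (Subgroup.mem_inf.1 a.2).1)⟩⟩

theorem Two.W_p (h : c.Two q r) : IsPGroup q (c.W q) := (c.W_spec h.hs.crit h.mq.1).2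

theorem Two.pq' (h : c.Two q r) {H M : Subgroup G} (hH : c.Colour H) (hHq : pi H = {q}) (hM : c.Colour M)
    (hm : Mixed M) : Ox r M ⊓ H = ⊥ :=
  c.pq h.hs hH hHq hM (h.pi_mixed hM hm) (h.symm.pi_mixed hM hm) h.ne.symm

/-- Colours on a suitable hyperplane, for a mixed colour without `W q`. -/
theorem Two.hypB (h : c.Two q r) {H M : Subgroup G} (hH : c.Colour H) (hHq : pi H = {q}) (hM : c.Colour M)
    (hm : Mixed M) (hW : ¬ c.W q ≤ M) :
    ∃ B, c.Hyp B ∧ ∀ b ∈ B, b ≠ 1 → ∀ P, c.Colour P → c.θ b ≤ P → P = M ∨ pi P = {r} := by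
  have hqM := h.pi_mixed hM hm
  have hnc := h.not_cent hM hm hW (c.inv_z h.hs.crit h.mq.1) (h.z_ne hM hqM) le_rfl
  obtain ⟨B, hB, hBnc⟩ : ∃ B, c.Hyp B ∧
      ¬ Zc r M ⊓ Subgroup.centralizer (B : Set G) ≤ Subgroup.centralizer (c.z q : Set G) := by
    by_contra hno
    push Not at hno
    obtain ⟨D, hD⟩ := exists_hyp (c := c)
    refine hnc (c.le_of_gen (hM.inv_Zc r).1 ?_ hno)
    exact (inf_le_inf_left _ (c.C_le_centA.trans (Subgroup.centralizer_le hD.1))).trans (hno D hD)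
  refine ⟨B, hB, fun b hb hb1 P hP hbP => ?_⟩
  have hDP : Zc r M ⊓ Subgroup.centralizer (B : Set G) ≤ P :=
    (c.inf_centD_le (hM.inv_Zc r).1 hB.1 hb hb1).trans hbP
  rcases h.cases hP with hPm | hPq | hPr
  · refine Or.inl (by_contra fun hne => hBnc ?_)
    have hzP : c.z q ≤ P := hP.z_le h.hs.crit (h.pi_mixed hP hPm)
    have hzM : c.z q ≤ M := hM.z_le h.hs.crit hqM
    obtain ⟨U, hU⟩ : ∃ U, U = Zc r M ⊓ P := ⟨_, rfl⟩
    have hzU : c.z q ≤ Subgroup.normalizer (U : Set G) := fun g hg => mem_normalizer_of_cj_le (by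
      rw [hU, cj_inf, cj_eq_self (self_le_normalizer_Zc r M (hzM hg)), cj_eq_self_of_mem (hzP hg)])
    have h1 : ⁅U, c.z q⁆ ≤ Ox r P :=
      h.lk hH hHq hP hPm (hU ▸ inf_le_right) ((isPGroup_Zc r M).to_le (hU ▸ inf_le_left)) le_rfl hzU
    have h2 : ⁅U, c.z q⁆ ≤ Ox r M := Subgroup.commutator_le.2 fun a ha b hb' =>
      (hU ▸ inf_le_left.trans (Zc_le_Ox r M) : U ≤ Ox r M) (comm_mem_left (hzU hb') ha)
    have h3 : ⁅U, c.z q⁆ = ⊥ := le_bot_iff.1 ((le_inf h1 h2).trans (h.disj hP hPm hM hm hne).le)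
    exact (le_inf inf_le_left hDP).trans (hU ▸ (Subgroup.commutator_eq_bot_iff_le_centralizer).1 h3)
  · refine absurd (le_trans (le_bot_iff.1 ?_).le bot_le) hBnc
    rw [← h.pq' hP hPq hM hm]
    exact le_inf (inf_le_left.trans (Zc_le_Ox r M)) hDP
  · exact Or.inr hPr

theorem Two.exists_single (h : c.Two q r) {H : Subgroup G} (hH : c.Colour H) (hHq : pi H = {q}) :
    ∃ H', c.Colour H' ∧ pi H' = {r} := by
  obtain ⟨P, hP⟩ := c.exists_R h.hs.crit h.mq
  rcases h.cases hP.2.1 with hm | hq | hr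
  · by_contra hno
    push Not at hno
    obtain ⟨B, hB, hBc⟩ := h.hypB hH hHq hP.2.1 hm (R_not_W h.hs hP)
    refine false_of_monochrome h.hs.crit hP.2.1 hB fun b hb hb1 => ?_
    obtain ⟨Q, hQ, hbQ⟩ := c.theta_colour (hB.1 hb) hb1
    exact ((hBc b hb hb1 Q hQ hbQ).resolve_right (hno Q hQ)) ▸ hbQ
  · exact absurd rfl (R_single_ne h.hs hP hq)
  · exact ⟨P, hP.2.1, hr⟩

theorem Two.both (h : c.Two q r) :
    (∃ H, c.Colour H ∧ pi H = {q}) ∧ ∃ H', c.Colour H' ∧ pi H' = {r} := by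
  by_cases hq : ∃ H, c.Colour H ∧ pi H = {q}
  · obtain ⟨H, hH, hHq⟩ := id hq
    exact ⟨hq, h.exists_single hH hHq⟩
  by_cases hr : ∃ H', c.Colour H' ∧ pi H' = {r}
  · obtain ⟨H, hH, hHr⟩ := id hr
    exact ⟨h.symm.exists_single hH hHr, hr⟩
  exfalso
  push Not at hq hr
  obtain ⟨M, hM⟩ := c.exists_R h.hs.crit h.mr
  obtain ⟨N, hN⟩ := c.exists_R h.hs.crit h.mq
  have hmix : ∀ P, c.Colour P → Mixed P := fun P hP =>
    (h.cases hP).resolve_right fun h' => h'.elim (hq P hP) (hr P hP)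
  exact h.two_W hM.2.1 (hmix M hM.2.1) hN.2.1 (hmix N hN.2.1) (hM.2.2 q h.mq h.ne) (hN.2.2 r h.mr h.ne.symm)

theorem Two.two_colours (h : c.Two q r) {H H' : Subgroup G} (hH : c.Colour H) (hH' : c.Colour H')
    (hall : ∀ P, c.Colour P → P = H ∨ P = H') : False := by
  refine false_of_meets h.hs.crit hH fun D hD => by_contra fun hno => ?_
  push Not at hno
  refine false_of_monochrome h.hs.crit hH' hD fun d hd hd1 => ?_
  obtain ⟨P, hP, hdP⟩ := c.theta_colour (hD.1 hd) hd1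
  rcases hall P hP with rfl | rfl
  exacts [absurd hdP (hno d hd hd1), hdP]

theorem Two.same_of_lack (h : c.Two q r) {M N : Subgroup G} (hM : c.Colour M) (hMm : Mixed M)
    (hN : c.Colour N) (hNm : Mixed N) (hq : ¬ c.W q ≤ M) (hr : ¬ c.W r ≤ N) : M = N := by
  obtain ⟨⟨Hq, hHq, hq'⟩, Hr, hHr, hr'⟩ := h.both
  obtain ⟨B, hB, hBc⟩ := h.hypB hHq hq' hM hMm hq
  obtain ⟨B', hB', hB'c⟩ := h.symm.hypB hHr hr' hN hNm hr
  obtain ⟨e, he, he1⟩ := (Subgroup.bot_or_exists_ne_one (B ⊓ B')).resolve_left (inf_hyp_ne_bot hB hB')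
  obtain ⟨heB, heB'⟩ := Subgroup.mem_inf.1 he
  obtain ⟨P, hP, heP⟩ := c.theta_colour (hB.1 heB) he1
  rcases hBc e heB he1 P hP heP with rfl | h1
  · rcases hB'c e heB' he1 P hP heP with h2 | h2
    · exact h2
    · have := h.symm.pi_mixed hP hMm
      rw [h2] at this
      exact absurd this h.ne.symm
  · rcases hB'c e heB' he1 P hP heP with rfl | h2
    · have := h.pi_mixed hP hNm
      rw [h1] at this
      exact absurd this h.ne
    · exact absurd (Set.singleton_eq_singleton_iff.1 (h1.symm.trans h2)) h.ne.symm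

/-- Mixed colours containing `W r` are equal. -/
theorem Two.several (h : c.Two q r) {M M' : Subgroup G} (hM : c.Colour M) (hm : Mixed M)
    (hM' : c.Colour M') (hm' : Mixed M') (hne : M ≠ M') (hW : c.W r ≤ M) (hW' : c.W r ≤ M') : False := by
  obtain ⟨⟨Hq, hHq, hq'⟩, Hr, hHr, hr'⟩ := h.both
  have hqM := h.pi_mixed hM hm
  have hrM := h.symm.pi_mixed hM hm
  have hWq : ¬ c.W q ≤ M := fun hq => h.two_W hM hm hM hm hq hW
  haveI := Fact.mk hqM.1
  haveI := Fact.mk hrM.1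
  obtain ⟨B, hB, hBc⟩ := h.hypB hHq hq' hM hm hWq
  have hzI := c.inv_z h.hs.crit hqM.1
  -- the fixed part of `z q` is trivial
  have hzC : c.z q ⊓ c.C = ⊥ := by
    obtain ⟨S, hS⟩ : ∃ S, S = Ox r Hr := ⟨_, rfl⟩
    have hSW : S ≤ c.W r := hS ▸ hHr.Ox_le_W r
    have hn : c.z q ⊓ c.C ≤ Subgroup.normalizer (S : Set G) :=
      inf_le_right.trans (hHr.2.1.trans (hS ▸ self_le_normalizer_Ox r Hr))
    have h1 := h.lk hHq hq' hM hm (hSW.trans hW) ((c.W_spec h.hs.crit hrM.1).2.to_le hSW) inf_le_left hn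
    have h2 := h.lk hHq hq' hM' hm' (hSW.trans hW') ((c.W_spec h.hs.crit hrM.1).2.to_le hSW) inf_le_left hn
    have h3 := (Subgroup.commutator_eq_bot_iff_le_centralizer).1
      (le_bot_iff.1 ((le_inf h1 h2).trans (h.disj hM hm hM' hm' hne).le))
    refine hHr.eq_bot_of_comm hqM.1 (inf_le_right.trans hHr.2.1) (h.W_p.to_le (inf_le_left.trans inf_le_left))
      (fun hx => h.ne (by rw [hr'] at hx; exact hx)) fun x hx => ?_
    rw [hr', Set.mem_singleton_iff] at hx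
    subst hx
    exact Subgroup.le_centralizer_iff.1 (hS ▸ h3)
  obtain ⟨U, hU⟩ : ∃ U, U = Zc r M := ⟨_, rfl⟩
  have hUI : c.Inv U := hU ▸ hM.inv_Zc r
  have hUr : IsPGroup r U := hU ▸ isPGroup_Zc r M
  have hUc : IsMulCommutative U := hU ▸ Zc_comm r M
  have hUO : U ≤ Ox r M := hU ▸ Zc_le_Ox r M
  have hUW : U ≤ c.W r := hUO.trans (hM.Ox_le_W r)
  have hUM' : U ≤ M' := hUW.trans hW'
  have hUQ : U ≤ Subgroup.centralizer (Ox r M' : Set G) := by
    refine comm_of_inf (le_bot_iff.1 ((inf_le_inf_right _ hUO).trans (h.disj hM hm hM' hm' hne).le))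
      (hUM'.trans (self_le_normalizer_Ox r M')) ?_
    exact hU ▸ ((hM'.Ox_le_W r).trans hW).trans (self_le_normalizer_Zc r M)
  -- the hyperplane centralises `U`
  have hBU : ∀ b ∈ B, b ∈ Subgroup.centralizer (U : Set G) := fun b hb => by
    rcases eq_or_ne b 1 with rfl | hb1
    · exact one_mem _
    obtain ⟨P, hP, hbP⟩ := c.theta_colour (hB.1 hb) hb1
    obtain ⟨hI, hIle⟩ := c.comm_inv hUI (hB.1 hb)
    refine cent_singleton_swap (le_cent_of_commutator (le_bot_iff.1 ?_))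
    rw [← h.disj hM hm hM' hm' hne]
    refine le_inf (hIle.trans hUO) ?_
    rcases hBc b hb hb1 P hP hbP with rfl | hPr
    · exact c.kLem hP hM' hrM.1 hUI hUc hUO hUM' hUQ (hB.1 hb) hb1 hbP
    · refine hM'.le_Ox_of_comm hrM.1 (hIle.trans hUM') (hUr.to_le hIle) fun x hx => ?_
      rcases h.all x (hM'.mem_primes hx) with rfl | rfl
      swap
      · exact hIle.trans hUQ
      refine c.cfpf (hM'.inv_Ox x).1 (isPGroup_Ox x M') hUI.1 hUr hx.1 hrM.1 h.ne.symm hUc (hB.1 hb)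
        (hUM'.trans (self_le_normalizer_Ox x M')) (le_trans (le_of_eq (le_bot_iff.1 ?_)) bot_le)
      rw [← h.symm.pq' hP hPr hM' hm']
      exact le_inf inf_le_left ((c.inf_cent_le (hM'.inv_Ox x).1 (hB.1 hb) hb1).trans hbP)
  have hfix : ∀ e ∈ c.A, e ∉ B → U ⊓ Subgroup.centralizer {e} = ⊥ := fun e he heB => by
    refine le_bot_iff.1 (le_trans ?_ (h.pq' hHq hq' hM hm).le)
    refine le_inf (inf_le_left.trans hUO) (le_trans (le_inf inf_le_left ?_) ((c.inf_centA_le hUI.1).trans hHq.2.1))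
    rw [← hyp_sup hB he heB]
    refine Subgroup.le_centralizer_iff.1 (sup_le (fun b hb => Subgroup.centralizer_le inf_le_left (hBU b hb))
      (Subgroup.zpowers_le.2 (cent_singleton_swap inf_le_right)))
  have hzM : c.z q ≤ M := hM.z_le h.hs.crit hqM
  have hzU : c.z q ≤ Subgroup.normalizer (U : Set G) := hU ▸ hzM.trans (self_le_normalizer_Zc r M)
  have houtB : ∀ e ∈ c.A, e ∉ B → ∀ t ∈ c.z q, ⁅t, e⁆ ∈ Subgroup.centralizer (U : Set G) :=
    fun e he heB t ht => by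
      refine c.cfpf hUI.1 hUr hzI.1 (h.W_p.to_le inf_le_left) hrM.1 hqM.1 h.ne (Two.z_comm c q) he hzU ?_
        (Subgroup.commutator_mem_commutator ht (Subgroup.mem_zpowers e))
      rw [hfix e he heB]; exact bot_le
  have hall : ∀ a ∈ c.A, ∀ t ∈ c.z q, ⁅t, a⁆ ∈ Subgroup.centralizer (U : Set G) := fun a ha t ht => by
    by_cases haB : a ∈ B
    swap
    · exact houtB a ha haB t ht
    obtain ⟨e, he, heB⟩ : ∃ e ∈ c.A, e ∉ B := by
      by_contra hno
      push Not at hno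
      have h2 := hB.2
      rw [le_antisymm hB.1 hno] at h2
      exact hp.out.one_lt.ne' (mul_eq_right₀ Nat.card_pos.ne' |>.1 h2.symm)
    have hae : a * e ∉ B := fun h' => heB ((mul_mem_cancel_left haB).1 h')
    have key : ⁅t, a⁆ = ⁅t, a * e⁆ * ((a * e) * ⁅t, e⁻¹⁆ * (a * e)⁻¹) := by
      simp only [commutatorElement_def]; group
    rw [key]
    refine mul_mem (houtB _ (mul_mem ha he) hae t ht) (nrm ?_ (houtB _ (inv_mem he) (fun h' => heB (by
      simpa using inv_mem h')) t ht))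
    exact normalizer_le_normalizer_centralizer U (c.nrm_a hUI.1 (mul_mem ha he))
  refine h.not_cent hM hm hWq hzI (h.z_ne hM hqM) le_rfl (hU ▸ Subgroup.le_centralizer_iff.1 fun t ht => ?_)
  have hZ : c.Stab (c.z q ⊓ Subgroup.centralizer (U : Set G)) :=
    c.stab_inf (c.stab_z h.hs.crit hqM.1) (c.stab_centralizer hUI.stab)
  obtain ⟨v, hv, hvt⟩ := Solv.exists_fixed_in_coset' c.A (c.z q) (c.z q ⊓ Subgroup.centralizer (U : Set G))
    (c.nrmA hzI.1) (c.coprimeA hzI.1) (Or.inr (c.sol hzI.1)) inf_le_left hZ.1 ht fun a ha => by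
      refine Subgroup.mem_inf.2 ⟨mul_mem (inv_mem ht) (nrm (c.nrm_a hzI.1 ha) ht), ?_⟩
      have h4 := hall a ha t⁻¹ (inv_mem ht)
      rw [commutatorElement_def, inv_inv] at h4
      simpa only [mul_assoc] using h4
  have hv1 : v = 1 := Subgroup.mem_bot.1 (hzC ▸ Subgroup.mem_inf.2
    ⟨(Subgroup.mem_inf.1 hv).1, c.inf_centA_le hzI.1 hv⟩)
  rw [hv1, mul_one] at hvt
  exact inv_mem_iff.1 (Subgroup.mem_inf.1 hvt).2

/-- A hyperplane without an element valued in `M`. -/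
def Bad (c : Ctx G p) (M L : Subgroup G) : Prop := c.Hyp L ∧ ∀ l ∈ L, l ≠ 1 → ¬ c.θ l ≤ M

/-- The data of a single mixed colour. -/
structure Uni (c : Ctx G p) (q r : ℕ) (M Hq Hr : Subgroup G) : Prop where
  two : c.Two q r
  cM : c.Colour M
  mix : Mixed M
  uniq : ∀ P, c.Colour P → Mixed P → P = M
  cq : c.Colour Hq
  pq : pi Hq = {q}
  cr : c.Colour Hr
  pr : pi Hr = {r}

variable {M Hq Hr : Subgroup G}

theorem Uni.symm (u : c.Uni q r M Hq Hr) : c.Uni r q M Hr Hq :=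
  ⟨u.two.symm, u.cM, u.mix, u.uniq, u.cr, u.pr, u.cq, u.pq⟩

theorem Uni.bad_cases (u : c.Uni q r M Hq Hr) {L : Subgroup G} (hL : c.Bad M L) {l : G} (hl : l ∈ L)
    (hl1 : l ≠ 1) : c.θ l ≤ Hq ∨ c.θ l ≤ Hr := by
  obtain ⟨P, hP, hlP⟩ := c.theta_colour (hL.1.1 hl) hl1
  rcases u.two.cases hP with hm | hq | hr
  · exact absurd (u.uniq P hP hm ▸ hlP) (hL.2 l hl hl1)
  · exact Or.inl ((u.two.hs.hu Hq q u.cq u.pq).2 P hP hq ▸ hlP)
  · exact Or.inr ((u.two.hs.hu Hr r u.cr u.pr).2 P hP hr ▸ hlP)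

theorem Uni.bad_elt (u : c.Uni q r M Hq Hr) {L : Subgroup G} (hL : c.Bad M L) :
    ∃ l ∈ L, l ≠ 1 ∧ c.θ l ≤ Hq := by
  by_contra hno
  push Not at hno
  exact false_of_monochrome u.two.hs.crit u.cr hL.1 fun l hl hl1 =>
    (u.bad_cases hL hl hl1).resolve_left (hno l hl hl1)

/-- Elements valued in the single colour of `q` centralise the centre of `W q`. -/
theorem Uni.tq (u : c.Uni q r M Hq Hr) (hW : ¬ c.W q ≤ M) {e : G} (he : e ∈ c.A) (he1 : e ≠ 1)
    (heH : c.θ e ≤ Hq) : e ∈ Subgroup.centralizer (c.z q : Set G) := by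
  have hqM := u.two.pi_mixed u.cM u.mix
  have hrM := u.two.symm.pi_mixed u.cM u.mix
  haveI := Fact.mk hqM.1
  have hzI := c.inv_z u.two.hs.crit hqM.1
  obtain ⟨hI, hIle⟩ := c.comm_inv hzI he
  have hzM : c.z q ≤ M := u.cM.z_le u.two.hs.crit hqM
  refine cent_singleton_swap (le_cent_of_commutator (le_bot_iff.1 ?_))
  have hb : c.Yc q M = ⊥ := by
    by_contra hne
    refine hW (grC u.two.hs.crit (u.two.term u.cM u.mix) (u.cM.inv_Yc u.two.hs.crit hqM.1) hne (fun s hs' => ?_)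
      (c.W_spec u.two.hs.crit hqM.1).1.1 ((Subgroup.le_centralizer_iff.1 (inf_le_left.trans inf_le_right)).trans
        (Subgroup.centralizer_le_normalizer _)))
    rcases eq_or_ne s q with rfl | hne'
    · exact inf_le_left.trans (c.z_cent (u.cM.Ox_le_W s))
    · exact inf_le_right.trans (Ox_cent_Ox hqM.1 hs' hne'.symm)
  rw [← hb]
  refine le_inf hIle (u.cM.le_Ox_of_comm hqM.1 (hIle.trans hzM) (u.two.W_p.to_le (hIle.trans inf_le_left))
    fun x hx => ?_)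
  rcases u.two.all x (u.cM.mem_primes hx) with rfl | rfl
  · exact hIle.trans (c.z_cent (u.cM.Ox_le_W x))
  refine c.cfpf (u.cM.inv_Ox x).1 (isPGroup_Ox x M) hzI.1 (u.two.W_p.to_le inf_le_left) hx.1 hqM.1 u.two.ne
    (Two.z_comm c q) he (hzM.trans (self_le_normalizer_Ox x M)) (le_trans (le_of_eq (le_bot_iff.1 ?_)) bot_le)
  rw [← u.two.pq' u.cq u.pq u.cM u.mix]
  exact le_inf inf_le_left ((c.inf_cent_le (u.cM.inv_Ox x).1 he he1).trans heH)

theorem Uni.S_le (u : c.Uni q r M Hq Hr) (hW : ¬ c.W q ≤ M)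
    (hX : ∀ L, c.Bad M L → c.z q ⊓ Subgroup.centralizer (L : Set G) ≠ ⊥) : Ox r Hr ≤ M := by
  have hc := u.two.hs.crit
  have hqM := u.two.pi_mixed u.cM u.mix
  have hrM := u.two.symm.pi_mixed u.cM u.mix
  haveI := Fact.mk hqM.1
  haveI := Fact.mk hrM.1
  obtain ⟨S, hS⟩ : ∃ S, S = Ox r Hr := ⟨_, rfl⟩
  rw [← hS]
  have hSr : IsPGroup r S := hS ▸ isPGroup_Ox r Hr
  have hOS : Ox r M ≤ Subgroup.normalizer (S : Set G) :=
    hS ▸ ((u.cM.Ox_le_W r).trans (u.two.hs.hu Hr r u.cr u.pr).1).trans (self_le_normalizer_Ox r Hr)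
  obtain ⟨R, hR⟩ : ∃ R, R = S ⊔ Ox r M := ⟨_, rfl⟩
  have hSR : S ≤ R := hR ▸ le_sup_left
  have hRr : IsPGroup r R := by
    rw [hR, sup_comm]
    exact (isPGroup_Ox r M).to_sup_of_normal_right' hSr hOS
  have hRI : c.Inv R := ⟨hR ▸ c.fam_sup (hS ▸ u.cr.inv_Ox r).1 (u.cM.inv_Ox r).1 hOS,
    (hR ▸ c.stab_sup (hS ▸ u.cr.stab_Ox r) (u.cM.stab_Ox r) : c.Stab R).2⟩
  obtain ⟨V, hV⟩ : ∃ V, V = R ⊓ M := ⟨_, rfl⟩
  have hVI : c.Inv V := c.inv_of_le hRI.1 (hV ▸ inf_le_left) (hV ▸ c.stab_inf hRI.stab u.cM.inv.stab)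
  obtain ⟨N, hN⟩ : ∃ N, N = R ⊓ Subgroup.normalizer (V : Set G) := ⟨_, rfl⟩
  have hNI : c.Inv N := c.inv_of_le hRI.1 (hN ▸ inf_le_left)
    (hN ▸ c.stab_inf hRI.stab (c.stab_normalizer hVI.stab))
  suffices hNM : N ≤ M by
    have hRV : R ≤ V := le_of_normalizer_le hRr (hV ▸ inf_le_left)
      ((le_inf inf_le_left (hN.symm.le.trans hNM)).trans hV.ge)
    exact hSR.trans (hRV.trans (hV.le.trans inf_le_right))
  refine c.le_of_gen hNI.1 (inf_le_right.trans u.cM.2.1) fun L hL => ?_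
  by_cases hgood : ∃ l ∈ L, l ≠ 1 ∧ c.θ l ≤ M
  · obtain ⟨l, hl, hl1, hlM⟩ := hgood
    exact (c.inf_centD_le hNI.1 hL.1 hl hl1).trans hlM
  push Not at hgood
  have hbad : c.Bad M L := ⟨hL, hgood⟩
  obtain ⟨e, he, he1, heH⟩ := u.bad_elt hbad
  obtain ⟨f, hf, hf1, hfH⟩ := u.symm.bad_elt hbad
  obtain ⟨X, hXdef⟩ : ∃ X, X = c.z q ⊓ Subgroup.centralizer (L : Set G) := ⟨_, rfl⟩
  have hXz : X ≤ c.z q := hXdef ▸ inf_le_left
  have hXI : c.Inv X := c.inv_of_le (c.inv_z hc hqM.1).1 hXz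
    (hXdef ▸ c.stab_inf (c.stab_z hc hqM.1) (c.stab_centralizer (c.stab_of_le_A hL.1)))
  have hXHr : X ≤ Hr := hXdef ▸ (c.inf_centD_le (c.inv_z hc hqM.1).1 hL.1 hf hf1).trans hfH
  have hXM : X ≤ M := hXz.trans (u.cM.z_le hc hqM)
  have hXQ : X ≤ Ox q Hq := by
    refine u.cq.le_Ox_of_comm hqM.1 (hXz.trans (u.cq.z_le hc (prime_of_pi_eq u.pq)))
      (u.two.W_p.to_le (hXz.trans inf_le_left)) fun x hx => ?_
    rw [u.pq, Set.mem_singleton_iff] at hx
    subst hx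
    exact hXz.trans (c.z_cent (u.cq.Ox_le_W x))
  have hXR : X ≤ Subgroup.normalizer (V : Set G) := fun g hg => mem_normalizer_of_cj_le (by
    have h1 : g ∈ Subgroup.normalizer (R : Set G) := mem_normalizer_of_cj_le (by
      rw [hR, cj_sup, cj_eq_self (hS ▸ self_le_normalizer_Ox r Hr (hXHr hg)),
        cj_eq_self (self_le_normalizer_Ox r M (hXM hg))])
    rw [hV, cj_inf, cj_eq_self h1, cj_eq_self_of_mem (hXM hg)])
  -- the elements fixed by `L` centralise `X`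
  have hnX : N ⊓ Subgroup.centralizer (L : Set G) ≤ Subgroup.centralizer (X : Set G) := by
    intro n hn
    obtain ⟨hnN, hnL⟩ := Subgroup.mem_inf.1 hn
    have hnS : n ∈ S := by
      obtain ⟨v, hv, hvn⟩ : ∃ v ∈ S ⊓ Subgroup.centralizer (L : Set G), v⁻¹ * n ∈ Ox r M := by
        have hnR : n ∈ R := (hN ▸ inf_le_left : N ≤ R) hnN
        have hset : (R : Set G) = (S : Set G) * (Ox r M : Set G) :=
          hR ▸ Subgroup.coe_mul_of_right_le_normalizer_left S (Ox r M) hOS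
        obtain ⟨v, hv, o, ho, (rfl : v * o = n)⟩ := (Set.ext_iff.1 hset n).1 hnR
        obtain ⟨w, hw, hvw⟩ := Solv.exists_fixed_in_coset' L S (S ⊓ Ox r M)
          (hL.1.trans (hS ▸ c.nrmA (u.cr.inv_Ox r).1))
          (((c.coprimeA (u.cr.inv_Ox r).1).coprime_dvd_left (Subgroup.card_dvd_of_le hL.1)).coprime_dvd_right
            (hS ▸ dvd_rfl))
          (Or.inl (Group.isSolvable_of_comm fun a b => Subtype.ext (c.comm (hL.1 a.2) (hL.1 b.2))))
          inf_le_left (fun a ha => mem_normalizer_of_cj_le (by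
            rw [cj_inf, cj_eq_self (hS ▸ c.nrm_a (u.cr.inv_Ox r).1 (hL.1 ha)),
              cj_eq_self (c.nrm_a (u.cM.inv_Ox r).1 (hL.1 ha))])) hv fun a ha => by
          refine Subgroup.mem_inf.2 ⟨mul_mem (inv_mem hv) (nrm (hS ▸ c.nrm_a (u.cr.inv_Ox r).1 (hL.1 ha)) hv), ?_⟩
          have h1 : a * (v * o) * a⁻¹ = v * o := by
            rw [Subgroup.mem_centralizer_iff.1 hnL a ha, mul_inv_cancel_right]
          rw [show v⁻¹ * (a * v * a⁻¹) = o * (a * o * a⁻¹)⁻¹ by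
            calc v⁻¹ * (a * v * a⁻¹) = v⁻¹ * (a * (v * o) * a⁻¹) * (a * o * a⁻¹)⁻¹ := by group
              _ = _ := by rw [h1]; group]
          exact mul_mem ho (inv_mem (nrm (c.nrm_a (u.cM.inv_Ox r).1 (hL.1 ha)) ho))
        refine ⟨w, hw, ?_⟩
        rw [show w⁻¹ * (v * o) = (v⁻¹ * w)⁻¹ * o by group]
        exact mul_mem (inv_mem (Subgroup.mem_inf.1 hvw).2) ho
      have h1 : v⁻¹ * n = 1 := Subgroup.mem_bot.1 (u.two.pq' u.cq u.pq u.cM u.mix ▸ Subgroup.mem_inf.2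
        ⟨hvn, heH (c.inf_centD_le (u.cM.inv_Ox r).1 hL.1 he he1 (Subgroup.mem_inf.2
          ⟨hvn, mul_mem (inv_mem (Subgroup.mem_inf.1 hv).2) hnL⟩))⟩)
      exact inv_mul_eq_one.1 h1 ▸ (Subgroup.mem_inf.1 hv).1
    have hnQ : n ∈ Hq := heH (c.inf_centD_le hNI.1 hL.1 he he1 hn)
    refine Subgroup.mem_centralizer_iff.2 fun x hx => ?_
    exact (comm_one (inf_bot_of_ne hrM.1 hqM.1 u.two.ne.symm hSr (isPGroup_Ox q Hq)) hnS (hXQ hx)
      (hS ▸ self_le_normalizer_Ox r Hr (hXHr hx)) (self_le_normalizer_Ox q Hq hnQ)).symm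
  obtain ⟨U, hU⟩ : ∃ U, U = ⁅V, X⁆ := ⟨_, rfl⟩
  have hUV : U ≤ V := hU ▸ Subgroup.commutator_le.2 fun a ha b hb => comm_mem_left (hXR hb) ha
  have hUI : c.Inv U := c.inv_of_le hVI.1 hUV (hU ▸ c.stab_commutator hVI.stab hXI.stab)
  have hUO : U ≤ Ox r M := hU ▸ u.two.lk u.cq u.pq u.cM u.mix (hV ▸ inf_le_right)
    (hRr.to_le (hV ▸ inf_le_left)) hXz hXR
  have hUne : U ≠ ⊥ := fun hb => by
    refine u.two.not_cent u.cM u.mix hW hXI (hXdef ▸ hX L hbad) hXz ?_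
    refine le_trans ?_ ((Subgroup.commutator_eq_bot_iff_le_centralizer).1 (hU ▸ hb))
    exact (Zc_le_Ox r M).trans (hV ▸ le_inf (hR ▸ le_sup_right) (SSF.Ox_le r M))
  refine u.two.norm2 u.cM u.mix hUI hUne (Two.full_cent hqM ?_) (Two.full_cent hrM ?_)
    (c.fam_le hNI.1 inf_le_left (c.stab_inf hNI.stab (c.stab_centralizer (c.stab_of_le_A hL.1))).1)
    fun g hg => mem_normalizer_of_cj_le (by
      rw [hU, cj_commutator, cj_eq_self ((hN ▸ inf_le_right : N ≤ _) (Subgroup.mem_inf.1 hg).1),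
        cj_eq_self (Subgroup.centralizer_le_normalizer _ (hnX hg))])
  · exact ((Zc_le_Ox q M).trans (Ox_cent_Ox hqM.1 hrM.1 u.two.ne)).trans (Subgroup.centralizer_le hUO)
  · exact inf_le_right.trans (Subgroup.centralizer_le hUO)

theorem Uni.W_le (u : c.Uni q r M Hq Hr) (hW : ¬ c.W q ≤ M) (hSM : Ox r Hr ≤ M) : False := by
  have hc := u.two.hs.crit
  have hqM := u.two.pi_mixed u.cM u.mix
  have hrM := u.two.symm.pi_mixed u.cM u.mix
  haveI := Fact.mk hqM.1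
  haveI := Fact.mk hrM.1
  have hrH := prime_of_pi_eq u.pr
  have hOH : Ox r M ≤ Hr := (u.cM.Ox_le_W r).trans (u.two.hs.hu Hr r u.cr u.pr).1
  -- bad hyperplanes centralise `z q`
  have hbadz : ∀ L, c.Bad M L → L ≤ Subgroup.centralizer (c.z q : Set G) := by
    intro L hL
    refine (le_or_le_of_cover fun l hl => ?_).resolve_right (b := L ≤ Subgroup.centralizer (Zc r Hr : Set G))
      fun hLZ => ?_
    · rcases eq_or_ne l 1 with rfl | hl1
      · exact Or.inl (one_mem _)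
      refine (u.bad_cases hL hl hl1).imp (u.tq hW (hL.1.1 hl) hl1) fun hlH => ?_
      refine cent_singleton_swap (le_cent_of_commutator (by_contra fun hne => hL.2 l hl hl1 ?_))
      obtain ⟨hI, hIle⟩ := c.comm_inv (u.cr.inv_Zc r) (hL.1.1 hl)
      have hIM : ⁅Zc r Hr, Subgroup.zpowers l⁆ ≤ M := hIle.trans ((Zc_le_Ox r Hr).trans hSM)
      have hIr := (isPGroup_Zc r Hr).to_le hIle
      refine u.two.norm2 u.cM u.mix hI hne (Two.full_cent hqM ?_) ?_ (c.theta_fam (hL.1.1 hl) hl1)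
        fun g hg => mem_normalizer_of_cj_le (cj_comm_zpowers (self_le_normalizer_Zc r Hr (hlH hg))
          (Subgroup.mem_centralizer_singleton_iff.1 (c.theta_cent (hL.1.1 hl) hl1 hg))).le
      · refine (Zc_le_Ox q M).trans (Subgroup.le_centralizer_iff.1 ?_)
        refine c.cfpf (u.cM.inv_Ox q).1 (isPGroup_Ox q M) (u.cr.inv_Zc r).1 (isPGroup_Zc r Hr) hqM.1 hrM.1
          u.two.ne.symm (Zc_comm r Hr) (hL.1.1 hl)
          (((Zc_le_Ox r Hr).trans hSM).trans (self_le_normalizer_Ox q M)) (le_trans (le_of_eq (le_bot_iff.1 ?_)) bot_le)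
        rw [← u.two.symm.pq' u.cr u.pr u.cM u.mix]
        exact le_inf inf_le_left ((c.inf_cent_le (u.cM.inv_Ox q).1 (hL.1.1 hl) hl1).trans hlH)
      · obtain ⟨I, hIdef⟩ : ∃ I, I = ⁅Zc r Hr, Subgroup.zpowers l⁆ := ⟨_, rfl⟩
        rw [← hIdef] at hIM hIr ⊢
        have hn : I ≤ Subgroup.normalizer (Zc r M : Set G) := hIM.trans (self_le_normalizer_Zc r M)
        intro hb
        refine meet_center (P := Zc r M ⊔ I) (U := Zc r M)
          ((isPGroup_Zc r M).to_sup_of_normal_left' hIr hn) le_sup_left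
          (sup_le Subgroup.le_normalizer hn) (Zc_ne_bot hrM) (le_bot_iff.1 (le_trans ?_ hb.le))
        exact inf_le_inf_left _ (Subgroup.centralizer_le (show I ≤ Zc r M ⊔ I from le_sup_right))
    · obtain ⟨k, hk, hk1, hkH⟩ := u.bad_elt hL
      have hZH : Zc r Hr ≤ Hq := ((le_inf le_rfl (Subgroup.le_centralizer_iff.1 hLZ)).trans
        (c.inf_centD_le (u.cr.inv_Zc r).1 hL.1.1 hk hk1)).trans hkH
      have hn : Ox r Hr ≤ Subgroup.normalizer (Ox r M : Set G) := hSM.trans (self_le_normalizer_Ox r M)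
      refine meet_center (isPGroup_Ox r Hr) (U := Ox r Hr ⊓ Ox r M) inf_le_left (fun g hg =>
        mem_normalizer_of_cj_le (by rw [cj_inf, cj_eq_self_of_mem hg, cj_eq_self (hn hg)])) (fun hb => hrM.2 ?_) ?_
      · refine le_bot_iff.1 (le_trans (le_inf (u.cr.le_Ox_of_comm hrM.1 hOH (isPGroup_Ox r M) fun x hx => ?_) le_rfl) hb.le)
        rw [u.pr, Set.mem_singleton_iff] at hx
        subst hx
        exact comm_of_inf ((inf_comm (Ox x M) (Ox x Hr)).trans hb) (hOH.trans (self_le_normalizer_Ox x Hr)) hn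
      · refine le_bot_iff.1 (le_trans ?_ (u.two.pq' u.cq u.pq u.cM u.mix).le)
        exact le_inf (inf_le_left.trans inf_le_right) ((le_inf (inf_le_left.trans inf_le_left) inf_le_right).trans hZH)
  refine hW (c.le_of_gen (c.W_spec hc hqM.1).1.1 (inf_le_right.trans u.cM.2.1) fun L hL => ?_)
  by_cases hgood : ∃ l ∈ L, l ≠ 1 ∧ c.θ l ≤ M
  · obtain ⟨l, hl, hl1, hlM⟩ := hgood
    exact (c.inf_centD_le (c.W_spec hc hqM.1).1.1 hL.1 hl hl1).trans hlM
  push Not at hgood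
  obtain ⟨f, hf, hf1, hfH⟩ := u.symm.bad_elt ⟨hL, hgood⟩
  have hzI := c.inv_z hc hqM.1
  have hzH : c.z q ≤ Hr := ((le_inf le_rfl (Subgroup.le_centralizer_iff.1 (hbadz L ⟨hL, hgood⟩))).trans
    (c.inf_centD_le hzI.1 hL.1 hf hf1)).trans hfH
  have hzS : c.z q ≤ Subgroup.normalizer (Ox r Hr : Set G) := hzH.trans (self_le_normalizer_Ox r Hr)
  obtain ⟨U, hU⟩ : ∃ U, U = ⁅Ox r Hr, c.z q⁆ := ⟨_, rfl⟩
  have hUS : U ≤ Ox r Hr := hU ▸ Subgroup.commutator_le.2 fun a ha b hb => comm_mem_left (hzS hb) ha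
  have hUI : c.Inv U := c.inv_of_le (u.cr.inv_Ox r).1 hUS
    (hU ▸ c.stab_commutator (u.cr.stab_Ox r) (c.stab_z hc hqM.1))
  have hUO : U ≤ Ox r M := hU ▸ u.two.lk u.cq u.pq u.cM u.mix hSM (isPGroup_Ox r Hr) le_rfl hzS
  have hUne : U ≠ ⊥ := fun hb => by
    refine u.two.z_ne u.cM hqM (u.cr.eq_bot_of_comm hqM.1 hzH (u.two.W_p.to_le inf_le_left)
      (fun hx => u.two.ne (by rw [u.pr] at hx; exact hx)) fun x hx => ?_)
    rw [u.pr, Set.mem_singleton_iff] at hx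
    subst hx
    exact Subgroup.le_centralizer_iff.1 ((Subgroup.commutator_eq_bot_iff_le_centralizer).1 (hU ▸ hb))
  refine u.two.norm2 u.cM u.mix hUI hUne (Two.full_cent hqM ?_) (Two.full_cent hrM ?_)
    (c.fam_le (c.W_spec hc hqM.1).1.1 inf_le_left
      (c.stab_inf (c.W_spec hc hqM.1).1.stab (c.stab_centralizer (c.stab_of_le_A hL.1))).1)
    fun g hg => mem_normalizer_of_cj_le (by
      rw [hU, cj_commutator,
        cj_eq_self (self_le_normalizer_Ox r Hr (hfH (c.inf_centD_le (c.W_spec hc hqM.1).1.1 hL.1 hf hf1 hg))),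
        cj_eq_self (Subgroup.centralizer_le_normalizer _ ((Subgroup.le_centralizer_iff.1
          (show c.z q ≤ Subgroup.centralizer (c.W q : Set G) from inf_le_right)) (Subgroup.mem_inf.1 hg).1))])
  · exact ((Zc_le_Ox q M).trans (Ox_cent_Ox hqM.1 hrM.1 u.two.ne)).trans (Subgroup.centralizer_le hUO)
  · exact inf_le_right.trans (Subgroup.centralizer_le hUO)

theorem Uni.fixed_inter (u : c.Uni q r M Hq Hr) {D K : Subgroup G} (hD : c.Hyp D) (hK : K ≤ D)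
    (hKne : K ≠ D) (hT : ∀ d ∈ D, d ∉ K → c.θ d ≤ Hr) :
    Ox q M ≤ Subgroup.centralizer (K : Set G) := by
  have hI := u.cM.inv_Ox q
  have hDe : Cfsg.IsElementaryAbelian p D :=
    ⟨⟨⟨fun a b => Subtype.ext (c.comm (hD.1 a.2) (hD.1 b.2))⟩⟩, fun d hd => c.pow_p (hD.1 hd)⟩
  refine (Solv.gen_eq D (Ox q M) hDe.1 (hD.1.trans (c.nrmA hI.1))
    ((c.coprimeA hI.1).coprime_dvd_left (Subgroup.card_dvd_of_le hD.1))).ge.trans (iSup₂_le fun B hB => ?_)
  by_cases hBK : B ≤ K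
  · suffices B = K from this ▸ inf_le_right
    refine Subgroup.eq_of_le_of_card_ge hBK ?_
    have h1 := card_le_mul_of_cycQuot hDe hB
    obtain ⟨k, hk⟩ := Subgroup.card_dvd_of_le hK
    obtain ⟨n, hn⟩ := IsPGroup.iff_card.1 (elab_isPGroup hDe)
    obtain ⟨i, -, rfl⟩ := (Nat.dvd_prime_pow hp.out).1 (show k ∣ p ^ n from ⟨Nat.card K, by rw [← hn, hk, mul_comm]⟩)
    have hi : i ≠ 0 := fun h => hKne (Subgroup.eq_of_le_of_card_ge hK (by rw [hk, h, pow_zero, mul_one]))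
    rw [hk] at h1
    have h2 : Nat.card K * p ≤ Nat.card B * p :=
      ((Nat.mul_le_mul_left _ (Nat.le_self_pow hi p)).trans h1).trans (mul_comm _ _).le
    exact Nat.le_of_mul_le_mul_right h2 hp.out.pos
  · obtain ⟨b, hb, hbK⟩ := SetLike.not_le_iff_exists.1 hBK
    have hb1 : b ≠ 1 := fun h => hbK (h ▸ one_mem K)
    refine le_trans (le_of_eq (le_bot_iff.1 ?_)) bot_le
    rw [← u.two.symm.pq' u.cr u.pr u.cM u.mix]
    exact le_inf inf_le_left (((inf_le_inf_left _ (Subgroup.centralizer_le (by simpa using hb))).trans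
      (c.inf_cent_le hI.1 (hD.1 (hB.1 hb)) hb1)).trans (hT b (hB.1 hb) hbK))

theorem Uni.choose (u : c.Uni q r M Hq Hr) (hq : ¬ c.W q ≤ M) (hr : ¬ c.W r ≤ M) :
    (∀ L, c.Bad M L → c.z q ⊓ Subgroup.centralizer (L : Set G) ≠ ⊥) ∨
      ∀ L, c.Bad M L → c.z r ⊓ Subgroup.centralizer (L : Set G) ≠ ⊥ := by
  by_contra hno
  push Not at hno
  obtain ⟨⟨D, hD, hDz⟩, L, hL, hLz⟩ := hno
  have key : ∀ {q r : ℕ} {Hq Hr D L : Subgroup G}, c.Uni q r M Hq Hr → ¬ c.W q ≤ M → ¬ c.W r ≤ M →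
      c.Bad M D → c.z q ⊓ Subgroup.centralizer (D : Set G) = ⊥ →
      c.Bad M L → c.z r ⊓ Subgroup.centralizer (L : Set G) = ⊥ →
      D ≤ Subgroup.centralizer (c.z r : Set G) ∧ ∀ e ∈ c.A, e ≠ 1 → c.θ e ≤ Hr → e ∈ D := by
    intro q r Hq Hr D L u hq hr hD hDz hL hLz
    have hrM := u.two.symm.pi_mixed u.cM u.mix
    have hqM := u.two.pi_mixed u.cM u.mix
    have hDr : D ≤ Subgroup.centralizer (c.z r : Set G) := by
      refine (le_or_le_of_cover fun l hl => ?_).resolve_left (a := D ≤ Subgroup.centralizer (c.z q : Set G))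
        fun hle => u.two.z_ne u.cM hqM (le_bot_iff.1 ((le_inf le_rfl (Subgroup.le_centralizer_iff.1 hle)).trans hDz.le))
      rcases eq_or_ne l 1 with rfl | hl1
      · exact Or.inl (one_mem _)
      exact (u.bad_cases hD hl hl1).imp (u.tq hq (hD.1.1 hl) hl1) (u.symm.tq hr (hD.1.1 hl) hl1)
    refine ⟨hDr, fun e he he1 heH => by_contra fun heD => ?_⟩
    have hA : c.A ≤ Subgroup.centralizer (c.z r : Set G) :=
      (hyp_sup hD.1 he heD).ge.trans (sup_le hDr (Subgroup.zpowers_le.2 (u.symm.tq hr he he1 heH)))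
    exact u.two.symm.z_ne u.cM hrM (le_bot_iff.1 ((le_inf le_rfl (Subgroup.le_centralizer_iff.1
      (hL.1.1.trans hA))).trans hLz.le))
  obtain ⟨hDr, hTD⟩ := key u hq hr hD hDz hL hLz
  obtain ⟨hLq, hTL⟩ := key u.symm hr hq hL hLz hD hDz
  have hne : D ≠ L := fun h => u.two.z_ne u.cM (u.two.pi_mixed u.cM u.mix)
    (le_bot_iff.1 ((le_inf le_rfl (Subgroup.le_centralizer_iff.1 (h ▸ hLq))).trans hDz.le))
  have hcard : Nat.card D = Nat.card L :=
    Nat.eq_of_mul_eq_mul_left hp.out.pos (hD.1.2.symm.trans hL.1.2)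
  have h1 : D ⊓ L ≠ D := fun h => hne (Subgroup.eq_of_le_of_card_ge (h ▸ inf_le_right) hcard.ge)
  have h2 : D ⊓ L ≠ L := fun h => hne (Subgroup.eq_of_le_of_card_ge (h ▸ inf_le_left) hcard.le).symm
  have hq' := u.fixed_inter hD.1 inf_le_left h1 fun d hd hdK => by
    have hd1 : d ≠ 1 := fun h => hdK (h ▸ one_mem _)
    exact (u.bad_cases hD hd hd1).resolve_left fun h => hdK ⟨hd, hTL d (hD.1.1 hd) hd1 h⟩
  have hr' := u.symm.fixed_inter hL.1 inf_le_right h2 fun d hd hdK => by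
    have hd1 : d ≠ 1 := fun h => hdK (h ▸ one_mem _)
    exact (u.bad_cases hL hd hd1).resolve_right fun h => hdK ⟨hTD d (hL.1.1 hd) hd1 h, hd⟩
  obtain ⟨x, hx, hx1⟩ := (Subgroup.bot_or_exists_ne_one (D ⊓ L)).resolve_left (inf_hyp_ne_bot hD.1 hL.1)
  have hxD := (Subgroup.mem_inf.1 hx).1
  have hfix : ∀ t : ℕ, Ox t M ≤ Subgroup.centralizer ((D ⊓ L : Subgroup G) : Set G) → Ox t M ≤ c.θ x :=
    fun t ht => (le_inf le_rfl (ht.trans (Subgroup.centralizer_le (by simpa using hx)))).trans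
      (c.inf_cent_le (u.cM.inv_Ox t).1 (hD.1.1 hxD) hx1)
  rcases u.bad_cases hD hxD hx1 with h | h
  · exact (u.two.symm.pi_mixed u.cM u.mix).2 (le_bot_iff.1
      ((le_inf le_rfl ((hfix r hr').trans h)).trans (u.two.pq' u.cq u.pq u.cM u.mix).le))
  · exact (u.two.pi_mixed u.cM u.mix).2 (le_bot_iff.1
      ((le_inf le_rfl ((hfix q hq').trans h)).trans (u.two.symm.pq' u.cr u.pr u.cM u.mix).le))

theorem Two.false (h : c.Two q r) : False := by
  obtain ⟨⟨Hq, hHq, hq'⟩, Hr, hHr, hr'⟩ := h.both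
  by_cases hmix : ∃ M, c.Colour M ∧ Mixed M
  swap
  · refine h.two_colours hHq hHr fun P hP => ?_
    rcases h.cases hP with hm | hq | hr
    exacts [absurd ⟨P, hP, hm⟩ hmix, Or.inl ((h.hs.hu Hq q hHq hq').2 P hP hq),
      Or.inr ((h.hs.hu Hr r hHr hr').2 P hP hr)]
  obtain ⟨M, hM, hm⟩ := hmix
  by_cases huniq : ∀ P, c.Colour P → Mixed P → P = M
  swap
  · push Not at huniq
    obtain ⟨N, hN, hn, hne⟩ := huniq
    have h1 : c.W q ≤ M ∨ c.W r ≤ N :=
      not_and_or.1 (fun hh => hne (h.same_of_lack hM hm hN hn hh.1 hh.2).symm) |>.imp not_not.1 not_not.1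
    have h2 : c.W q ≤ N ∨ c.W r ≤ M :=
      not_and_or.1 (fun hh => hne (h.same_of_lack hN hn hM hm hh.1 hh.2)) |>.imp not_not.1 not_not.1
    rcases h1 with h1 | h1
    · exact h.symm.several hM hm hN hn hne.symm h1 (h2.resolve_right fun h' => h.two_W hM hm hM hm h1 h')
    · exact h.several hM hm hN hn hne.symm (h2.resolve_left fun h' => h.two_W hN hn hN hn h' h1) h1
  have u : c.Uni q r M Hq Hr := ⟨h, hM, hm, huniq, hHq, hq', hHr, hr'⟩
  by_cases hq : c.W q ≤ M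
  · exact u.symm.W_le (fun hr => h.two_W hM hm hM hm hq hr) ((hHq.Ox_le_W q).trans hq)
  by_cases hr : c.W r ≤ M
  · exact u.W_le hq ((hHr.Ox_le_W r).trans hr)
  rcases u.choose hq hr with hX | hX
  · exact u.W_le hq (u.S_le hq hX)
  · exact u.symm.W_le hr (u.symm.S_le hr hX)

end Ctx

end Cfsg.Agent.SSF
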