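import Cfsg.Agent.Lib.SSF.Climb
import Cfsg.Agent.Lib.SSF.TwoFalse

/-!
The invariant subgroups acting as groups of prime power order on the fixed points of an invariant
subgroup on the centre of the core lie in the colour.
-/

set_option autoImplicit false
set_option linter.style.haveILetI false

open Cfsg Cfsg.Agent Cfsg.Agent.Fusion
open scoped commutatorElement Pointwise

namespace Cfsg.Agent.SSF

universe u

variable {G : Type u} [Group G] [Finite G] {p q : ℕ} [hp : Fact p.Prime] [hq : Fact q.Prime]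

omit hp in
/-- A subgroup that is a `q`-group above a normal subgroup is covered by a Sylow subgroup. -/
theorem le_sup_sylow {N D T : Subgroup G} (hDN : D ≤ N) (hn : N ≤ Subgroup.normalizer (D : Set G))
    (hq' : ∀ g ∈ N, ∃ k : ℕ, g ^ q ^ k ∈ D) (hT : Solv.IsSylIn q T N) : N ≤ D ⊔ T := by
  have hTN : T ≤ N := hT.1
  haveI : (D.subgroupOf N).Normal := (Subgroup.normal_subgroupOf_iff_le_normalizer hDN).2 hn
  have hq2 : IsPGroup q (N ⧸ D.subgroupOf N) := fun y => by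
    obtain ⟨g, rfl⟩ := QuotientGroup.mk_surjective y
    obtain ⟨k, hk⟩ := hq' g g.2
    exact ⟨k, (QuotientGroup.eq_one_iff _).2 (by rwa [Subgroup.mem_subgroupOf, Subgroup.coe_pow])⟩
  obtain ⟨a, ha⟩ := IsPGroup.iff_card.1 hq2
  rw [← Subgroup.index_eq_card] at ha
  have h1 : (D ⊔ T).relIndex N ∣ q ^ a := ha ▸ Subgroup.relIndex_dvd_of_le_left N le_sup_left
  have h2 : (D ⊔ T).relIndex N ∣ T.relIndex N := Subgroup.relIndex_dvd_of_le_left N le_sup_right
  have h3 : ¬ q ∣ T.relIndex N := by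
    intro hd
    have h4 := card_mul_relIndex_of_le hTN
    obtain ⟨m, hm⟩ := hd
    rw [hT.2, hm, ← mul_assoc, ← pow_succ] at h4
    exact Nat.pow_succ_factorization_not_dvd Nat.card_pos.ne' hq.out ⟨m, h4.symm⟩
  obtain ⟨b, -, hb⟩ := (Nat.dvd_prime_pow hq.out).1 h1
  rcases b with _ | b
  · exact Subgroup.relIndex_eq_one.1 (by simpa using hb)
  · exact absurd ((hb ▸ dvd_pow_self q b.succ_ne_zero).trans h2) h3

omit hp hq in
/-- Powers of products when one factor is normalised. -/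
theorem pow_mul_mem {D : Subgroup G} {d t : G} (hd : d ∈ D) (ht : t ∈ Subgroup.normalizer (D : Set G))
    (m : ℕ) : (d * t) ^ m * (t ^ m)⁻¹ ∈ D := by
  induction m with
  | zero => simp
  | succ m ih =>
    have e : (d * t) ^ (m + 1) * (t ^ (m + 1))⁻¹ = d * (t * ((d * t) ^ m * (t ^ m)⁻¹) * t⁻¹) := by
      rw [pow_succ', pow_succ']; group
    rw [e]
    exact mul_mem hd (nrm ht ih)

omit hp hq in
/-- A group generated by a normal subgroup and a `q`-group is a `q`-group modulo the former. -/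
theorem qmod_sup {D T : Subgroup G} (hT : IsPGroup q T) (hn : T ≤ Subgroup.normalizer (D : Set G)) :
    ∀ g ∈ D ⊔ T, ∃ k : ℕ, g ^ q ^ k ∈ D := by
  intro g hg
  have hg' : g ∈ ((D ⊔ T : Subgroup G) : Set G) := hg
  rw [Subgroup.coe_mul_of_right_le_normalizer_left D T hn] at hg'
  obtain ⟨d, hd, t, ht, rfl⟩ := hg'
  obtain ⟨k, hk⟩ := hT ⟨t, ht⟩
  refine ⟨k, ?_⟩
  have h1 := pow_mul_mem hd (hn ht) (q ^ k)
  rwa [show t ^ q ^ k = 1 from congrArg Subtype.val hk, inv_one, mul_one] at h1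

namespace Ctx

variable (c : Ctx G p)

/-- The invariant subgroups of the greatest member at `V` acting on it as groups of `q`-power order. -/
def piHat (q : ℕ) (V : Subgroup G) : Subgroup G :=
  sSup {X | X ≤ c.gr V ∧ c.A ≤ Subgroup.normalizer (X : Set G) ∧ c.C ≤ Subgroup.normalizer (X : Set G) ∧
    c.gr V ⊓ Subgroup.centralizer (V : Set G) ≤ X ∧
      ∀ g ∈ X, ∃ k : ℕ, g ^ q ^ k ∈ Subgroup.centralizer (V : Set G)}

variable {c}

theorem le_piHat (hc : Crit c) {V X : Subgroup G} (hV : c.fam V) (hne : V ≠ ⊥)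
    (hCV : c.C ≤ Subgroup.normalizer (V : Set G)) (hX : c.fam X) (hn : X ≤ Subgroup.normalizer (V : Set G))
    (hXC : c.C ≤ Subgroup.normalizer (X : Set G))
    (hq' : ∀ g ∈ X, ∃ k : ℕ, g ^ q ^ k ∈ Subgroup.centralizer (V : Set G)) : X ≤ c.piHat q V := by
  obtain ⟨hL, hLV, hLgr, hAL⟩ := Ctx.gr_spec hc hV hne
  obtain ⟨D, hD⟩ : ∃ D, D = c.gr V ⊓ Subgroup.centralizer (V : Set G) := ⟨_, rfl⟩
  have hXL := hLgr X hX hn
  have hLD : c.gr V ≤ Subgroup.normalizer (D : Set G) := fun g hg => mem_normalizer_of_cj_le (by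
    rw [hD, cj_inf, cj_centralizer, cj_eq_self_of_mem hg, cj_eq_self (hLV hg)])
  have hAD : c.A ≤ Subgroup.normalizer (D : Set G) := fun g hg => mem_normalizer_of_cj_le (by
    rw [hD, cj_inf, cj_centralizer, cj_eq_self (hAL hg), cj_eq_self (c.nrm_a hV hg)])
  have hCD : c.C ≤ Subgroup.normalizer (D : Set G) := (hLgr _ c.C_fam hCV).trans hLD
  refine (le_sup_left : X ≤ X ⊔ D).trans (le_sSup ⟨sup_le hXL (hD ▸ inf_le_left), ?_, ?_,
    hD ▸ le_sup_right, fun g hg => ?_⟩)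
  · exact fun g hg => mem_normalizer_of_cj_le (by
      rw [cj_sup, cj_eq_self (c.nrm_a hX hg), cj_eq_self (hAD hg)])
  · exact fun g hg => mem_normalizer_of_cj_le (by rw [cj_sup, cj_eq_self (hXC hg), cj_eq_self (hCD hg)])
  · have hg' : g ∈ ((D ⊔ X : Subgroup G) : Set G) := sup_comm X D ▸ hg
    rw [Subgroup.coe_mul_of_right_le_normalizer_left D X (hXL.trans hLD)] at hg'
    obtain ⟨d, hd, t, ht, rfl⟩ := hg'
    obtain ⟨k, hk⟩ := hq' t ht
    refine ⟨k, ?_⟩
    have h1 := (hD ▸ inf_le_right : D ≤ Subgroup.centralizer (V : Set G))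
      (pow_mul_mem hd (hLD (hXL ht)) (q ^ k))
    have h2 := mul_mem h1 hk
    rwa [inv_mul_cancel_right] at h2

theorem piHat_spec (hc : Crit c) {V : Subgroup G} (hV : c.fam V) (hne : V ≠ ⊥)
    (hCV : c.C ≤ Subgroup.normalizer (V : Set G)) :
    c.Inv (c.piHat q V) ∧ c.piHat q V ≤ Subgroup.normalizer (V : Set G) ∧
      c.gr V ⊓ Subgroup.centralizer (V : Set G) ≤ c.piHat q V ∧
        ∀ g ∈ c.piHat q V, ∃ k : ℕ, g ^ q ^ k ∈ Subgroup.centralizer (V : Set G) := by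
  obtain ⟨hL, hLV, hLgr, hAL⟩ := Ctx.gr_spec hc hV hne
  obtain ⟨D, hD⟩ : ∃ D, D = c.gr V ⊓ Subgroup.centralizer (V : Set G) := ⟨_, rfl⟩
  rw [← hD]
  have hLD : c.gr V ≤ Subgroup.normalizer (D : Set G) := fun g hg => mem_normalizer_of_cj_le (by
    rw [hD, cj_inf, cj_centralizer, cj_eq_self_of_mem hg, cj_eq_self (hLV hg)])
  obtain ⟨T, hT, hTA⟩ := Solv.exists_invariant_sylow (c.nrmA hL) (c.coprimeA hL) (Or.inr (c.sol hL)) q
  have hCL : c.C ≤ c.gr V := hLgr _ c.C_fam hCV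
  have hle : c.piHat q V ≤ D ⊔ T := by
    refine sSup_le fun X hX => ?_
    obtain ⟨hXL, hXA, hXC, hDX, hXq⟩ := hX
    rw [← hD] at hDX
    have hXf := c.fam_le hL hXL hXA
    obtain ⟨TX, hTX, hTXA⟩ := Solv.exists_invariant_sylow hXA (c.coprimeA hXf) (Or.inr (c.sol hXf)) q
    obtain ⟨T₂, hT₂, hle₂, hT₂A⟩ := Solv.exists_invariant_sylow_ge (c.nrmA hL) (c.coprimeA hL)
      (Or.inr (c.sol hL)) TX (hTX.1.trans hXL) hTX.isPGroup hTXA
    obtain ⟨g, hg, hge⟩ := Solv.invariant_sylow_conj (c.nrmA hL) (c.coprimeA hL) (Or.inr (c.sol hL))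
      hT₂ hT hT₂A hTA
    rw [Solv.conj_smul_eq_map] at hge
    have hgC : g ∈ c.C := c.inf_centA_le hL hg
    have h1 : X ≤ D ⊔ TX := le_sup_sylow hDX (hXL.trans hLD)
      (fun y hy => (hXq y hy).imp fun k hk => hD ▸ Subgroup.mem_inf.2 ⟨pow_mem (hXL hy) _, hk⟩) hTX
    calc X = cj X g := (cj_eq_self (hXC hgC)).symm
      _ ≤ cj (D ⊔ TX) g := cj_mono h1 g
      _ ≤ D ⊔ T := by
        rw [cj_sup, cj_eq_self (hLD (hCL hgC))]
        exact sup_le_sup_left ((cj_mono hle₂ g).trans hge.le) D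
  have hAC : c.Stab (c.piHat q V) := by
    constructor <;>
    · intro g hg
      rw [piHat, sSup_eq_iSup]
      exact Solv.normalizer_biSup_le _ _ fun X hX => by
        first | exact hX.2.1 hg | exact hX.2.2.1 hg
  have hPL : c.piHat q V ≤ c.gr V := sSup_le fun X hX => hX.1
  refine ⟨c.inv_of_le hL hPL hAC, hPL.trans hLV, ?_, fun g hg => ?_⟩
  · refine le_sSup ⟨hD ▸ inf_le_left, fun g hg => mem_normalizer_of_cj_le ?_, hCL.trans hLD, hD ▸ le_rfl,
      fun g hg => ⟨0, ?_⟩⟩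
    · rw [hD, cj_inf, cj_centralizer, cj_eq_self (hAL hg), cj_eq_self (c.nrm_a hV hg)]
    · rw [pow_zero, pow_one]
      exact (Subgroup.mem_inf.1 (hD ▸ hg)).2
  · exact (qmod_sup hT.isPGroup (hT.1.trans hLD) g (hle hg)).imp fun k hk =>
      (Subgroup.mem_inf.1 (hD ▸ hk)).2

end Ctx

/-- The fixed points of an invariant `q`-subgroup above the core on the centre of the core. -/
structure Base {G : Type u} [Group G] [Finite G] {p : ℕ} [Fact p.Prime] (c : Ctx G p) (q : ℕ)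
    (H R V : Subgroup G) : Prop where
  single : Single c q H
  hRq : IsPGroup q R
  hAR : c.A ≤ Subgroup.normalizer (R : Set G)
  hQR : Ox q H ≤ R
  hRH : R ≤ H
  hV : V = omegaZ q H ⊓ Subgroup.centralizer (R : Set G)
  hCV : c.C ≤ Subgroup.normalizer (V : Set G)

namespace Base

variable {c : Ctx G p} {H R V : Subgroup G} (b : Base c q H R V)

include b

theorem le_omega : V ≤ omegaZ q H := b.hV.le.trans inf_le_left

theorem V_fam : c.fam V := by
  refine c.fam_le b.single.colour.1 (b.le_omega.trans ((omegaZ_le H).trans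
    ((Zc_le_Ox q H).trans (Ox_le q H)))) fun a ha => mem_normalizer_of_cj_le ?_
  rw [b.hV, cj_inf, cj_centralizer, cj_eq_self (b.hAR ha),
    cj_eq_self (normalizer_le_normalizer_omegaZ H (c.nrm_a b.single.colour.1 ha))]

theorem V_ne_bot : V ≠ ⊥ := by
  intro hbot
  have hZne : omegaZ q H ≠ ⊥ := fun h =>
    b.single.U_ne_bot (le_bot_iff.1 (h ▸ b.single.U_le_omega))
  refine meet_center b.hRq (((omegaZ_le H).trans (Zc_le_Ox q H)).trans b.hQR)
    (b.hRH.trans (Subgroup.le_normalizer.trans (normalizer_le_normalizer_omegaZ H))) hZne ?_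
  rw [← b.hV, hbot]

theorem R_fam : c.fam R := c.fam_le b.single.colour.1 b.hRH b.hAR

theorem R_cent : R ≤ Subgroup.centralizer (V : Set G) :=
  Subgroup.le_centralizer_iff.1 (b.hV.le.trans inf_le_right)

theorem spec : c.Inv (c.piHat q V) ∧ c.piHat q V ≤ Subgroup.normalizer (V : Set G) ∧
    c.gr V ⊓ Subgroup.centralizer (V : Set G) ≤ c.piHat q V ∧
      ∀ g ∈ c.piHat q V, ∃ k : ℕ, g ^ q ^ k ∈ Subgroup.centralizer (V : Set G) :=
  Ctx.piHat_spec b.single.crit b.V_fam b.V_ne_bot b.hCV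

theorem cent_le_piHat {X : Subgroup G} (hX : c.fam X) (h : X ≤ Subgroup.centralizer (V : Set G)) :
    X ≤ c.piHat q V :=
  (le_inf (c.le_gr hX (h.trans (Subgroup.centralizer_le_normalizer _))) h).trans b.spec.2.2.1

theorem R_le : R ≤ c.piHat q V := b.cent_le_piHat b.R_fam b.R_cent

theorem caseU (hVU : V ≤ redU q H) {S : Subgroup G} (hS : Solv.IsSylIn q S (c.piHat q V ⊓ H))
    (hRS : R ≤ S) :
    redC q H ≤ c.piHat q V ⊓ H ∧ Solv.IsSylIn q (S ⊓ redC q H) (redC q H) ∧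
      jElem q S = jElem q (S ⊓ redC q H) := by
  have s := b.single
  obtain ⟨X, hX⟩ : ∃ X, X = c.piHat q V ⊓ H := ⟨_, rfl⟩
  rw [← hX] at hS ⊢
  obtain ⟨hPinv, -, -, hPq⟩ := b.spec
  have hCuX : redC q H ≤ X := hX ▸ le_inf (b.cent_le_piHat s.Cu_fam
    ((inf_le_right : redC q H ≤ _).trans (Subgroup.centralizer_le hVU))) s.Cu_le
  have hXH : X ≤ H := hX ▸ inf_le_right
  have hsyl : Solv.IsSylIn q (S ⊓ redC q H) (redC q H) := by
    rw [inf_comm]
    exact Single.fixed_le_U.inter_sylow hS hCuX (hXH.trans s.H_normalizer_Cu)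
  refine ⟨hCuX, hsyl, ?_⟩
  have hXA : c.A ≤ Subgroup.normalizer (X : Set G) := fun a ha => mem_normalizer_of_cj_le (by
    rw [hX, cj_inf, cj_eq_self (c.nrm_a hPinv.1 ha), cj_eq_self (c.nrm_a s.colour.1 ha)])
  have hXC : H ⊓ Subgroup.centralizer (c.A : Set G) ≤ Subgroup.normalizer (X : Set G) := fun g hg =>
    mem_normalizer_of_cj_le (by
      rw [hX, cj_inf, cj_eq_self (hPinv.2 (c.inf_centA_le s.colour.1 hg)),
        cj_eq_self_of_mem (Subgroup.mem_inf.1 hg).1])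
  have hkill : ∀ y ∈ X, (orderOf y).Coprime q →
      y ∈ Subgroup.centralizer (↑(redU q H ⊓ Subgroup.centralizer (S : Set G)) : Set G) := by
    intro y hy hco
    have hle : redU q H ⊓ Subgroup.centralizer (S : Set G) ≤ V :=
      b.hV ▸ inf_le_inf s.U_le_omega (Subgroup.centralizer_le hRS)
    refine Subgroup.centralizer_le hle ?_
    obtain ⟨k, hk⟩ := hPq y (Subgroup.mem_inf.1 (hX ▸ hy)).1
    refine mem_of_coprime_pows (n := orderOf y) hk ?_ (hco.symm.pow_left k)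
    rw [pow_orderOf_eq_one]
    exact one_mem _
  have hall : ∀ E ∈ maxIn (fun A : Subgroup G => IsElementaryAbelian q A) S, E ≤ S ⊓ redC q H := by
    intro E hE
    refine le_inf hE.1 (le_inf (hE.1.trans (hS.1.trans hXH)) ?_)
    rcases good_act s.hq23 s.U_elem c.hA s.A_normalizer_U s.H_normalizer_U (c.nrmA s.colour.1)
        s.colour.sol s.colour.1.2.1 s.U_red hXH hXA hXC hS.1 hS.isPGroup hkill (hE.1.trans hS.1)
        (fun x hx => by rw [hE.2.1.2 x hx]; exact one_mem _)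
        (fun x hx y hy => by
          rw [commutatorElement_eq_one_iff_mul_comm.2 (Local.elemAb_commute hE.2.1 hx hy)]
          exact one_mem _) with h | h
    · exact h
    exfalso
    obtain ⟨C₀, hC₀⟩ : ∃ C₀, C₀ = E ⊓ Subgroup.centralizer (redU q H : Set G) := ⟨_, rfl⟩
    rw [← hC₀] at h
    have hC₀c : C₀ ≤ Subgroup.centralizer (redU q H : Set G) := hC₀ ▸ inf_le_right
    have h1 : Nat.card (redU q H) * Nat.card C₀ ≤
        Nat.card E * Nat.card ↥(redU q H ⊓ Subgroup.centralizer (E : Set G)) := by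
      rw [← Solv.card_sup_mul_card_inf' (redU q H) C₀ (hC₀c.trans (Subgroup.centralizer_le_normalizer _))]
      refine Nat.mul_le_mul (hE.2.2 _ ?_ (Local.elemAb_sup s.U_elem (Local.elemAb_mono hE.2.1 (hC₀ ▸ inf_le_left))
        fun a ha b hb => Subgroup.mem_centralizer_iff.1 (hC₀c hb) a ha)) (Subgroup.card_le_of_le ?_)
      · exact sup_le (s.U_le_Q.trans (b.hQR.trans hRS)) ((hC₀ ▸ inf_le_left : C₀ ≤ E).trans hE.1)
      · exact inf_le_inf_left _ ((hC₀ ▸ inf_le_left : C₀ ≤ E).trans fun e he =>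
          Subgroup.mem_centralizer_iff.2 fun x hx => Local.elemAb_commute hE.2.1 hx he)
    exact no_gain (q := q) Nat.card_pos h (h1.trans (Nat.mul_le_mul_right _
      (Nat.le_mul_of_pos_left _ hq.out.pos))) Nat.card_pos
  rw [jElem, jElem, maxIn_eq_of_le (replFamily_elementary q) inf_le_left hall]

theorem caseNot (hVU : ¬ V ≤ redU q H) : ¬ c.piHat q V ⊓ H ≤ Subgroup.centralizer (V : Set G) := by
  intro hcon
  have s := b.single
  have hc := s.crit
  obtain ⟨Z, hZ⟩ : ∃ Z, Z = redU q H ⊔ ⨆ h ∈ (H : Set G), cj V h := ⟨_, rfl⟩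
  have hZH : H ≤ Subgroup.normalizer (Z : Set G) := fun g hg => mem_normalizer_of_cj_le (by
    rw [hZ, cj_sup, cj_eq_self (s.H_normalizer_U hg)]
    refine sup_le_sup_left ?_ _
    rw [cj, Subgroup.map_iSup]
    refine iSup_le fun h => ?_
    rw [Subgroup.map_iSup]
    exact iSup_le fun hh => le_iSup₂_of_le (g * h) (mul_mem hg hh) (cj_cj V h g).le)
  have hAZ : c.A ≤ Subgroup.normalizer (Z : Set G) := fun a ha => mem_normalizer_of_cj_le (by
    rw [hZ, cj_sup, cj_eq_self (s.A_normalizer_U ha)]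
    refine sup_le_sup_left ?_ _
    rw [cj, Subgroup.map_iSup]
    refine iSup_le fun h => ?_
    rw [Subgroup.map_iSup]
    refine iSup_le fun hh => le_iSup₂_of_le (a * h * a⁻¹) (nrm (c.nrm_a s.colour.1 ha) hh) ?_
    show cj (cj V h) a ≤ _
    have e1 : cj V (a * h) = cj V (a * h * a⁻¹) := by
      rw [← cj_mul_of_norm (c.nrm_a b.V_fam ha) (a * h * a⁻¹), inv_mul_cancel_right]
    rw [cj_cj, e1])
  have hVZ : V ≤ Z := hZ ▸ le_sup_of_le_right
    (le_iSup₂_of_le (f := fun h (_ : h ∈ (H : Set G)) => cj V h) 1 (one_mem _) (cj_one V).ge)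
  have hUZ : redU q H ≤ Z := hZ ▸ le_sup_left
  have hnred : ¬ Red q H Z := fun hr => hVU (hVZ.trans (le_sSup ⟨hZ ▸ sup_le s.U_le_omega
    (iSup₂_le fun h hh => (cj_mono b.le_omega h).trans
      (cj_eq_self (normalizer_le_normalizer_omegaZ H (Subgroup.le_normalizer hh))).le), hZH, hr⟩))
  obtain ⟨D, hD⟩ : ∃ D, D = H ⊓ Subgroup.centralizer (Z : Set G) := ⟨_, rfl⟩
  have hDH : D ≤ H := hD ▸ inf_le_left
  have hDn : H ≤ Subgroup.normalizer (D : Set G) := fun g hg => mem_normalizer_of_cj_le (by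
    rw [hD, cj_inf, cj_centralizer, cj_eq_self_of_mem hg, cj_eq_self (hZH hg)])
  have hAD : c.A ≤ Subgroup.normalizer (D : Set G) := fun g hg => mem_normalizer_of_cj_le (by
    rw [hD, cj_inf, cj_centralizer, cj_eq_self (c.nrm_a s.colour.1 hg), cj_eq_self (hAZ hg)])
  obtain ⟨T, hT, hTA⟩ := Solv.exists_invariant_sylow (c.nrmA s.colour.1) (c.coprimeA s.colour.1)
    (Or.inr s.colour.sol) q
  obtain ⟨Nm, hNm⟩ : ∃ Nm, Nm = ⨅ h ∈ (H : Set G), cj (D ⊔ T) h := ⟨_, rfl⟩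
  have hNmT : Nm ≤ D ⊔ T := hNm ▸ (iInf₂_le (1 : G) (one_mem H)).trans (cj_one _).le
  have hNmH : Nm ≤ H := hNmT.trans (sup_le hDH hT.1)
  have hDNm : D ≤ Nm := hNm ▸ le_iInf₂ fun h hh =>
    (cj_eq_self (hDn hh)).ge.trans (cj_mono le_sup_left h)
  have hNmn : H ≤ Subgroup.normalizer (Nm : Set G) := fun g hg => mem_normalizer_of_cj_le (by
    rw [hNm]
    refine le_iInf₂ fun h hh => ?_
    refine (cj_mono (iInf₂_le (g⁻¹ * h) (mul_mem (inv_mem hg) hh)) g).trans ?_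
    rw [cj_cj, mul_inv_cancel_left])
  have hNmA : c.A ≤ Subgroup.normalizer (Nm : Set G) := fun a ha => mem_normalizer_of_cj_le (by
    rw [hNm]
    refine le_iInf₂ fun h hh => ?_
    refine (cj_mono (iInf₂_le (a⁻¹ * h * a) (by
      have := nrm (inv_mem (c.nrm_a s.colour.1 ha)) hh
      rwa [inv_inv] at this)) a).trans ?_
    rw [cj_cj, show a * (a⁻¹ * h * a) = h * a by group, cj_mul_of_norm]
    exact mem_normalizer_of_cj_le (by rw [cj_sup, cj_eq_self (hAD ha), cj_eq_self (hTA ha)]))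
  have hNmq : ∀ g ∈ Nm, ∃ k : ℕ, g ^ q ^ k ∈ D := fun g hg =>
    qmod_sup hT.isPGroup (hT.1.trans hDn) g (hNmT hg)
  -- every witness against reducedness lies in this subgroup
  have hwit : ∀ N ≤ H, H ≤ Subgroup.normalizer (N : Set G) → D ≤ N →
      (∀ g ∈ N, ∃ k : ℕ, g ^ q ^ k ∈ Subgroup.centralizer (Z : Set G)) → N ≤ Nm := by
    intro N hN hn hDN hq'
    have h1 : N ≤ D ⊔ T := (le_sup_sylow hDN (hN.trans hDn)
      (fun g hg => (hq' g hg).imp fun k hk => hD ▸ Subgroup.mem_inf.2 ⟨pow_mem (hN hg) _, hk⟩)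
      (Single.fixed_le_U.inter_sylow hT hN hn)).trans (sup_le_sup_left inf_le_right D)
    exact hNm ▸ le_iInf₂ fun h hh => (cj_eq_self (hn hh)).ge.trans (cj_mono h1 h)
  have hNU : Nm ≤ redC q H := by
    refine s.red_sup hNmH (fun g hg => mem_normalizer_of_cj_le (by
      rw [cj_sup, cj_eq_self (hNmn hg), cj_eq_self (s.H_normalizer_Cu hg)])) fun g hg => ?_
    exact (hNmq g hg).imp fun k hk => Subgroup.centralizer_le hUZ (Subgroup.mem_inf.1 (hD ▸ hk)).2
  have hNV : ¬ Nm ≤ Subgroup.centralizer (V : Set G) := by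
    intro h
    refine hnred fun N hN hn hDN hq' => (hwit N hN hn (hD ▸ hDN) hq').trans ?_
    refine Subgroup.le_centralizer_iff.1 ?_
    rw [hZ]
    refine sup_le (Subgroup.le_centralizer_iff.1 (hNU.trans inf_le_right)) (iSup₂_le fun g hg => ?_)
    refine Subgroup.le_centralizer_iff.1 ?_
    rw [← cj_centralizer]
    exact (cj_eq_self (hNmn hg)).ge.trans (cj_mono h g)
  -- an element moving `V` but normalising it
  obtain ⟨N₀, hN₀⟩ : ∃ N₀, N₀ = (Nm ⊓ Subgroup.centralizer (V : Set G)) ⊔ R := ⟨_, rfl⟩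
  have hN₀V : N₀ ≤ Subgroup.centralizer (V : Set G) := hN₀ ▸ sup_le inf_le_right b.R_cent
  have hlt : N₀ < Nm ⊔ R := lt_of_le_of_ne (hN₀ ▸ sup_le_sup_right inf_le_left R)
    fun he => hNV (le_sup_left.trans (he.ge.trans hN₀V))
  have hRNm : R ≤ Subgroup.normalizer (Nm : Set G) := b.hRH.trans hNmn
  obtain ⟨y, hy, hyn, hy₀⟩ := exists_norm_not_mem q (D := D)
    (hN₀ ▸ le_sup_of_le_left (le_inf hDNm (hD ▸ inf_le_right.trans (Subgroup.centralizer_le hVZ)))) hlt
    ((sup_le hNmH b.hRH).trans hDn) (by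
      intro g hg
      obtain ⟨i, hi⟩ := qmod_sup b.hRq hRNm g hg
      obtain ⟨k, hk⟩ := hNmq _ hi
      exact ⟨i + k, by rwa [pow_add, pow_mul]⟩)
  have hy' : y ∈ ((Nm ⊔ R : Subgroup G) : Set G) := hy
  rw [Subgroup.coe_mul_of_right_le_normalizer_left Nm R hRNm] at hy'
  obtain ⟨n, hn, r, hr, rfl⟩ := hy'
  have hr₀ : r ∈ N₀ := hN₀ ▸ Subgroup.mem_sup_right hr
  have hn₀ : n ∉ N₀ := fun h => hy₀ (mul_mem h hr₀)
  have hnn : n ∈ Subgroup.normalizer (N₀ : Set G) := by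
    have := mul_mem hyn (inv_mem (Subgroup.le_normalizer hr₀))
    rwa [mul_inv_cancel_right] at this
  have hnV : n ∈ Subgroup.normalizer (V : Set G) := mem_normalizer_of_cj_le fun x hx => by
    rw [b.hV]
    refine Subgroup.mem_inf.2 ⟨(cj_mono b.le_omega n).trans (cj_eq_self
      (normalizer_le_normalizer_omegaZ H (Subgroup.le_normalizer (hNmH hn)))).le hx, ?_⟩
    have h1 : cj V n ≤ Subgroup.centralizer (N₀ : Set G) := by
      rw [← cj_eq_self hnn, ← cj_centralizer]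
      exact cj_mono (Subgroup.le_centralizer_iff.1 hN₀V) n
    exact Subgroup.centralizer_le (hN₀ ▸ le_sup_right : R ≤ N₀) (h1 hx)
  obtain ⟨Y, hY⟩ : ∃ Y, Y = Nm ⊓ Subgroup.normalizer (V : Set G) := ⟨_, rfl⟩
  have hYP : Y ≤ c.piHat q V := by
    refine Ctx.le_piHat hc b.V_fam b.V_ne_bot b.hCV (c.fam_le s.colour.1 ((hY ▸ inf_le_left : Y ≤ Nm).trans hNmH)
      fun a ha => mem_normalizer_of_cj_le (by
        rw [hY, cj_inf, cj_normalizer, cj_eq_self (hNmA ha), cj_eq_self (c.nrm_a b.V_fam ha)]))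
      (hY ▸ inf_le_right) (fun g hg => mem_normalizer_of_cj_le (by
        rw [hY, cj_inf, cj_normalizer, cj_eq_self (hNmn (s.colour.2.1 hg)), cj_eq_self (b.hCV hg)]))
      fun g hg => (hNmq g (Subgroup.mem_inf.1 (hY ▸ hg)).1).imp fun k hk =>
        Subgroup.centralizer_le hVZ (Subgroup.mem_inf.1 (hD ▸ hk)).2
  refine hn₀ (hN₀ ▸ Subgroup.mem_sup_left (Subgroup.mem_inf.2 ⟨hn, hcon ?_⟩))
  exact Subgroup.mem_inf.2 ⟨hYP (hY ▸ Subgroup.mem_inf.2 ⟨hn, hnV⟩), hNmH hn⟩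

/-- The fixed points of a Sylow subgroup inside the colour. -/
theorem fixed_eq {S : Subgroup G} (hS : Solv.IsSylIn q S (c.piHat q V ⊓ H)) (hRS : R ≤ S) :
    omegaZ q H ⊓ Subgroup.centralizer (S : Set G) =
      V ⊓ Subgroup.centralizer ((c.piHat q V ⊓ H : Subgroup G) : Set G) := by
  refine le_antisymm ?_ (le_inf (inf_le_left.trans b.le_omega)
    (inf_le_right.trans (Subgroup.centralizer_le hS.1)))
  intro x hx
  have hxV : x ∈ V := b.hV ▸ inf_le_inf_left _ (Subgroup.centralizer_le hRS) hx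
  refine Subgroup.mem_inf.2 ⟨hxV, ?_⟩
  obtain ⟨X, hX⟩ : ∃ X, X = c.piHat q V ⊓ H := ⟨_, rfl⟩
  rw [← hX] at hS ⊢
  obtain ⟨-, hPV, -, hPq⟩ := b.spec
  obtain ⟨D, hD⟩ : ∃ D, D = X ⊓ Subgroup.centralizer (V : Set G) := ⟨_, rfl⟩
  have hXn : X ≤ Subgroup.normalizer (D : Set G) := fun g hg => mem_normalizer_of_cj_le (by
    rw [hD, cj_inf, cj_centralizer, cj_eq_self_of_mem hg, cj_eq_self (hPV (Subgroup.mem_inf.1 (hX ▸ hg)).1)])
  have h1 : X ≤ D ⊔ S := le_sup_sylow (hD ▸ inf_le_left) hXn (fun g hg =>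
    (hPq g (Subgroup.mem_inf.1 (hX ▸ hg)).1).imp fun k hk => hD ▸ Subgroup.mem_inf.2 ⟨pow_mem hg _, hk⟩) hS
  refine Subgroup.zpowers_le.1 (Subgroup.le_centralizer_iff.1 (h1.trans (sup_le ?_ ?_)))
  · exact (hD ▸ inf_le_right : D ≤ _).trans (Subgroup.centralizer_le (Subgroup.zpowers_le.2 hxV))
  · exact Subgroup.le_centralizer_iff.1 (Subgroup.zpowers_le.2 (Subgroup.mem_inf.1 hx).2)

omit b in
theorem pi_le_aux : ∀ (n : ℕ) (R V : Subgroup G), Nat.card V = n → Base c q H R V →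
    ∀ X : Subgroup G, IsPGroup q X → c.A ≤ Subgroup.normalizer (X : Set G) → X ≤ c.piHat q V → X ≤ H := by
  intro n
  induction n using Nat.strong_induction_on with
  | _ n ih =>
  intro R V hn b
  have s := b.single
  obtain ⟨hPinv, hPV, -, hPq⟩ := b.spec
  obtain ⟨P, hP⟩ : ∃ P, P = c.piHat q V := ⟨_, rfl⟩
  rw [← hP] at hPinv hPV hPq ⊢
  have hAX : c.A ≤ Subgroup.normalizer ((P ⊓ H : Subgroup G) : Set G) := fun a ha =>
    mem_normalizer_of_cj_le (by rw [cj_inf, cj_eq_self (c.nrm_a hPinv.1 ha), cj_eq_self (c.nrm_a s.colour.1 ha)])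
  have hXf : c.fam (P ⊓ H) := c.fam_le s.colour.1 inf_le_right hAX
  obtain ⟨S, hS, hRS, hSA⟩ := Solv.exists_invariant_sylow_ge hAX (c.coprimeA hXf) (Or.inr (c.sol hXf)) R
    (le_inf (hP ▸ b.R_le) b.hRH) b.hRq b.hAR
  obtain ⟨T, hT, hST, hTA⟩ := Solv.exists_invariant_sylow_ge (c.nrmA hPinv.1) (c.coprimeA hPinv.1)
    (Or.inr (c.sol hPinv.1)) S (hS.1.trans inf_le_left) hS.isPGroup hSA
  -- the Sylow subgroup lies in the colour
  have hTS : T = S := by
    refine le_antisymm (le_of_normalizer_le hT.isPGroup hST ?_) hST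
    obtain ⟨T', hT'⟩ : ∃ T', T' = T ⊓ Subgroup.normalizer (S : Set G) := ⟨_, rfl⟩
    rw [← hT']
    have hT'T : T' ≤ T := hT' ▸ inf_le_left
    have hT'q : IsPGroup q T' := hT.isPGroup.to_le hT'T
    have hT'A : c.A ≤ Subgroup.normalizer (T' : Set G) := fun a ha => mem_normalizer_of_cj_le (by
      rw [hT', cj_inf, cj_normalizer, cj_eq_self (hTA ha), cj_eq_self (hSA ha)])
    have hT'P : T' ≤ P := hT'T.trans hT.1
    have hT'f : c.fam T' := c.fam_le hPinv.1 hT'P hT'A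
    have hT'H : T' ≤ H := by
      by_cases hVU : V ≤ redU q H
      · obtain ⟨-, hsyl, hJ⟩ := b.caseU hVU (hP ▸ hS) hRS
        refine s.le_H_of_norm_J hsyl (fun a ha => mem_normalizer_of_cj_le (by
          rw [cj_inf, cj_eq_self (hSA ha), cj_eq_self (s.A_normalizer_Cu ha)])) hT'f ?_
        rw [← hJ]
        exact (hT' ▸ inf_le_right : T' ≤ _).trans (normalizer_le_jElem S)
      · obtain ⟨V', hV'⟩ : ∃ V', V' = omegaZ q H ⊓ Subgroup.centralizer (S : Set G) := ⟨_, rfl⟩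
        have hV'eq : V' = V ⊓ Subgroup.centralizer ((P ⊓ H : Subgroup G) : Set G) := by
          rw [hV', b.fixed_eq (hP ▸ hS) hRS, hP]
        have hV'V : V' < V := lt_of_le_of_ne (hV'eq ▸ inf_le_left) fun he => b.caseNot hVU (by
          rw [← hP]
          exact Subgroup.le_centralizer_iff.1 (he.ge.trans (hV'eq ▸ inf_le_right)))
        have hCV' : c.C ≤ Subgroup.normalizer (V' : Set G) := fun g hg => mem_normalizer_of_cj_le (by
          rw [hV'eq, cj_inf, cj_centralizer, cj_inf, cj_eq_self (b.hCV hg), cj_eq_self (hPinv.2 hg),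
            cj_eq_self_of_mem (s.colour.2.1 hg)])
        have b' : Base c q H S V' := ⟨s, hS.isPGroup, hSA, b.hQR.trans hRS, hS.1.trans inf_le_right, hV', hCV'⟩
        refine ih _ (hn ▸ Solv.card_lt_of_lt hV'V) S V' rfl b' T' hT'q hT'A ?_
        obtain ⟨Y, hY⟩ : ∃ Y, Y = P ⊓ Subgroup.normalizer (V' : Set G) := ⟨_, rfl⟩
        have hYP : Y ≤ c.piHat q V' := by
          refine Ctx.le_piHat s.crit b'.V_fam b'.V_ne_bot hCV' (c.fam_le hPinv.1 (hY ▸ inf_le_left)
            fun a ha => mem_normalizer_of_cj_le (by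
              rw [hY, cj_inf, cj_normalizer, cj_eq_self (c.nrm_a hPinv.1 ha),
                cj_eq_self (c.nrm_a b'.V_fam ha)]))
            (hY ▸ inf_le_right) (fun g hg => mem_normalizer_of_cj_le (by
              rw [hY, cj_inf, cj_normalizer, cj_eq_self (hPinv.2 hg), cj_eq_self (hCV' hg)]))
            fun g hg => (hPq g (Subgroup.mem_inf.1 (hY ▸ hg)).1).imp fun k hk =>
              Subgroup.centralizer_le hV'V.le hk
        refine (hY ▸ le_inf hT'P fun g hg => mem_normalizer_of_cj_le ?_ : T' ≤ Y).trans hYP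
        have hgS : g ∈ Subgroup.normalizer (S : Set G) := (Subgroup.mem_inf.1 (hT' ▸ hg)).2
        have hV'S : V' = V ⊓ Subgroup.centralizer (S : Set G) :=
          le_antisymm (le_inf (hV'eq ▸ inf_le_left) (hV' ▸ inf_le_right))
            (hV' ▸ inf_le_inf_right _ b.le_omega)
        rw [hV'S, cj_inf, cj_centralizer, cj_eq_self (hPV (hT'P hg)), cj_eq_self hgS]
    have hST' : S ≤ T' := hT' ▸ le_inf hST Subgroup.le_normalizer
    exact (hS.eq_of_le hT'q (le_inf hT'P hT'H) hST').ge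
  intro X hXq hXA hXP
  obtain ⟨T₂, hT₂, hXT₂, hT₂A⟩ := Solv.exists_invariant_sylow_ge (c.nrmA hPinv.1) (c.coprimeA hPinv.1)
    (Or.inr (c.sol hPinv.1)) X hXP hXq hXA
  obtain ⟨g, hg, hge⟩ := Solv.invariant_sylow_conj (c.nrmA hPinv.1) (c.coprimeA hPinv.1)
    (Or.inr (c.sol hPinv.1)) hT hT₂ hTA hT₂A
  rw [Solv.conj_smul_eq_map] at hge
  refine hXT₂.trans (hge.ge.trans ?_)
  rw [hTS]
  exact (cj_mono (hS.1.trans inf_le_right) g).trans
    (cj_eq_self_of_mem (s.colour.2.1 (c.inf_centA_le hPinv.1 hg))).le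

/-- Invariant subgroups of prime power order acting as such on `V` lie in the colour. -/
theorem pi_le {X : Subgroup G} (hXq : IsPGroup q X) (hXA : c.A ≤ Subgroup.normalizer (X : Set G))
    (hXP : X ≤ c.piHat q V) : X ≤ H :=
  pi_le_aux _ R V rfl b X hXq hXA hXP

end Base

end Cfsg.Agent.SSF
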