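import Cfsg.Agent.Lib.SSF.Tools
import Cfsg.Agent.Lib.Fusion.Signalizer
import Cfsg.Agent.Lib.Fusion.Timmesfeld
import Cfsg.Agent.Lib.Local.ElemAb

/-!
The pieces of an abelian module cut out by the maximal subgroups of an elementary abelian group
acting faithfully with coprime order.
-/

set_option autoImplicit false
set_option linter.style.haveILetI false

open Cfsg Cfsg.Agent Cfsg.Agent.Fusion
open scoped commutatorElement Pointwise

namespace Cfsg.Agent.SSF

universe u

variable {G : Type u} [Group G] [Finite G]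

/-- The number of points fixed by an element of prime period is congruent to the number of all points. -/
theorem card_fixed_modEq {r : ℕ} (hr : r.Prime) {z : G} (hzr : z ^ r = 1) {V : Subgroup G}
    (hzV : z ∈ Subgroup.normalizer (V : Set G)) :
    Nat.card V ≡ Nat.card ↥(V ⊓ Subgroup.centralizer {z}) [MOD r] := by
  haveI := Fact.mk hr
  have hle : Subgroup.zpowers z ≤ Subgroup.normalizer (V : Set G) := Subgroup.zpowers_le.2 hzV
  letI : MulAction (Subgroup.zpowers z) V :=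
    { smul := fun t v => ⟨(t : G) * v * (t : G)⁻¹, nrm (hle t.2) v.2⟩
      one_smul := fun v => Subtype.ext (by
        show (1 : G) * v * (1 : G)⁻¹ = v
        group)
      mul_smul := fun s t v => Subtype.ext (by
        show ((s * t : Subgroup.zpowers z) : G) * v * ((s * t : Subgroup.zpowers z) : G)⁻¹ =
          (s : G) * ((t : G) * v * (t : G)⁻¹) * (s : G)⁻¹
        rw [Subgroup.coe_mul]; group) }
  have hp : IsPGroup r (Subgroup.zpowers z) := fun t => ⟨1, Subtype.ext (by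
    obtain ⟨i, hi⟩ := Subgroup.mem_zpowers_iff.1 t.2
    rw [Subgroup.coe_pow, Subgroup.coe_one, pow_one, ← hi, ← zpow_natCast, ← zpow_mul, mul_comm,
      zpow_mul, zpow_natCast, hzr, one_zpow])⟩
  have hcoe : ∀ (t : Subgroup.zpowers z) (v : V), ((t • v : V) : G) = (t : G) * v * (t : G)⁻¹ :=
    fun _ _ => rfl
  suffices hfix : Nat.card ↥(MulAction.fixedPoints (Subgroup.zpowers z) V) =
      Nat.card ↥(V ⊓ Subgroup.centralizer {z}) from hfix ▸ hp.card_modEq_card_fixedPoints V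
  refine Nat.card_congr ⟨fun v => ⟨(v : V).1, Subgroup.mem_inf.2 ⟨(v : V).2, ?_⟩⟩,
    fun w => ⟨⟨w.1, (Subgroup.mem_inf.1 w.2).1⟩, fun t => Subtype.ext ?_⟩, fun v => rfl, fun w => rfl⟩
  · have h := congrArg Subtype.val (v.2 ⟨z, Subgroup.mem_zpowers z⟩)
    rw [hcoe] at h
    exact Subgroup.mem_centralizer_singleton_iff.2 (mul_inv_eq_iff_eq_mul.1 h).symm
  · rw [hcoe]
    obtain ⟨i, hi⟩ := Subgroup.mem_zpowers_iff.1 t.2
    have h2 : Commute (w : G) z := Subgroup.mem_centralizer_singleton_iff.1 (Subgroup.mem_inf.1 w.2).2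
    rw [← hi]
    exact mul_inv_eq_iff_eq_mul.2 (h2.zpow_right i).symm.eq

/-- An elementary abelian group acting faithfully on an abelian group of coprime order. -/
structure PieceCtx (q r : ℕ) (W Z : Subgroup G) : Prop where
  hq : q.Prime
  hr : r.Prime
  hne : r ≠ q
  hW : IsElementaryAbelian q W
  hZ : IsElementaryAbelian r Z
  hnorm : Z ≤ Subgroup.normalizer (W : Set G)
  faith : Z ⊓ Subgroup.centralizer (W : Set G) = ⊥

/-- A maximal subgroup. -/
def Hy (r : ℕ) (Z K : Subgroup G) : Prop := K ≤ Z ∧ Nat.card Z = r * Nat.card K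

/-- The piece of a maximal subgroup. -/
def piece (W Z K : Subgroup G) : Subgroup G := ⁅W ⊓ Subgroup.centralizer (K : Set G), Z⁆

omit [Finite G] in
theorem cj_piece (W Z K : Subgroup G) (g : G) :
    cj (piece W Z K) g = piece (cj W g) (cj Z g) (cj K g) := by
  rw [piece, piece, cj_commutator, cj_inf, cj_centralizer]

omit [Finite G] in
theorem Hy.cj {r : ℕ} {Z K : Subgroup G} (h : Hy r Z K) {g : G}
    (hg : g ∈ Subgroup.normalizer (Z : Set G)) : Hy r Z (Fusion.cj K g) :=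
  ⟨(cj_mono h.1 g).trans (cj_eq_self hg).le, by rw [card_cj]; exact h.2⟩

namespace PieceCtx

variable {q r : ℕ} {W Z : Subgroup G} (d : PieceCtx q r W Z)

include d

theorem coprime : (Nat.card W).Coprime r := by
  haveI := Fact.mk d.hq
  obtain ⟨k, hk⟩ := IsPGroup.iff_card.1 (Local.elemAb_isPGroup d.hW)
  rw [hk]
  exact ((Nat.coprime_primes d.hq d.hr).2 d.hne.symm).pow_left k

theorem piece_le (K : Subgroup G) : piece W Z K ≤ W :=
  (Subgroup.commutator_mono inf_le_left le_rfl).trans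
    (Subgroup.commutator_le.2 fun _ hv _ ht => comm_mem_left (d.hnorm ht) hv)

theorem le_normalizer_fix {K : Subgroup G} (hK : K ≤ Z) :
    Z ≤ Subgroup.normalizer (↑(W ⊓ Subgroup.centralizer (K : Set G)) : Set G) := fun t ht =>
  mem_normalizer_of_cj_le (by
    rw [cj_inf, cj_centralizer, cj_eq_self (d.hnorm ht), cj_eq_self (Subgroup.centralizer_le_normalizer _
      (Subgroup.mem_centralizer_iff.2 fun k hk => Local.elemAb_commute d.hZ (hK hk) ht))])

theorem piece_le_fix {K : Subgroup G} (hK : K ≤ Z) :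
    piece W Z K ≤ W ⊓ Subgroup.centralizer (K : Set G) :=
  Subgroup.commutator_le.2 fun _ hv _ ht => comm_mem_left (d.le_normalizer_fix hK ht) hv

theorem fixed {K : Subgroup G} (hK : K ≤ Z) {k u : G} (hk : k ∈ K) (hu : u ∈ piece W Z K) :
    k * u = u * k :=
  Subgroup.mem_centralizer_iff.1 (Subgroup.mem_inf.1 (d.piece_le_fix hK hu)).2 k hk

theorem sup_zpowers_eq {K : Subgroup G} (hK : Hy r Z K) {z : G} (hz : z ∈ Z) (hzK : z ∉ K) :
    K ⊔ Subgroup.zpowers z = Z := by
  obtain ⟨J, hJ⟩ : ∃ J, J = K ⊔ Subgroup.zpowers z := ⟨_, rfl⟩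
  rw [← hJ]
  have hle : J ≤ Z := hJ ▸ sup_le hK.1 (Subgroup.zpowers_le.2 hz)
  obtain ⟨m, hm⟩ := Subgroup.card_dvd_of_le (show K ≤ J from hJ ▸ le_sup_left)
  have hd := Subgroup.card_dvd_of_le hle
  rw [hm, hK.2, mul_comm r, Nat.mul_dvd_mul_iff_left Nat.card_pos] at hd
  rcases (Nat.dvd_prime d.hr).1 hd with h1 | h1
  · refine absurd ?_ hzK
    have he : K = J := Subgroup.eq_of_le_of_card_ge (hJ ▸ le_sup_left) (by rw [hm, h1, mul_one])
    rw [he, hJ]
    exact Subgroup.mem_sup_right (Subgroup.mem_zpowers z)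
  · exact Subgroup.eq_of_le_of_card_ge hle (by rw [hm, hK.2, h1, mul_comm])

/-- Outside its maximal subgroup an element is fixed-point-free on a piece. -/
theorem fpf {K : Subgroup G} (hK : Hy r Z K) {z : G} (hz : z ∈ Z) (hzK : z ∉ K) {u : G}
    (hu : u ∈ piece W Z K) (hc : z * u = u * z) : u = 1 := by
  obtain ⟨V, hV⟩ : ∃ V, V = W ⊓ Subgroup.centralizer (K : Set G) := ⟨_, rfl⟩
  have hVW : V ≤ W := hV ▸ inf_le_left
  have hnV : Z ≤ Subgroup.normalizer (V : Set G) := hV ▸ d.le_normalizer_fix hK.1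
  have hVc : IsMulCommutative V :=
    ⟨⟨fun a b => Subtype.ext (Local.elemAb_commute d.hW (hVW a.2) (hVW b.2))⟩⟩
  have hle : ⁅V, Z⁆ ≤ ⁅V, Subgroup.zpowers z⁆ := by
    refine Subgroup.commutator_le.2 fun v hv t ht => ?_
    rw [← d.sup_zpowers_eq hK hz hzK] at ht
    have ht' : t ∈ ((K ⊔ Subgroup.zpowers z : Subgroup G) : Set G) := ht
    rw [Subgroup.coe_mul_of_right_le_normalizer_left K _ ((Subgroup.zpowers_le.2 hz).trans
      ((Subgroup.le_centralizer_iff.1 (fun k hk => Subgroup.mem_centralizer_iff.2 fun a ha =>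
        Local.elemAb_commute d.hZ ha (hK.1 hk))).trans (Subgroup.centralizer_le_normalizer _)))] at ht'
    obtain ⟨k, hk, s, hs, rfl⟩ := ht'
    have hck : ∀ w ∈ V, k * w = w * k := fun w hw =>
      Subgroup.mem_centralizer_iff.1 (Subgroup.mem_inf.1 (hV ▸ hw)).2 k hk
    have hsZ : s ∈ Z := Subgroup.zpowers_le.2 hz hs
    have hw : ⁅v, s⁆ ∈ V := comm_mem_left (hnV hsZ) hv
    have he : ⁅v, k * s⁆ = ⁅v, s⁆ := by
      calc ⁅v, k * s⁆ = ⁅v, k⁆ * (k * ⁅v, s⁆ * k⁻¹) := by
            simp only [commutatorElement_def]; group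
        _ = _ := by
            rw [commutatorElement_eq_one_iff_mul_comm.2 (hck v hv).symm, one_mul, hck _ hw,
              mul_inv_cancel_right]
    show ⁅v, k * s⁆ ∈ _
    rw [he]
    exact Subgroup.commutator_mem_commutator hv hs
  have hco : (Nat.card V).Coprime r :=
    d.coprime.coprime_dvd_left (Subgroup.card_dvd_of_le hVW)
  have h := fixed_commutator hVc (d.hZ.2 z hz) (hnV hz) hco
  refine Subgroup.mem_bot.1 (h ▸ Subgroup.mem_inf.2 ⟨hle (hV ▸ hu),
    Subgroup.mem_centralizer_singleton_iff.2 hc.symm⟩)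

theorem exists_piece {z : G} (hz : z ∈ Z) (hz1 : z ≠ 1) :
    ∃ K, Hy r Z K ∧ z ∉ K ∧ piece W Z K ≠ ⊥ := by
  haveI := Fact.mk d.hr
  by_contra hno
  push Not at hno
  refine hz1 (Subgroup.mem_bot.1 (d.faith ▸ Subgroup.mem_inf.2 ⟨hz, ?_⟩))
  have hcop : (Nat.card Z).Coprime (Nat.card W) := by
    obtain ⟨k, hk⟩ := IsPGroup.iff_card.1 (Local.elemAb_isPGroup d.hZ)
    rw [hk]
    exact d.coprime.symm.pow_left k
  refine Subgroup.le_centralizer_iff.1 ((Solv.gen_eq Z W d.hZ.1 d.hnorm hcop).ge.trans ?_)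
    (Subgroup.mem_zpowers z) |> fun h => h
  refine iSup₂_le fun B hB => ?_
  refine Subgroup.le_centralizer_iff.1 (Subgroup.zpowers_le.2 ?_)
  by_cases hzB : z ∈ B
  · exact Subgroup.centralizer_le (fun _ hw => (Subgroup.mem_inf.1 hw).2)
      (Subgroup.le_centralizer_iff.1 le_rfl hzB)
  have hBh : Hy r Z B := by
    refine ⟨hB.1, le_antisymm (card_le_mul_of_cycQuot d.hZ hB) ?_⟩
    obtain ⟨k, hk⟩ := (Local.elemAb_isPGroup d.hZ).index (B.subgroupOf Z)
    have h2 : B.relIndex Z = r ^ k := hk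
    have hk0 : k ≠ 0 := by
      rintro rfl
      exact hzB (Subgroup.relIndex_eq_one.1 (h2.trans (pow_zero r)) hz)
    rw [← card_mul_relIndex_of_le hB.1, h2, mul_comm (Nat.card B)]
    exact Nat.mul_le_mul_right _ (Nat.le_self_pow hk0 r)
  have hb := hno B hBh hzB
  rw [piece, Subgroup.commutator_eq_bot_iff_le_centralizer] at hb
  exact Subgroup.le_centralizer_iff.1 hb hz

/-- Pieces of distinct maximal subgroups are independent. -/
theorem indep (T : Finset (Subgroup G)) : ∀ K : Subgroup G, Hy r Z K → (∀ L ∈ T, Hy r Z L) → K ∉ T →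
    piece W Z K ⊓ ⨆ L ∈ T, piece W Z L = ⊥ := by
  classical
  induction T using Finset.induction_on with
  | empty =>
    intro K _ _ _
    rw [eq_bot_iff]
    exact inf_le_right.trans (iSup₂_le fun L hL => absurd hL (Finset.notMem_empty L))
  | @insert L T hLT ih =>
    intro K hK hT hKT
    rw [Finset.mem_insert, not_or] at hKT
    obtain ⟨hKL, hKT⟩ := hKT
    have hL := hT L (Finset.mem_insert_self L T)
    have hT' : ∀ M ∈ T, Hy r Z M := fun M hM => hT M (Finset.mem_insert_of_mem hM)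
    obtain ⟨R, hR⟩ : ∃ R, R = ⨆ M ∈ T, piece W Z M := ⟨_, rfl⟩
    obtain ⟨U, hU⟩ : ∃ U, U = piece W Z L := ⟨_, rfl⟩
    have hRW : R ≤ W := hR ▸ iSup₂_le fun M _ => d.piece_le M
    have hUW : U ≤ W := hU ▸ d.piece_le L
    rw [Finset.iSup_insert, ← hR, ← hU, eq_bot_iff]
    intro w hw
    obtain ⟨hwK, hwS⟩ := Subgroup.mem_inf.1 hw
    have hwS' : w ∈ ((U ⊔ R : Subgroup G) : Set G) := hwS
    rw [Subgroup.coe_mul_of_right_le_normalizer_left U R ((hRW.trans fun a ha =>
      Subgroup.centralizer_le_normalizer _ (Subgroup.mem_centralizer_iff.2 fun b hb =>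
        Local.elemAb_commute d.hW (hUW hb) ha)))] at hwS'
    obtain ⟨u, hu, v, hv, rfl⟩ := hwS'
    have hne : ¬ K ≤ L := fun h => hKL (Subgroup.eq_of_le_of_card_ge h (le_of_eq
      (Nat.eq_of_mul_eq_mul_left d.hr.pos (hL.2.symm.trans hK.2))))
    obtain ⟨e, he, heL⟩ := SetLike.not_le_iff_exists.1 hne
    have heZ : e ∈ Z := hK.1 he
    have heU : e ∈ Subgroup.normalizer (U : Set G) := mem_normalizer_of_cj_le (by
      rw [hU, cj_piece, cj_eq_self (d.hnorm heZ), cj_eq_self_of_mem heZ, cj_eq_self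
        (Subgroup.centralizer_le_normalizer _ (Subgroup.mem_centralizer_iff.2 fun b hb =>
          Local.elemAb_commute d.hZ (hL.1 hb) heZ))])
    have heR : e ∈ Subgroup.normalizer (R : Set G) := by
      rw [hR]
      refine Solv.normalizer_biSup_le (↑T : Set (Subgroup G)) _ fun M hM => mem_normalizer_of_cj_le ?_
      rw [cj_piece, cj_eq_self (d.hnorm heZ), cj_eq_self_of_mem heZ, cj_eq_self
        (Subgroup.centralizer_le_normalizer _ (Subgroup.mem_centralizer_iff.2 fun b hb =>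
          Local.elemAb_commute d.hZ ((hT' M hM).1 hb) heZ))]
    have hfix : e * (u * v) * e⁻¹ = u * v := mul_inv_eq_iff_eq_mul.2 (d.fixed hK.1 he hwK)
    have h1 : u⁻¹ * (e * u * e⁻¹) = v * (e * v * e⁻¹)⁻¹ := by
      calc u⁻¹ * (e * u * e⁻¹) = u⁻¹ * (e * (u * v) * e⁻¹) * (e * v * e⁻¹)⁻¹ := by group
        _ = _ := by rw [hfix]; group
    have h2 : u⁻¹ * (e * u * e⁻¹) = 1 := by
      refine Subgroup.mem_bot.1 ?_
      rw [← ih L hL hT' hLT, ← hU, ← hR]
      exact Subgroup.mem_inf.2 ⟨mul_mem (inv_mem hu) (nrm heU hu),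
        h1 ▸ mul_mem hv (inv_mem (nrm heR hv))⟩
    have hu1 : u = 1 := d.fpf hL heZ heL (hU ▸ hu)
      (mul_inv_eq_iff_eq_mul.1 (inv_mul_eq_one.1 h2).symm)
    rw [← ih K hK hT' hKT, ← hR]
    exact Subgroup.mem_inf.2 ⟨hwK, by
      show u * v ∈ R
      rw [hu1, one_mul]; exact hv⟩

end PieceCtx

end Cfsg.Agent.SSF
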