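import Cfsg.Agent.Lib.SSF.Colour
import Cfsg.Agent.Lib.SSF.FPF

/-!
A colour receiving the Fitting subgroups of the others makes the functor full.
-/

set_option autoImplicit false
set_option linter.style.haveILetI false

open Cfsg Cfsg.Agent Cfsg.Agent.Fusion
open scoped commutatorElement Pointwise

namespace Cfsg.Agent.SSF

universe u

variable {G : Type u} [Group G] [Finite G] {p : ℕ} [hp : Fact p.Prime]

omit [Finite G] in
theorem le_cent_of_commutator {U : Subgroup G} {e : G} (h : ⁅U, Subgroup.zpowers e⁆ = ⊥) :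
    U ≤ Subgroup.centralizer {e} :=
  ((Subgroup.commutator_eq_bot_iff_le_centralizer).1 h).trans
    (Subgroup.centralizer_le (by simp))

omit [Finite G] in
theorem cent_singleton_swap {U : Subgroup G} {e : G} (h : U ≤ Subgroup.centralizer {e}) :
    e ∈ Subgroup.centralizer (U : Set G) :=
  Subgroup.mem_centralizer_iff.2 fun u hu => Subgroup.mem_centralizer_singleton_iff.1 (h hu)

omit [Finite G] in
theorem le_cent_of_swap {U : Subgroup G} {e : G} (h : e ∈ Subgroup.centralizer (U : Set G)) :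
    U ≤ Subgroup.centralizer {e} := fun u hu =>
  Subgroup.mem_centralizer_singleton_iff.2 (Subgroup.mem_centralizer_iff.1 h u hu)

namespace Ctx

variable {c : Ctx G p}

/-- The central part of `O_x(L)` in the greatest invariant `x`-member. -/
def Yc (c : Ctx G p) (x : ℕ) (L : Subgroup G) : Subgroup G := c.z x ⊓ Ox x L

theorem Colour.inv_Yc (hc : Crit c) {L : Subgroup G} (hL : c.Colour L) {x : ℕ} (hx : x.Prime) :
    c.Inv (c.Yc x L) :=
  c.inv_of_le hL.1 (inf_le_right.trans (Ox_le x L)) (c.stab_inf (c.stab_z hc hx) (hL.stab_Ox x))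

theorem Colour.Yc_le_Zc {L : Subgroup G} (hL : c.Colour L) (x : ℕ) : c.Yc x L ≤ Zc x L :=
  le_inf inf_le_right (inf_le_left.trans (c.z_cent (hL.Ox_le_W x)))

theorem Colour.Yc_ne_bot (hc : Crit c) {L : Subgroup G} (hL : c.Colour L) {x : ℕ} (hx : x ∈ pi L)
    (hW : c.W x ≤ Subgroup.normalizer (Ox x L : Set G)) : c.Yc x L ≠ ⊥ := fun h => by
  haveI := Fact.mk hx.1
  refine meet_center (c.W_spec hc hx.1).2 (hL.Ox_le_W x) hW hx.2 (le_bot_iff.1 (le_trans ?_ h.le))
  exact le_inf (le_inf (inf_le_left.trans (hL.Ox_le_W x)) inf_le_right) inf_le_left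

theorem hyp_cycQuot {D : Subgroup G} (hD : c.Hyp D) : D ∈ Solv.CycQuot c.A := by
  have hne : D ≠ c.A := fun h => by
    have h2 := hD.2
    rw [h] at h2
    exact hp.out.one_lt.ne' (mul_eq_right₀ Nat.card_pos.ne' |>.1 h2.symm)
  obtain ⟨a, ha, haD⟩ := SetLike.exists_of_lt (lt_of_le_of_ne hD.1 hne)
  refine ⟨hD.1, a, ha, ?_⟩
  have hle : D ⊔ Subgroup.zpowers a ≤ c.A := sup_le hD.1 (Subgroup.zpowers_le.2 ha)
  have hlt : D < D ⊔ Subgroup.zpowers a := lt_of_le_not_ge le_sup_left fun h =>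
    haD (h (Subgroup.mem_sup_right (Subgroup.mem_zpowers a)))
  obtain ⟨k, hk⟩ := Subgroup.card_dvd_of_le hlt.le
  have h1 := Solv.card_lt_of_lt hlt
  have hd := Subgroup.card_dvd_of_le hle
  rw [hk, hD.2, mul_comm p] at hd
  rcases (Nat.dvd_prime hp.out).1 (Nat.dvd_of_mul_dvd_mul_left Nat.card_pos hd) with rfl | rfl
  · rw [hk, mul_one] at h1; exact absurd h1 (lt_irrefl _)
  · exact Subgroup.eq_of_le_of_card_ge hle (by rw [hk, hD.2, mul_comm])

theorem exists_hyp : ∃ D, c.Hyp D := by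
  obtain ⟨n, hn⟩ := IsPGroup.iff_card.1 (elab_isPGroup c.hA)
  have h0 : n ≠ 0 := fun h => by
    have := c.h3
    rw [hn, h, pow_zero] at this
    exact absurd this (not_le.2 (Nat.one_lt_pow (by norm_num) hp.out.one_lt))
  obtain ⟨m, rfl⟩ := Nat.exists_eq_succ_of_ne_zero h0
  obtain ⟨D, hD⟩ := Sylow.exists_subgroup_card_pow_prime p (G := c.A) (n := m)
    (hn ▸ pow_dvd_pow p (Nat.le_succ m))
  refine ⟨D.map c.A.subtype, Subgroup.map_subtype_le _, ?_⟩
  rw [Subgroup.card_map_of_injective c.A.subtype_injective, hD, hn, pow_succ']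

theorem inf_hyp_ne_bot {D D' : Subgroup G} (hD : c.Hyp D) (hD' : c.Hyp D') : D ⊓ D' ≠ ⊥ :=
  cycQuot_inf_ne_bot c.hA c.h3 (hyp_cycQuot hD) (hyp_cycQuot hD')

theorem inf_signalizerInf_le {D : Subgroup G} (hD : D ≤ c.A) {U : Subgroup G} (hU : c.fam U) :
    U ⊓ Subgroup.centralizer (D : Set G) ≤ Cfsg.signalizerInf D c.θ :=
  le_iInf fun d => c.inf_centD_le hU hD d.2.1 d.2.2

theorem signalizerInf_le_theta {D : Subgroup G} {d : G} (hd : d ∈ D) (hd1 : d ≠ 1) :
    Cfsg.signalizerInf D c.θ ≤ c.θ d := iInf_le_of_le ⟨d, hd, hd1⟩ le_rfl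

/-- A colour containing every `θ(D)` is universal. -/
theorem false_of_hyp (hc : Crit c) {L : Subgroup G} (hL : c.Colour L)
    (h : ∀ D, c.Hyp D → Cfsg.signalizerInf D c.θ ≤ L) : False :=
  hc.1 ⟨L, hL.1, fun a ha ha1 => c.le_of_gen (c.theta_fam ha ha1) (inf_le_right.trans hL.2.1)
    fun D hD => (inf_signalizerInf_le hD.1 (c.theta_fam ha ha1)).trans (h D hD)⟩

theorem false_of_meets (hc : Crit c) {L : Subgroup G} (hL : c.Colour L)
    (h : ∀ D, c.Hyp D → ∃ d ∈ D, d ≠ 1 ∧ c.θ d ≤ L) : False :=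
  false_of_hyp hc hL fun D hD => by
    obtain ⟨d, hd, hd1, hdL⟩ := h D hD
    exact (signalizerInf_le_theta hd hd1).trans hdL

theorem false_of_monochrome (hc : Crit c) {L B : Subgroup G} (hL : c.Colour L) (hB : c.Hyp B)
    (h : ∀ b ∈ B, b ≠ 1 → c.θ b ≤ L) : False :=
  false_of_meets hc hL fun D hD => by
    obtain ⟨d, hd, hd1⟩ := (Subgroup.bot_or_exists_ne_one (B ⊓ D)).resolve_left (inf_hyp_ne_bot hB hD)
    exact ⟨d, (Subgroup.mem_inf.1 hd).2, hd1, h d (Subgroup.mem_inf.1 hd).1 hd1⟩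

/-- A non-trivial member has a non-trivial fixed point for some element of a noncyclic subgroup of `A`. -/
theorem exists_fixed {U E : Subgroup G} (hU : c.fam U) (hne : U ≠ ⊥) (hE : E ≤ c.A)
    (hE2 : p ^ 2 ≤ Nat.card E) : ∃ e ∈ E, e ≠ 1 ∧ U ⊓ Subgroup.centralizer {e} ≠ ⊥ := by
  by_contra hno
  push Not at hno
  have hEc : IsMulCommutative E := ⟨⟨fun a b => Subtype.ext (c.comm (hE a.2) (hE b.2))⟩⟩
  refine hne (eq_bot_iff.2 ((Solv.gen_eq E U hEc (hE.trans (c.nrmA hU))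
    ((c.coprimeA hU).coprime_dvd_left (Subgroup.card_dvd_of_le hE))).ge.trans (iSup₂_le fun B hB => ?_)))
  obtain ⟨b, hb, hb1⟩ : ∃ b ∈ B, b ≠ 1 := by
    refine (Subgroup.bot_or_exists_ne_one B).resolve_left ?_
    rintro rfl
    obtain ⟨-, a, ha, he⟩ := hB
    rw [bot_sup_eq] at he
    rw [← he, Nat.card_zpowers] at hE2
    exact absurd (hE2.trans (Nat.le_of_dvd hp.out.pos (orderOf_dvd_of_pow_eq_one (c.pow_p (hE ha)))))
      (not_le.2 (lt_self_pow₀ hp.out.one_lt (by norm_num)))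
  exact (inf_le_inf_left _ (Subgroup.centralizer_le (by simpa using hb))).trans (hno b (hB.1 hb) hb1).le

theorem exists_hyp_fixed {U : Subgroup G} (hU : c.fam U) (hne : U ≠ ⊥) :
    ∃ D, c.Hyp D ∧ U ⊓ Subgroup.centralizer (D : Set G) ≠ ⊥ := by
  by_contra hno
  push Not at hno
  obtain ⟨D, hD⟩ := exists_hyp (c := c)
  refine hne (eq_bot_iff.2 (c.le_of_gen hU ?_ fun D hD => (hno D hD).le))
  exact (inf_le_inf_left _ (c.C_le_centA.trans (Subgroup.centralizer_le hD.1))).trans (hno D hD).le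

theorem stab_zpowers (c : Ctx G p) {e : G} (he : e ∈ c.A) : c.Stab (Subgroup.zpowers e) :=
  c.stab_of_le_A (Subgroup.zpowers_le.2 he)

theorem comm_inv {X : Subgroup G} (hX : c.Inv X) {e : G} (he : e ∈ c.A) :
    c.Inv ⁅X, Subgroup.zpowers e⁆ ∧ ⁅X, Subgroup.zpowers e⁆ ≤ X := by
  have hle : ⁅X, Subgroup.zpowers e⁆ ≤ X := Subgroup.commutator_le.2 fun x hx t ht =>
    comm_mem_left (Subgroup.zpowers_le.2 (c.nrm_a hX.1 he) ht) hx
  exact ⟨c.inv_of_le hX.1 hle (c.stab_commutator hX.stab (c.stab_zpowers he)), hle⟩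

/-- Fixed points of `e` on a member centralised by `X` force `⁅X, e⁆` to centralise it. -/
theorem cfpf {V X : Subgroup G} {v x : ℕ} (hV : c.fam V) (hVv : IsPGroup v V) (hX : c.fam X)
    (hXx : IsPGroup x X) (hv : v.Prime) (hx : x.Prime) (hne : x ≠ v) (hXc : IsMulCommutative X) {e : G}
    (he : e ∈ c.A) (hXV : X ≤ Subgroup.normalizer (V : Set G))
    (hfix : V ⊓ Subgroup.centralizer {e} ≤ Subgroup.centralizer (X : Set G)) :
    ⁅X, Subgroup.zpowers e⁆ ≤ Subgroup.centralizer (V : Set G) := by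
  haveI := Fact.mk hv
  haveI := Fact.mk hx
  by_cases hvp : p = v
  · have hVb : V = ⊥ := by
      obtain ⟨k, hk⟩ := IsPGroup.iff_card.1 hVv
      rcases k with _ | k
      · exact Subgroup.card_eq_one.1 (by simpa using hk)
      · exact absurd (hvp ▸ hk ▸ dvd_pow_self v (Nat.succ_ne_zero k)) hV.2.1
    rw [hVb]
    exact fun g _ => Subgroup.mem_centralizer_iff.2 fun t ht => by
      rw [Subgroup.mem_bot.1 ht, one_mul, mul_one]
  refine fpf_gen hp.out V X hVv hXc (c.pow_p he) (c.nrm_a hV he) (c.nrm_a hX he) hXV hvp (c.coprime_p hX) ?_ hfix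
  obtain ⟨k, hk⟩ := IsPGroup.iff_card.1 hXx
  exact hk ▸ ((Nat.coprime_primes hx hv).2 hne).pow_left k

/-- `⁅U, e⁆ ≤ O_q(P)` for an abelian `U ≤ O_q(N) ⊓ P` centralising `O_q(P)`, when `θ(e) ≤ N`. -/
theorem kLem {N P U : Subgroup G} {q : ℕ} (hN : c.Colour N) (hP : c.Colour P) (hq : q.Prime) (hU : c.Inv U)
    (hUc : IsMulCommutative U) (hUN : U ≤ Ox q N) (hUP : U ≤ P)
    (hUQ : U ≤ Subgroup.centralizer (Ox q P : Set G)) {e : G} (he : e ∈ c.A) (he1 : e ≠ 1)
    (heN : c.θ e ≤ N) : ⁅U, Subgroup.zpowers e⁆ ≤ Ox q P := by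
  obtain ⟨hI, hle⟩ := c.comm_inv hU he
  refine hP.le_Ox_of_comm hq (hle.trans hUP) ((isPGroup_Ox q N).to_le (hle.trans hUN)) fun r hr => ?_
  rcases eq_or_ne r q with rfl | hne
  · exact hle.trans hUQ
  refine c.cfpf (hP.inv_Ox r).1 (isPGroup_Ox r P) hU.1 ((isPGroup_Ox q N).to_le hUN) hr.1 hq hne.symm
    hUc he (hUP.trans (self_le_normalizer_Ox r P)) fun t ht => ?_
  obtain ⟨htP, hte⟩ := Subgroup.mem_inf.1 ht
  refine Subgroup.mem_centralizer_iff.2 fun u hu => ?_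
  exact comm_one (inf_bot_of_ne hq hr.1 hne.symm (isPGroup_Ox q N) (isPGroup_Ox r P)) (hUN hu) htP
    (self_le_normalizer_Ox q N (heN (c.inf_cent_le (hP.inv_Ox r).1 he he1 ht)))
    (self_le_normalizer_Ox r P (hUP hu))

theorem not_receive (hc : Crit c) {L P : Subgroup G} (hL : c.Colour L) (hmix : Mixed L) (hP : c.Colour P)
    (hne : P ≠ L) (hle : FLe P L) : ¬ pi L ⊆ pi P := by
  intro hsub
  have hPm : Mixed P := by
    obtain ⟨a, ha, b, hb, hab⟩ := hmix
    exact ⟨a, hsub ha, b, hsub hb, hab⟩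
  obtain ⟨s, hs, hsP⟩ := arrow₁ hc hP hL hPm hle hne.symm
  exact hsP (hsub hs)

/-- A mixed colour containing its `W`'s and receiving every colour that meets a centre is universal. -/
theorem receiver (hc : Crit c) {L : Subgroup G} (hL : c.Colour L) (hmix : Mixed L)
    (hW : ∀ w ∈ pi L, c.W w ≤ L)
    (hR : ∀ P, c.Colour P → P ≠ L → FLe P L ∨ ∀ w ∈ pi L, Zc w L ⊓ P = ⊥) : False := by
  have hY : ∀ w ∈ pi L, c.Yc w L ≠ ⊥ := fun w hw =>
    hL.Yc_ne_bot hc hw ((hW w hw).trans (self_le_normalizer_Ox w L))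
  -- a colour meeting the centre of `O_w(L)` owns `w`
  have owner : ∀ P w, c.Colour P → P ≠ L → w ∈ pi L → Zc w L ⊓ P ≠ ⊥ →
      FLe P L ∧ w ∈ pi P ∧ c.Yc w L ≤ Zc w P := by
    intro P w hP hne hw hmeet
    have hle : FLe P L := (hR P hP hne).resolve_right fun h => hmeet (h w hw)
    have hwP : w ∈ pi P := by
      by_contra hwP
      refine hmeet (hP.eq_bot_of_comm hw.1 inf_le_right ((isPGroup_Zc w L).to_le inf_le_left) hwP fun q hq => ?_)
      exact cent_of_mutual hw.1 hq.1 (fun h => hwP (h ▸ hq)) ((isPGroup_Zc w L).to_le inf_le_left)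
        (isPGroup_Ox q P) (inf_le_right.trans (self_le_normalizer_Ox q P)) fun g hg =>
        mem_normalizer_of_cj_le (by
          rw [cj_inf, cj_eq_self (self_le_normalizer_Zc w L (hle q hq.1 hg)),
            cj_eq_self_of_mem (Ox_le q P hg)])
    have hYP : c.Yc w L ≤ P := inf_le_left.trans (hP.z_le hc hwP)
    have hcq : ∀ q, q.Prime → c.Yc w L ≤ Subgroup.centralizer (Ox q P : Set G) := by
      intro q hq
      rcases eq_or_ne q w with rfl | hqw
      · exact inf_le_left.trans (c.z_cent (hP.Ox_le_W q))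
      · exact fun y hy => Subgroup.mem_centralizer_iff.2 fun t ht =>
          (comm_one (inf_bot_of_ne hw.1 hq hqw.symm (isPGroup_Zc w L) (isPGroup_Ox q P))
            (hL.Yc_le_Zc w hy) ht (self_le_normalizer_Zc w L (hle q hq ht))
            (self_le_normalizer_Ox q P (hYP hy))).symm
    exact ⟨hle, hwP, le_inf (hP.le_Ox_of_comm hw.1 hYP ((isPGroup_Zc w L).to_le (hL.Yc_le_Zc w))
      fun q hq => hcq q hq.1) (hcq w hw.1)⟩
  -- a normalised subgroup centralising parts of all centres has its normaliser in `L`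
  have crit : ∀ X J : Subgroup G, c.Inv X → X ≠ ⊥ → c.fam J → J ≤ Subgroup.normalizer (X : Set G) →
      (∀ v ∈ pi L, c.Yc v L ≤ Subgroup.centralizer (X : Set G) ∨
        Zc v L ≤ Subgroup.centralizer (X : Set G)) → J ≤ L := by
    intro X J hX hXne hJ hJX hfix
    obtain ⟨P', hP', hgr⟩ := c.exists_colour_norm hc hX hXne
    by_cases hPL : P' = L
    · exact hPL ▸ hgr J hJ hJX
    exfalso
    have hmeet : ∀ v ∈ pi L, Zc v L ⊓ P' ≠ ⊥ := by
      intro v hv hbot
      rcases hfix v hv with h | h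
      · exact hY v hv (le_bot_iff.1 (hbot ▸ le_inf (hL.Yc_le_Zc v)
          (hgr _ (hL.inv_Yc hc hv.1).1 (h.trans (Subgroup.centralizer_le_normalizer _)))))
      · exact Zc_ne_bot hv (le_bot_iff.1 (hbot ▸ le_inf le_rfl
          (hgr _ (hL.inv_Zc v).1 (h.trans (Subgroup.centralizer_le_normalizer _)))))
    obtain ⟨v, hv, -⟩ := id hmix
    exact not_receive hc hL hmix hP' hPL (owner P' v hP' hPL hv (hmeet v hv)).1
      fun w hw => (owner P' w hP' hPL hw (hmeet w hw)).2.1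
  have fix_same : ∀ {X P : Subgroup G} {x : ℕ}, c.Colour P → X ≤ Ox x P →
      c.Yc x L ≤ Subgroup.centralizer (X : Set G) :=
    fun hP hX => inf_le_left.trans ((c.z_cent (hX.trans (hP.Ox_le_W _))))
  have fix_owned : ∀ {X P : Subgroup G} {x v : ℕ}, c.Colour P → FLe P L → x.Prime → v ∈ pi P → v ≠ x →
      X ≤ Zc x P → c.Yc v L ≤ Subgroup.centralizer (X : Set G) := by
    intro X P x v hP hle hx hv hvx hX y hy
    refine Subgroup.mem_centralizer_iff.2 fun t ht => ?_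
    exact comm_one (inf_bot_of_ne hx hv.1 hvx.symm (isPGroup_Zc x P) (isPGroup_Zc v L)) (hX ht)
      (hL.Yc_le_Zc v hy) (self_le_normalizer_Zc x P (hP.z_le hc hv (inf_le_left (b := Ox v L) hy)))
      (self_le_normalizer_Zc v L (hle x hx (Zc_le_Ox x P (hX ht))))
  have fix_other : ∀ {P : Subgroup G} {x v : ℕ} {e : G}, c.Colour P → FLe P L → x ∈ pi P → v ∈ pi L →
      v ≠ x → e ∈ c.A → Zc v L ⊓ Subgroup.centralizer {e} = ⊥ →
      Zc v L ≤ Subgroup.centralizer ((⁅Zc x P, Subgroup.zpowers e⁆ : Subgroup G) : Set G) := by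
    intro P x v e hP hle hx hv hvx he hbot
    refine Subgroup.le_centralizer_iff.1 ?_
    exact c.cfpf (hL.inv_Zc v).1 (isPGroup_Zc v L) (hP.inv_Zc x).1 (isPGroup_Zc x P) hv.1 hx.1 hvx.symm
      (Zc_comm x P) he (((Zc_le_Ox x P).trans (hle x hx.1)).trans (self_le_normalizer_Zc v L))
      (hbot ▸ bot_le)
  -- elements outside the receiver centralise the centres of their colours
  have step : ∀ P e x, c.Colour P → e ∈ c.A → e ≠ 1 → c.θ e ≤ P → ¬ c.θ e ≤ L → FLe P L → x ∈ pi P →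
      e ∈ Subgroup.centralizer (Zc x P : Set G) := by
    intro P e x hP he he1 heP heL hle hx
    have hPL : P ≠ L := fun h => heL (h ▸ heP)
    refine cent_singleton_swap (le_cent_of_commutator ?_)
    by_contra hne
    obtain ⟨hI, hIle⟩ := c.comm_inv (hP.inv_Zc x) he
    refine heL (crit _ _ hI hne (c.theta_fam he he1) (fun g hg => mem_normalizer_of_cj_le (cj_comm_zpowers
      (self_le_normalizer_Zc x P (heP hg))
      (Subgroup.mem_centralizer_singleton_iff.1 (c.theta_cent he he1 hg))).le) fun v hv => ?_)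
    rcases eq_or_ne v x with rfl | hvx
    · exact Or.inl (fix_same hP (hIle.trans (Zc_le_Ox v P)))
    by_cases hvP : v ∈ pi P
    · exact Or.inl (fix_owned hP hle hx.1 hvP hvx hIle)
    · refine Or.inr (fix_other hP hle hx hv hvx he ?_)
      by_contra h
      refine hvP (owner P v hP hPL hv fun hb => h (le_bot_iff.1 (le_trans ?_ hb.le))).2.1
      exact le_inf inf_le_left ((c.inf_cent_le (hL.inv_Zc v).1 he he1).trans heP)
  refine false_of_hyp hc hL fun D hD => ?_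
  by_cases hTD : ∃ d ∈ D, d ≠ 1 ∧ c.θ d ≤ L
  · obtain ⟨d, hd, hd1, hdL⟩ := hTD
    exact (signalizerInf_le_theta hd hd1).trans hdL
  push Not at hTD
  obtain ⟨d₀, hd₀, hd₀1⟩ := c.hyp_ne_bot hD
  obtain ⟨P₀, hP₀, hdP₀⟩ := c.theta_colour (hD.1 hd₀) hd₀1
  have hP₀L : P₀ ≠ L := fun h => hTD d₀ hd₀ hd₀1 (h ▸ hdP₀)
  obtain ⟨u, hu, hu0⟩ : ∃ u ∈ pi L, Zc u L ⊓ P₀ = ⊥ := by
    by_contra h
    push Not at h
    obtain ⟨v, hv, -⟩ := id hmix
    exact not_receive hc hL hmix hP₀ hP₀L (owner P₀ v hP₀ hP₀L hv (h v hv)).1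
      fun w hw => (owner P₀ w hP₀ hP₀L hw (h w hw)).2.1
  obtain ⟨e, he, heY⟩ : ∃ e ∈ D, e ∉ Subgroup.centralizer (c.Yc u L : Set G) := by
    by_contra h
    push Not at h
    refine hY u hu (le_bot_iff.1 (hu0 ▸ le_inf (hL.Yc_le_Zc u) ?_))
    exact ((le_inf le_rfl (le_cent_of_swap (h d₀ hd₀))).trans
      (c.inf_cent_le (hL.inv_Yc hc hu.1).1 (hD.1 hd₀) hd₀1)).trans hdP₀
  obtain ⟨d, hd, hd1, hdY⟩ := exists_fixed (hL.inv_Yc hc hu.1).1 (hY u hu) hD.1 (c.hyp_card hD)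
  obtain ⟨P, hP, hdP⟩ := c.theta_colour (hD.1 hd) hd1
  have hPL : P ≠ L := fun h => hTD d hd hd1 (h ▸ hdP)
  obtain ⟨hle, huP, hYP⟩ := owner P u hP hPL hu fun hb => hdY (le_bot_iff.1 (hb ▸
    le_inf (inf_le_left.trans (hL.Yc_le_Zc u)) ((c.inf_cent_le (hL.inv_Yc hc hu.1).1 (hD.1 hd) hd1).trans hdP)))
  have hdZ := step P d u hP (hD.1 hd) hd1 hdP (hTD d hd hd1) hle huP
  have hdY' : d ∈ Subgroup.centralizer (c.Yc u L : Set G) := Subgroup.centralizer_le hYP hdZ
  obtain ⟨hI, hIle⟩ := c.comm_inv (hP.inv_Zc u) (hD.1 he)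
  have hIne : ⁅Zc u P, Subgroup.zpowers e⁆ ≠ ⊥ := fun h =>
    heY (Subgroup.centralizer_le hYP (cent_singleton_swap (le_cent_of_commutator h)))
  have hJ : c.fam (Cfsg.signalizerInf D c.θ) := c.fam_le (c.theta_fam (hD.1 hd) hd1)
    (signalizerInf_le_theta hd hd1) fun a ha => mem_normalizer_of_cj_le (by
      refine le_iInf fun t => (cj_mono (iInf_le _ t) a).trans ?_
      rw [cj_eq_self (c.nrm_a (c.theta_fam (hD.1 t.2.1) t.2.2) ha)])
  refine crit _ _ hI hIne hJ (fun g hg => mem_normalizer_of_cj_le (cj_comm_zpowers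
    (self_le_normalizer_Zc u P (hdP (signalizerInf_le_theta hd hd1 hg))) ?_).le) fun v hv => ?_
  · rcases eq_or_ne e 1 with rfl | he1
    · rw [one_mul, mul_one]
    · exact Subgroup.mem_centralizer_singleton_iff.1
        (c.theta_cent (hD.1 he) he1 (signalizerInf_le_theta he he1 hg))
  rcases eq_or_ne v u with rfl | hvu
  · exact Or.inl (fix_same hP (hIle.trans (Zc_le_Ox v P)))
  by_cases hvP : v ∈ pi P
  · exact Or.inl (fix_owned hP hle huP.1 hvP hvu hIle)
  refine Or.inr ?_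
  -- `e` or `d * e` is fixed-point-free on `Z(O_v(L))`
  have key : ∀ f ∈ D, f ≠ 1 → Zc v L ⊓ Subgroup.centralizer {f} ≠ ⊥ →
      f ∈ Subgroup.centralizer (c.Yc v L : Set G) := by
    intro f hf hf1 hne'
    obtain ⟨P', hP', hfP'⟩ := c.theta_colour (hD.1 hf) hf1
    have hP'L : P' ≠ L := fun h => hTD f hf hf1 (h ▸ hfP')
    obtain ⟨hle', hvP', hY'⟩ := owner P' v hP' hP'L hv fun hb => hne' (le_bot_iff.1 (hb ▸
      le_inf inf_le_left ((c.inf_cent_le (hL.inv_Zc v).1 (hD.1 hf) hf1).trans hfP')))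
    exact Subgroup.centralizer_le hY' (step P' f v hP' (hD.1 hf) hf1 hfP' (hTD f hf hf1) hle' hvP')
  have he1 : e ≠ 1 := fun h => heY (h ▸ one_mem _)
  have hde1 : d * e ≠ 1 := fun h => heY (by
    rw [eq_inv_of_mul_eq_one_right h]; exact inv_mem hdY')
  by_cases hfe : Zc v L ⊓ Subgroup.centralizer {e} = ⊥
  · exact fix_other hP hle huP hv hvu (hD.1 he) hfe
  by_cases hfde : Zc v L ⊓ Subgroup.centralizer {d * e} = ⊥
  · refine le_trans (fix_other hP hle huP hv hvu (hD.1 (mul_mem hd he)) hfde) (Subgroup.centralizer_le ?_)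
    refine Subgroup.commutator_le.2 fun a ha t ht => ?_
    obtain ⟨i, rfl⟩ := Subgroup.mem_zpowers_iff.1 ht
    have hce : Commute d e := c.comm (hD.1 hd) (hD.1 he)
    have hea : e ^ i * a⁻¹ * (e ^ i)⁻¹ ∈ Zc u P :=
      nrm ((Subgroup.zpowers_le.2 (c.nrm_a (hP.inv_Zc u).1 (hD.1 he))) (Subgroup.zpow_mem_zpowers e i))
        (inv_mem ha)
    have hd' : Commute (e ^ i * a⁻¹ * (e ^ i)⁻¹) (d ^ i) :=
      (show Commute _ d from Subgroup.mem_centralizer_iff.1 hdZ _ hea).zpow_right i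
    have h2 : ⁅a, (d * e) ^ i⁆ = ⁅a, e ^ i⁆ := by
      rw [hce.mul_zpow, commutatorElement_def, commutatorElement_def]
      calc a * (d ^ i * e ^ i) * a⁻¹ * (d ^ i * e ^ i)⁻¹
          = a * (d ^ i * (e ^ i * a⁻¹ * (e ^ i)⁻¹)) * (d ^ i)⁻¹ := by group
        _ = _ := by rw [← hd'.eq]; group
    rw [← h2]
    exact Subgroup.commutator_mem_commutator ha (Subgroup.zpow_mem_zpowers _ i)
  exfalso
  have h1 := key e he he1 hfe
  have h2 := key (d * e) (mul_mem hd he) hde1 hfde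
  have hd2 : d ∈ Subgroup.centralizer (c.Yc v L : Set G) := (mul_mem_cancel_right h1).1 h2
  refine hvP (owner P v hP hPL hv fun hb => hY v hv (le_bot_iff.1 (hb ▸ le_inf (hL.Yc_le_Zc v) ?_))).2.1
  exact ((le_inf le_rfl (le_cent_of_swap hd2)).trans (c.inf_cent_le (hL.inv_Yc hc hv.1).1 (hD.1 hd) hd1)).trans hdP

/-- No colour contains every `W`. -/
theorem false_of_allW (hs : Setup c) {L : Subgroup G} (hL : c.Colour L)
    (hW : ∀ w ∈ c.primes, c.W w ≤ L) : False := by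
  have hle : ∀ P, c.Colour P → FLe P L := fun P hP x hx => by
    by_cases hxP : x ∈ pi P
    · exact (hP.Ox_le_W x).trans (hW x (hP.mem_primes hxP))
    · rw [Ox_eq_bot hx hxP]; exact bot_le
  rcases hL.mixed_or_single hs.crit with hmix | ⟨q, hq⟩
  · exact receiver hs.crit hL hmix (fun w hw => hW w (hL.mem_primes hw)) fun P hP _ => Or.inl (hle P hP)
  have hqL := prime_of_pi_eq hq
  have hWq := hW q (hL.mem_primes hqL)
  have hYne := hL.Yc_ne_bot hs.crit hqL (hWq.trans (self_le_normalizer_Ox q L))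
  have hYI := hL.inv_Yc hs.crit hqL.1
  obtain ⟨B, hB, hBY⟩ := exists_hyp_fixed hYI.1 hYne
  refine false_of_monochrome hs.crit hL hB fun b hb hb1 => ?_
  obtain ⟨P, hP, hbP⟩ := c.theta_colour (hB.1 hb) hb1
  by_cases hPL : P = L
  · exact hPL ▸ hbP
  exfalso
  have hqP : q ∉ pi P := by
    intro hqP
    rcases mixed_or_eq hqP with hm | hs1
    · obtain ⟨u, hu, huq⟩ := exists_pi_ne hm q
      have h := c.pq hs hL hq hP hqP hu huq
      exact hu.2 (le_bot_iff.1 (h ▸ le_inf le_rfl (hle P hP u hu.1)))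
    · exact hPL ((hs.hu L q hL hq).2 P hP hs1)
  refine hBY (le_bot_iff.1 ?_)
  have hUP : c.Yc q L ⊓ Subgroup.centralizer (B : Set G) ≤ P :=
    (c.inf_centD_le hYI.1 hB.1 hb hb1).trans hbP
  refine le_of_eq (hP.eq_bot_of_comm hqL.1 hUP ((isPGroup_Ox q L).to_le (inf_le_left.trans inf_le_right)) hqP
    fun r hr y hy => Subgroup.mem_centralizer_iff.2 fun t ht => ?_)
  have hrq : q ≠ r := fun h => hqP (h ▸ hr)
  exact (comm_one (inf_bot_of_ne hqL.1 hr.1 hrq (isPGroup_Zc q L) (isPGroup_Ox r P))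
    (hL.Yc_le_Zc q (inf_le_left (b := Subgroup.centralizer (B : Set G)) hy)) ht
    (self_le_normalizer_Zc q L (hle P hP r hr.1 ht)) (self_le_normalizer_Ox r P (hUP hy))).symm

end Ctx

end Cfsg.Agent.SSF
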