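import Cfsg.Agent.Lib.SSF.Colour
import Cfsg.Agent.Lib.SSF.GoodAct
import Cfsg.Agent.Lib.Fusion.ZJElementary

/-!
The largest reduced module of a colour with a single Fitting prime.
-/

set_option autoImplicit false
set_option linter.style.haveILetI false

open Cfsg Cfsg.Agent Cfsg.Agent.Fusion
open scoped commutatorElement Pointwise

namespace Cfsg.Agent.SSF

universe u

variable {G : Type u} [Group G] [Finite G] {p q : ℕ} [hp : Fact p.Prime] [hq : Fact q.Prime]

/-- A non-trivial `q`-group of automorphisms of an abelian `q`-group has non-trivial fixed points. -/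
theorem fixed_ne_bot {W N : Subgroup G} (hW : IsPGroup q W) (hne : W ≠ ⊥)
    (hNW : N ≤ Subgroup.normalizer (W : Set G))
    (hq' : ∀ g ∈ N, ∃ k : ℕ, g ^ q ^ k ∈ Subgroup.centralizer (W : Set G)) :
    W ⊓ Subgroup.centralizer (N : Set G) ≠ ⊥ := by
  obtain ⟨Y, hY⟩ : ∃ Y, Y = (W.normalizerMonoidHom.comp (Subgroup.inclusion hNW)).range := ⟨_, rfl⟩
  have hYq : IsPGroup q Y := by
    rintro ⟨y, hy⟩
    rw [hY] at hy
    obtain ⟨g, rfl⟩ := hy
    obtain ⟨k, hk⟩ := hq' g g.2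
    refine ⟨k, Subtype.ext ?_⟩
    rw [Subgroup.coe_pow, ← map_pow, Subgroup.coe_one, MonoidHom.comp_apply, ← MonoidHom.mem_ker,
      Subgroup.normalizerMonoidHom_ker, Subgroup.mem_subgroupOf]
    simpa using hk
  haveI := Fact.mk hq.out
  haveI : Nontrivial W := (Subgroup.nontrivial_iff_ne_bot W).2 hne
  obtain ⟨n, hn⟩ := IsPGroup.iff_card.1 hW
  have hn0 : n ≠ 0 := by
    rintro rfl
    exact hne (Subgroup.card_eq_one.1 (by simpa using hn))
  obtain ⟨v, hv, hv1⟩ := hYq.exists_fixed_point_of_prime_dvd_card_of_fixed_point W (hn ▸ dvd_pow_self q hn0)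
    (a := 1) (fun y => map_one (y : MulAut W))
  intro hbot
  refine hv1 (Subtype.ext (Eq.symm (Subgroup.mem_bot.1 (hbot ▸ Subgroup.mem_inf.2 ⟨v.2, ?_⟩))))
  refine Subgroup.mem_centralizer_iff.2 fun g hg => ?_
  have h := hv ⟨W.normalizerMonoidHom ⟨g, hNW hg⟩, hY ▸ ⟨⟨g, hg⟩, rfl⟩⟩
  exact mul_inv_eq_iff_eq_mul.1 (congrArg Subtype.val h)

namespace Ctx

variable (c : Ctx G p)

/-- The greatest member in the normaliser of `X`. -/
def gr (X : Subgroup G) : Subgroup G :=
  sSup {U | c.fam U ∧ U ≤ Subgroup.normalizer (X : Set G)}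

theorem le_gr {X U : Subgroup G} (hU : c.fam U) (hn : U ≤ Subgroup.normalizer (X : Set G)) : U ≤ c.gr X :=
  le_sSup ⟨hU, hn⟩

variable {c}

theorem gr_spec (hc : Crit c) {X : Subgroup G} (hX : c.fam X) (hne : X ≠ ⊥) :
    c.fam (c.gr X) ∧ c.gr X ≤ Subgroup.normalizer (X : Set G) ∧
      (∀ U, c.fam U → U ≤ Subgroup.normalizer (X : Set G) → U ≤ c.gr X) ∧
        c.A ≤ Subgroup.normalizer (c.gr X : Set G) := by
  obtain ⟨K, hK, hKn, hgr⟩ := c.exists_gr hc hX hne
  have he : c.gr X = K := le_antisymm (sSup_le fun U hU => hgr U hU.1 hU.2) (le_sSup ⟨hK, hKn⟩)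
  exact he.symm ▸ ⟨hK, hKn, hgr, c.nrmA hK⟩

end Ctx

/-- A colour whose only Fitting prime is the small prime `q`. -/
structure Single {G : Type u} [Group G] [Finite G] {p : ℕ} [Fact p.Prime] (c : Ctx G p) (q : ℕ)
    (H : Subgroup G) : Prop where
  crit : Crit c
  colour : c.Colour H
  hpi : pi H = {q}
  hq23 : (q = 2 ∧ p ≠ 2) ∨ (q = 3 ∧ 5 ≤ p)

/-- The elementary part of the centre of `O_q(H)`. -/
def omegaZ (q : ℕ) (H : Subgroup G) : Subgroup G :=
  Subgroup.closure {z | z ∈ Zc q H ∧ z ^ q = 1}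

/-- The largest reduced normal module. -/
def redU (q : ℕ) (H : Subgroup G) : Subgroup G :=
  sSup {W | W ≤ omegaZ q H ∧ H ≤ Subgroup.normalizer (W : Set G) ∧ Red q H W}

/-- The centraliser of the reduced module. -/
def redC (q : ℕ) (H : Subgroup G) : Subgroup G := H ⊓ Subgroup.centralizer (redU q H : Set G)

omit hp in
theorem omegaZ_le (H : Subgroup G) : omegaZ q H ≤ Zc q H :=
  (Subgroup.closure_le _).2 fun _ h => h.1

omit hp in
theorem omegaZ_elem (H : Subgroup G) : IsElementaryAbelian q (omegaZ q H) :=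
  Local.elemAb_closure _ (fun _ ha _ hb => Subgroup.mem_centralizer_iff.1 (Subgroup.mem_inf.1 hb.1).2 _
    (Subgroup.mem_inf.1 ha.1).1) fun _ ha => ha.2

omit hp in
theorem mem_omegaZ {H : Subgroup G} {z : G} (hz : z ∈ Ox q H)
    (hc : z ∈ Subgroup.centralizer (Ox q H : Set G)) (hzq : z ^ q = 1) : z ∈ omegaZ q H :=
  Subgroup.subset_closure ⟨Subgroup.mem_inf.2 ⟨hz, hc⟩, hzq⟩

omit hp in
theorem normalizer_le_normalizer_omegaZ (H : Subgroup G) :
    Subgroup.normalizer (H : Set G) ≤ Subgroup.normalizer (omegaZ q H : Set G) := fun g hg =>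
  mem_normalizer_of_cj_le (by
    rw [omegaZ, cj, MonoidHom.map_closure, Subgroup.closure_le]
    rintro _ ⟨z, ⟨hz, hzq⟩, rfl⟩
    exact Subgroup.subset_closure ⟨nrm (normalizer_le_normalizer_Zc q H hg) hz, by
      show (g * z * g⁻¹) ^ q = 1
      rw [conj_pow, hzq, mul_one, mul_inv_cancel]⟩)

omit hp in
theorem red_cj {M W : Subgroup G} (h : Red q M W) (g : G) : Red q (cj M g) (cj W g) := by
  intro N hN hMN hCN hq'
  have h1 : cj N g⁻¹ ≤ Subgroup.centralizer (W : Set G) := by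
    refine h (cj N g⁻¹) ((cj_mono hN g⁻¹).trans (cj_cj_inv M g).le) ?_ ?_ ?_
    · rw [← cj_normalizer]
      exact (cj_cj_inv M g).ge.trans (cj_mono hMN g⁻¹)
    · have h2 := cj_mono hCN g⁻¹
      rwa [cj_inf, cj_centralizer, cj_cj_inv, cj_cj_inv] at h2
    · rintro _ ⟨n, hn, rfl⟩
      obtain ⟨k, hk⟩ := hq' n hn
      refine ⟨k, ?_⟩
      have h2 := conj_mem_cj (g := g⁻¹) hk
      rw [cj_centralizer, cj_cj_inv] at h2
      show (g⁻¹ * n * g⁻¹⁻¹) ^ q ^ k ∈ _
      rwa [conj_pow]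
  have h2 := cj_mono h1 g
  rwa [cj_inv_cj, cj_centralizer] at h2

namespace Single

variable {c : Ctx G p} {H : Subgroup G} (s : Single c q H)

include s

theorem qmem : q ∈ pi H := Ctx.prime_of_pi_eq s.hpi

theorem Q_ne_bot : Ox q H ≠ ⊥ := s.qmem.2

theorem cent_Q_le : H ⊓ Subgroup.centralizer (Ox q H : Set G) ≤ Ox q H := by
  have h0 : pPrimeCore q ↥H = ⊥ := by
    refine (Subgroup.map_eq_bot_iff_of_injective _ H.subtype_injective).1 ?_
    refine normal_eq_bot s.colour.sol (Opc_le q H) (self_le_normalizer_Opc q H) fun r hr => ?_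
    by_cases hrH : r ∈ pi H
    · rw [s.hpi, Set.mem_singleton_iff] at hrH
      subst hrH
      exact coprime_inf_pGroup (Opc_coprime r H) (isPGroup_Ox r H)
    · rw [Ox_eq_bot hr hrH, inf_bot_eq]
  intro g hg
  obtain ⟨hgH, hgc⟩ := Subgroup.mem_inf.1 hg
  refine ⟨⟨g, hgH⟩, centralizer_pCore_le_of_solvable s.colour.sol h0
    (Subgroup.mem_centralizer_iff.2 fun z hz => Subtype.ext
      (Subgroup.mem_centralizer_iff.1 hgc z ⟨z, hz, rfl⟩)), rfl⟩

/-- A member centralising `O_q(H)` lies in it. -/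
theorem fam_cent_le {X : Subgroup G} (hX : c.fam X) (hc : X ≤ Subgroup.centralizer (Ox q H : Set G)) :
    X ≤ Ox q H :=
  (le_inf (s.colour.le_of_norm_Ox s.crit s.qmem hX (hc.trans (Subgroup.centralizer_le_normalizer _))) hc).trans
    s.cent_Q_le

theorem U_le_omega : redU q H ≤ omegaZ q H := sSup_le fun _ h => h.1

theorem U_le_Q : redU q H ≤ Ox q H :=
  s.U_le_omega.trans ((omegaZ_le H).trans (Zc_le_Ox q H))

theorem U_elem : IsElementaryAbelian q (redU q H) := Local.elemAb_mono (omegaZ_elem H) s.U_le_omega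

theorem normalizer_U : Subgroup.normalizer (H : Set G) ≤ Subgroup.normalizer (redU q H : Set G) := by
  intro g hg
  refine mem_normalizer_of_cj_le ?_
  rw [redU, sSup_eq_iSup, cj, Subgroup.map_iSup]
  refine iSup_le fun W => ?_
  rw [Subgroup.map_iSup]
  refine iSup_le fun hW => le_iSup₂_of_le (cj W g) ⟨?_, ?_, ?_⟩ le_rfl
  · exact (cj_mono hW.1 g).trans (cj_eq_self (normalizer_le_normalizer_omegaZ H hg)).le
  · rw [← cj_normalizer]
    exact (cj_eq_self hg).ge.trans (cj_mono hW.2.1 g)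
  · exact cj_eq_self hg ▸ red_cj hW.2.2 g

theorem H_normalizer_U : H ≤ Subgroup.normalizer (redU q H : Set G) :=
  Subgroup.le_normalizer.trans s.normalizer_U

theorem A_normalizer_U : c.A ≤ Subgroup.normalizer (redU q H : Set G) :=
  (c.nrmA s.colour.1).trans s.normalizer_U

theorem U_red : Red q H (redU q H) := by
  intro N hNH hHN _ hq'
  refine Subgroup.le_centralizer_iff.1 (sSup_le fun W hW => Subgroup.le_centralizer_iff.1 ?_)
  obtain ⟨hW1, hW2, hW3⟩ := hW
  obtain ⟨D, hD⟩ : ∃ D, D = H ⊓ Subgroup.centralizer (W : Set G) := ⟨_, rfl⟩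
  have hWU : W ≤ redU q H := le_sSup ⟨hW1, hW2, hW3⟩
  have hDn : H ≤ Subgroup.normalizer (D : Set G) := fun g hg => mem_normalizer_of_cj_le (by
    rw [hD, cj_inf, cj_centralizer, cj_eq_self_of_mem hg, cj_eq_self (hW2 hg)])
  refine (le_sup_left : N ≤ N ⊔ D).trans (hW3 (N ⊔ D) (sup_le hNH (hD ▸ inf_le_left))
    (fun g hg => mem_normalizer_of_cj_le (by rw [cj_sup, cj_eq_self (hHN hg), cj_eq_self (hDn hg)]))
    (hD ▸ le_sup_right) ?_)
  intro g hg
  have hg' : g ∈ ((N ⊔ D : Subgroup G) : Set G) := hg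
  rw [Subgroup.coe_mul_of_right_le_normalizer_left N D ((hD ▸ inf_le_left : D ≤ H).trans hHN)] at hg'
  obtain ⟨n, hn, d, hd, rfl⟩ := hg'
  obtain ⟨k, hk⟩ := hq' n hn
  refine ⟨k, ?_⟩
  show (n * d) ^ q ^ k ∈ _
  have key : ∀ m : ℕ, (n ^ m)⁻¹ * (n * d) ^ m ∈ D := by
    intro m
    induction m with
    | zero => simp
    | succ m ih =>
      have e : (n ^ (m + 1))⁻¹ * (n * d) ^ (m + 1) = n⁻¹ * ((n ^ m)⁻¹ * (n * d) ^ m) * n * d := by
        rw [pow_succ, pow_succ]; group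
      rw [e]
      refine mul_mem ?_ hd
      have h3 := nrm (hDn (inv_mem (hNH hn))) ih
      rwa [inv_inv] at h3
  have h1 := key (q ^ k)
  rw [hD] at h1
  have h2 := mul_mem (Subgroup.centralizer_le hWU hk : n ^ q ^ k ∈ Subgroup.centralizer (W : Set G))
    (Subgroup.mem_inf.1 h1).2
  rwa [mul_inv_cancel_left] at h2

theorem U_ne_bot : redU q H ≠ ⊥ := by
  have hZ : omegaZ q H ≠ ⊥ := fun h => by
    have hne := Zc_ne_bot s.qmem
    obtain ⟨n, hn⟩ := IsPGroup.iff_card.1 (isPGroup_Zc q H)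
    rcases n with _ | n
    · exact hne (Subgroup.card_eq_one.1 (by simpa using hn))
    obtain ⟨z, hz⟩ := exists_prime_orderOf_dvd_card' q (hn ▸ dvd_pow_self q n.succ_ne_zero :
      q ∣ Nat.card (Zc q H))
    have hzq : (z : G) ^ q = 1 := by
      have := congrArg Subtype.val (hz ▸ pow_orderOf_eq_one z)
      simpa using this
    have hmem : (z : G) ∈ omegaZ q H := Subgroup.subset_closure ⟨z.2, hzq⟩
    rw [h, Subgroup.mem_bot] at hmem
    exact hq.out.one_lt.ne' (by rw [← hz, orderOf_eq_one_iff]; exact Subtype.ext hmem)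
  obtain ⟨W, hW, hmin⟩ := (Set.toFinite {W : Subgroup G | W ≤ omegaZ q H ∧
    H ≤ Subgroup.normalizer (W : Set G) ∧ W ≠ ⊥}).exists_minimal
      ⟨omegaZ q H, le_rfl, Subgroup.le_normalizer.trans (normalizer_le_normalizer_omegaZ H), hZ⟩
  obtain ⟨hWZ, hWH, hWne⟩ := hW
  intro hbot
  refine hWne (le_bot_iff.1 (hbot ▸ le_sSup ⟨hWZ, hWH, fun N hNH hHN _ hq' => ?_⟩))
  have hWq : IsPGroup q W := Local.elemAb_isPGroup (Local.elemAb_mono (omegaZ_elem H) hWZ)
  obtain ⟨V, hV⟩ : ∃ V, V = W ⊓ Subgroup.centralizer (N : Set G) := ⟨_, rfl⟩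
  have hVne : V ≠ ⊥ := hV ▸ fixed_ne_bot hWq hWne (hNH.trans hWH) hq'
  have hle := hmin ⟨(hV ▸ inf_le_left : V ≤ W).trans hWZ, fun g hg => mem_normalizer_of_cj_le (by
    rw [hV, cj_inf, cj_centralizer, cj_eq_self (hWH hg), cj_eq_self (hHN hg)]), hVne⟩ (hV ▸ inf_le_left)
  exact Subgroup.le_centralizer_iff.1 (hle.trans (hV ▸ inf_le_right))

theorem U_le_H : redU q H ≤ H := s.U_le_Q.trans (Ox_le q H)

theorem U_fam : c.fam (redU q H) := c.fam_le s.colour.1 s.U_le_H s.A_normalizer_U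

/-- A member normalising the reduced module lies in `H`. -/
theorem le_H_of_norm_U {X : Subgroup G} (hX : c.fam X)
    (hn : X ≤ Subgroup.normalizer (redU q H : Set G)) : X ≤ H :=
  s.colour.le_of_norm s.crit ⟨s.A_normalizer_U, s.colour.2.1.trans s.H_normalizer_U⟩ s.U_le_H
    s.U_ne_bot s.H_normalizer_U hX hn

theorem Cu_le : redC q H ≤ H := inf_le_left

theorem H_normalizer_Cu : H ≤ Subgroup.normalizer (redC q H : Set G) := fun g hg =>
  mem_normalizer_of_cj_le (by
    rw [redC, cj_inf, cj_centralizer, cj_eq_self_of_mem hg, cj_eq_self (s.H_normalizer_U hg)])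

theorem A_normalizer_Cu : c.A ≤ Subgroup.normalizer (redC q H : Set G) := fun g hg =>
  mem_normalizer_of_cj_le (by
    rw [redC, cj_inf, cj_centralizer, cj_eq_self (c.nrm_a s.colour.1 hg), cj_eq_self (s.A_normalizer_U hg)])

theorem Cu_fam : c.fam (redC q H) := c.fam_le s.colour.1 s.Cu_le s.A_normalizer_Cu

theorem Q_le_Cu : Ox q H ≤ redC q H :=
  le_inf (Ox_le q H) (Subgroup.le_centralizer_iff.1
    (s.U_le_omega.trans ((omegaZ_le H).trans inf_le_right)))

theorem U_le_Cu : redU q H ≤ redC q H := s.U_le_Q.trans s.Q_le_Cu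

theorem Q_le_sylow {R : Subgroup G} (hR : Solv.IsSylIn q R (redC q H)) : Ox q H ≤ R := by
  obtain ⟨J, hJ⟩ : ∃ J, J = R ⊔ Ox q H := ⟨_, rfl⟩
  have hle : R ≤ Subgroup.normalizer (Ox q H : Set G) :=
    (hR.1.trans s.Cu_le).trans (self_le_normalizer_Ox q H)
  have hq' : IsPGroup q J := hJ ▸ hR.isPGroup.to_sup_of_normal_right' (isPGroup_Ox q H) hle
  rw [hR.eq_of_le hq' (hJ ▸ sup_le hR.1 s.Q_le_Cu) (hJ ▸ le_sup_left), hJ]
  exact le_sup_right

/-- Members of `H` centralising a Sylow subgroup of the centraliser lie in the reduced module. -/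
theorem fixed_le_U {R : Subgroup G} (hR : Solv.IsSylIn q R (redC q H)) :
    omegaZ q H ⊓ Subgroup.centralizer (R : Set G) ≤ redU q H := by
  obtain ⟨S, hS⟩ : ∃ S, S = omegaZ q H ⊓ Subgroup.centralizer (R : Set G) := ⟨_, rfl⟩
  rw [← hS]
  obtain ⟨W, hW⟩ : ∃ W, W = redU q H ⊔ ⨆ h ∈ (H : Set G), cj S h := ⟨_, rfl⟩
  have hWn : H ≤ Subgroup.normalizer (W : Set G) := fun g hg => mem_normalizer_of_cj_le (by
    rw [hW, cj_sup, cj_eq_self (s.H_normalizer_U hg)]
    refine sup_le_sup_left ?_ _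
    rw [cj, Subgroup.map_iSup]
    refine iSup_le fun h => ?_
    rw [Subgroup.map_iSup]
    exact iSup_le fun hh => le_iSup₂_of_le (g * h) (mul_mem hg hh) (cj_cj S h g).le)
  refine le_trans ?_ (le_sSup (a := W) ⟨?_, hWn, ?_⟩)
  · exact hW ▸ le_sup_of_le_right (le_iSup₂_of_le 1 (one_mem H) (cj_one S).ge)
  · rw [hW]
    exact sup_le s.U_le_omega (iSup₂_le fun h hh => (cj_mono (hS ▸ inf_le_left) h).trans
      (cj_eq_self (normalizer_le_normalizer_omegaZ H (Subgroup.le_normalizer hh))).le)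
  · intro N hNH hHN hCN hq'
    have hUW : redU q H ≤ W := hW ▸ le_sup_left
    have hNU : N ≤ Subgroup.centralizer (redU q H : Set G) := by
      obtain ⟨D, hD⟩ : ∃ D, D = redC q H := ⟨_, rfl⟩
      have hDn : H ≤ Subgroup.normalizer (D : Set G) := hD ▸ s.H_normalizer_Cu
      refine (le_sup_left : N ≤ N ⊔ D).trans (s.U_red (N ⊔ D) (sup_le hNH (hD ▸ s.Cu_le))
        (fun g hg => mem_normalizer_of_cj_le (by rw [cj_sup, cj_eq_self (hHN hg), cj_eq_self (hDn hg)]))
        (hD ▸ le_sup_right) fun g hg => ?_)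
      have hg' : g ∈ ((D ⊔ N : Subgroup G) : Set G) := sup_comm N D ▸ hg
      rw [Subgroup.coe_mul_of_right_le_normalizer_left D N (hNH.trans hDn)] at hg'
      obtain ⟨d, hd, n, hn, rfl⟩ := hg'
      obtain ⟨k, hk⟩ := hq' n hn
      refine ⟨k, ?_⟩
      have key : ∀ m : ℕ, (d * n) ^ m * (n ^ m)⁻¹ ∈ D := by
        intro m
        induction m with
        | zero => simp
        | succ m ih =>
          have e : (d * n) ^ (m + 1) * (n ^ (m + 1))⁻¹ = d * (n * ((d * n) ^ m * (n ^ m)⁻¹) * n⁻¹) := by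
            rw [pow_succ', pow_succ']; group
          rw [e]
          exact mul_mem hd (nrm (hDn (hNH hn)) ih)
      have h1 := hD ▸ key (q ^ k)
      have h2 := mul_mem (Subgroup.mem_inf.1 h1).2
        (Subgroup.centralizer_le hUW hk : n ^ q ^ k ∈ Subgroup.centralizer (redU q H : Set G))
      rwa [inv_mul_cancel_right] at h2
    have hNCu : N ≤ redC q H := le_inf hNH hNU
    obtain ⟨T, hT⟩ : ∃ T, T = N ⊓ R := ⟨_, rfl⟩
    have hNS : N ≤ Subgroup.centralizer (S : Set G) := by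
      obtain ⟨K, hK⟩ : ∃ K, K = N ⊓ Subgroup.centralizer (W : Set G) := ⟨_, rfl⟩
      have hKN : K ≤ N := hK ▸ inf_le_left
      have hKn : N ≤ Subgroup.normalizer (K : Set G) := fun g hg => mem_normalizer_of_cj_le (by
        rw [hK, cj_inf, cj_centralizer, cj_eq_self_of_mem hg, cj_eq_self (hWn (hNH hg))])
      have hTN : T ≤ N := hT ▸ inf_le_left
      have hTsyl : Solv.IsSylIn q T N := by
        refine hT ▸ inter_sylow hR hNCu (fun g hg => hHN (Subgroup.mem_inf.1 hg).1)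
      have hle : K ⊔ T ≤ N := sup_le hKN hTN
      have heq : K ⊔ T = N := by
        haveI : (K.subgroupOf N).Normal := (Subgroup.normal_subgroupOf_iff_le_normalizer hKN).2 hKn
        have hq2 : IsPGroup q (N ⧸ K.subgroupOf N) := fun y => by
          obtain ⟨g, rfl⟩ := QuotientGroup.mk_surjective y
          obtain ⟨k, hk⟩ := hq' g g.2
          refine ⟨k, (QuotientGroup.eq_one_iff _).2 ?_⟩
          rw [Subgroup.mem_subgroupOf, Subgroup.coe_pow, hK]
          exact Subgroup.mem_inf.2 ⟨pow_mem g.2 _, hk⟩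
        obtain ⟨a, ha⟩ := IsPGroup.iff_card.1 hq2
        rw [← Subgroup.index_eq_card] at ha
        have h1 : (K ⊔ T).relIndex N ∣ q ^ a := ha ▸ Subgroup.relIndex_dvd_of_le_left N le_sup_left
        have h2 : (K ⊔ T).relIndex N ∣ T.relIndex N := Subgroup.relIndex_dvd_of_le_left N le_sup_right
        have h3 : ¬ q ∣ T.relIndex N := by
          intro hd
          have h4 := card_mul_relIndex_of_le hTN
          obtain ⟨m, hm⟩ := hd
          rw [hTsyl.2, hm, ← mul_assoc, ← pow_succ] at h4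
          exact Nat.pow_succ_factorization_not_dvd Nat.card_pos.ne' hq.out ⟨m, h4.symm⟩
        have h5 : (K ⊔ T).relIndex N = 1 := by
          obtain ⟨b, -, hb⟩ := (Nat.dvd_prime_pow hq.out).1 h1
          rcases b with _ | b
          · simpa using hb
          · exact absurd ((hb ▸ dvd_pow_self q b.succ_ne_zero).trans h2) h3
        exact le_antisymm hle (Subgroup.relIndex_eq_one.1 h5)
      rw [← heq]
      have hSW : S ≤ W := hW ▸ le_sup_of_le_right (le_iSup₂_of_le 1 (one_mem H) (cj_one S).ge)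
      refine sup_le ((hK ▸ inf_le_right : K ≤ _).trans (Subgroup.centralizer_le hSW))
        ((hT ▸ inf_le_right : T ≤ R).trans (Subgroup.le_centralizer_iff.1 (hS ▸ inf_le_right)))
    refine Subgroup.le_centralizer_iff.1 ?_
    rw [hW]
    refine sup_le (Subgroup.le_centralizer_iff.1 hNU) (iSup₂_le fun h hh => ?_)
    have h1 := cj_mono (Subgroup.le_centralizer_iff.1 hNS) h
    rwa [cj_centralizer, cj_eq_self (hHN hh)] at h1
where
  inter_sylow {R N K : Subgroup G} (hR : Solv.IsSylIn q R K) (hN : N ≤ K)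
      (hn : K ≤ Subgroup.normalizer (N : Set G)) : Solv.IsSylIn q (N ⊓ R) N := by
    refine ⟨inf_le_left, ?_⟩
    obtain ⟨n, hn'⟩ := IsPGroup.iff_card.1 (hR.isPGroup.to_le (inf_le_right : N ⊓ R ≤ R))
    rw [hn']
    congr 1
    have h := Solv.card_sup_mul_card_inf' N R (hR.1.trans hn)
    have hd : Nat.card ↥(N ⊔ R) ∣ Nat.card K := Subgroup.card_dvd_of_le (sup_le hN hR.1)
    have hpos : ∀ S : Subgroup G, Nat.card S ≠ 0 := fun S => Nat.card_pos.ne'
    have e1 := congrArg (fun m : ℕ => m.factorization q) h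
    simp only [Nat.factorization_mul (hpos _) (hpos _), Finsupp.add_apply] at e1
    rw [hn', hR.2] at e1
    have e2 := (Nat.factorization_le_iff_dvd (hpos _) (hpos _)).2 hd q
    have e3 := (Nat.factorization_le_iff_dvd (hpos _) (hpos _)).2
      (Subgroup.card_dvd_of_le (le_sup_right : R ≤ N ⊔ R)) q
    rw [hR.2] at e3
    simp only [Nat.Prime.factorization_pow hq.out, Finsupp.single_eq_same] at e1 e3
    have e4 := (Nat.Prime.pow_dvd_iff_le_factorization hq.out (hpos N)).1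
      (hn' ▸ Subgroup.card_dvd_of_le (inf_le_left : N ⊓ R ≤ N))
    omega

end Single

end Cfsg.Agent.SSF
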