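import Cfsg.Agent.Lib.SSF.RF

/-!
The colours containing all but one `W`, and the absence of a colour with all Fitting primes.
-/

set_option autoImplicit false
set_option linter.style.haveILetI false

open Cfsg Cfsg.Agent Cfsg.Agent.Fusion
open scoped commutatorElement Pointwise

namespace Cfsg.Agent.SSF

universe u

variable {G : Type u} [Group G] [Finite G] {p : ℕ} [hp : Fact p.Prime]

namespace Ctx

variable {c : Ctx G p}

/-- A colour containing every `W x` with `x ≠ t`. -/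
def IsR (c : Ctx G p) (t : ℕ) (P : Subgroup G) : Prop :=
  t ∈ c.primes ∧ c.Colour P ∧ ∀ x ∈ c.primes, x ≠ t → c.W x ≤ P

theorem exists_R (hc : Crit c) {t : ℕ} (ht : t ∈ c.primes) : ∃ P, c.IsR t P := by
  obtain ⟨P, hP, hle⟩ := c.exists_colour_ge (c.Wc_spec hc ht).1
  exact ⟨P, ht, hP, fun x hx hne => (c.W_le_Wc hc hx.1 ht.1 hne).trans hle⟩

theorem R_unique (hs : Setup c) {t v : ℕ} {P : Subgroup G} (hT : c.IsR t P) (hV : c.IsR v P) : t = v := by
  by_contra hne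
  refine false_of_allW hs hT.2.1 fun w hw => ?_
  rcases eq_or_ne w t with rfl | hwt
  exacts [hV.2.2 w hw hne, hT.2.2 w hw hwt]

theorem R_ne (hs : Setup c) {t v : ℕ} {T V : Subgroup G} (hT : c.IsR t T) (hV : c.IsR v V) (hne : t ≠ v) :
    T ≠ V := fun h => hne (R_unique hs hT (h ▸ hV))

theorem R_not_W (hs : Setup c) {t : ℕ} {T : Subgroup G} (hT : c.IsR t T) : ¬ c.W t ≤ T := fun h =>
  false_of_allW hs hT.2.1 fun w hw => by
    rcases eq_or_ne w t with rfl | hwt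
    exacts [h, hT.2.2 w hw hwt]

theorem R_single_ne (hs : Setup c) {t q : ℕ} {T : Subgroup G} (hT : c.IsR t T) (hq : pi T = {q}) : q ≠ t :=
  fun h => R_not_W hs hT (h ▸ (hs.hu T q hT.2.1 hq).1)

theorem free {t : ℕ} {T P : Subgroup G} (hT : c.IsR t T) (hP : c.Colour P) (ht : t ∉ pi P) : FLe P T :=
  fun x hx => by
    by_cases hxP : x ∈ pi P
    · exact (hP.Ox_le_W x).trans (hT.2.2 x (hP.mem_primes hxP) fun h => ht (h ▸ hxP))
    · rw [Ox_eq_bot hx hxP]; exact bot_le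

theorem nf (hs : Setup c) {t v : ℕ} {T V : Subgroup G} (hT : c.IsR t T) (hV : c.IsR v V) (hne : t ≠ v)
    (hmix : Mixed V) (htV : t ∉ pi V) : v ∈ pi T ∧ v ∉ pi V := by
  obtain ⟨s, hsT, hsV⟩ := arrow₁ hs.crit hV.2.1 hT.2.1 hmix (free hT hV.2.1 htV) (R_ne hs hT hV hne)
  have hsv : s = v := by
    by_contra h
    have := arrow₂ hV.2.1 (free hT hV.2.1 htV) hsT hsV
    rw [inf_eq_left.2 ((hT.2.1.Ox_le_W s).trans (hV.2.2 s (hT.2.1.mem_primes hsT) h))] at this
    exact hsT.2 this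
  exact ⟨hsv ▸ hsT, hsv ▸ hsV⟩

/-- An element of `O_x(M)` and one of `O_s(P)` commute when each is in the other colour. -/
theorem cent_Ox_of {U M P : Subgroup G} {x s : ℕ} (hx : x.Prime) (hs : s.Prime) (hne : x ≠ s)
    (hU : U ≤ Ox x M) (hUP : U ≤ P) (hle : Ox s P ≤ M) : U ≤ Subgroup.centralizer (Ox s P : Set G) :=
  fun y hy => Subgroup.mem_centralizer_iff.2 fun o ho =>
    (comm_one (inf_bot_of_ne hx hs hne (isPGroup_Ox x M) (isPGroup_Ox s P)) (hU hy) ho
      (self_le_normalizer_Ox x M (hle ho)) (self_le_normalizer_Ox s P (hUP hy))).symm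

/-- Nothing but `M` receives `F(M)`. -/
def Term (c : Ctx G p) (M : Subgroup G) : Prop :=
  c.Colour M ∧ Mixed M ∧ ∀ P, c.Colour P → FLe M P → P = M

theorem grC (hc : Crit c) {M X U : Subgroup G} (hM : c.Term M) (hX : c.Inv X) (hne : X ≠ ⊥)
    (hcent : ∀ q : ℕ, q.Prime → X ≤ Subgroup.centralizer (Ox q M : Set G)) (hU : c.fam U)
    (hUX : U ≤ Subgroup.normalizer (X : Set G)) : U ≤ M := by
  obtain ⟨P, hP, hgr⟩ := c.exists_colour_norm hc hX hne
  have hle : FLe M P := fun q hq => hgr _ (hM.1.inv_Ox q).1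
    ((Subgroup.le_centralizer_iff.1 (hcent q hq)).trans (Subgroup.centralizer_le_normalizer _))
  exact hM.2.2 P hP hle ▸ hgr U hU hUX

theorem term_Zc_le (hc : Crit c) {M P : Subgroup G} (hM : c.Colour M) (hP : c.Colour P) {x u : ℕ}
    (hx : x ∈ pi M) (hu : u ∈ pi M) (hne : x ≠ u) (hxP : Zc x M ≤ P) (huP : Zc u M ≤ P) :
    Ox x P ≤ M := by
  haveI := Fact.mk hx.1
  haveI := Fact.mk hu.1
  have hR : Ox x P ⊓ Subgroup.centralizer (Zc x M : Set G) ≤ M :=
    hM.le_of_norm_Zc hc hx (c.fam_le hP.1 (inf_le_left.trans (Ox_le x P))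
      (c.stab_inf (hP.stab_Ox x) (c.stab_centralizer (hM.stab_Zc x))).1)
      (inf_le_right.trans (Subgroup.centralizer_le_normalizer _))
  have hcent : Zc u M ≤ Subgroup.centralizer (Ox x P : Set G) := fun t ht => by
    refine mem_centralizer_of_AB (T := Zc x M) (isPGroup_Ox x P) (isPGroup_Zc x M)
      (hxP.trans (self_le_normalizer_Ox x P)) (self_le_normalizer_Ox x P (huP ht))
      (fun v hv => (Subgroup.mem_centralizer_iff.1 (Zc_cent_Ox hu.1 hx.1 ht) v (Zc_le_Ox x M hv)).symm) ?_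
      fun r hr hrT => ?_
    · obtain ⟨k, hk⟩ := IsPGroup.iff_card.1 (isPGroup_Ox u M)
      refine (Nat.Coprime.pow_left k ((Nat.coprime_primes hu.1 hx.1).2 hne.symm)).coprime_dvd_left ?_
      rw [← hk, ← Subgroup.orderOf_mk t (Zc_le_Ox u M ht)]
      exact orderOf_dvd_natCard _
    · have hrM : r ∈ M := hR (Subgroup.mem_inf.2 ⟨hr, Subgroup.mem_centralizer_iff.2 fun v hv =>
        (hrT v hv).symm⟩)
      exact (comm_one (inf_bot_of_ne hx.1 hu.1 hne (isPGroup_Ox x P) (isPGroup_Ox u M)) hr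
        (Zc_le_Ox u M ht) (self_le_normalizer_Ox x P (huP ht)) (self_le_normalizer_Ox u M hrM)).symm
  exact hM.le_of_norm_Zc hc hu (hP.inv_Ox x).1
    ((Subgroup.le_centralizer_iff.1 hcent).trans (Subgroup.centralizer_le_normalizer _))

/-- At least three primes. -/
def Three (c : Ctx G p) : Prop := ∀ a b : ℕ, ∃ r ∈ c.primes, r ≠ a ∧ r ≠ b

theorem three_R_mixed_of_full (hs : Setup c) (h3 : c.Three) {N T : Subgroup G} {t : ℕ}
    (hN : c.Colour N) (hfull : ∀ r ∈ c.primes, r ∈ pi N) (hT : c.IsR t T) : Mixed T := by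
  refine (hT.2.1.mixed_or_single hs.crit).resolve_right ?_
  rintro ⟨q, hq⟩
  obtain ⟨w, hw, hwq, hwt⟩ := h3 q t
  have h := c.pq hs hT.2.1 hq hN (hfull q (hT.2.1.mem_primes (prime_of_pi_eq hq))) (hfull w hw) hwq
  rw [inf_eq_left.2 ((hN.Ox_le_W w).trans (hT.2.2 w hw hwt))] at h
  exact (hfull w hw).2 h

theorem term_of_full (hs : Setup c) (h3 : c.Three) {N : Subgroup G} (hN : c.Colour N)
    (hfull : ∀ r ∈ c.primes, r ∈ pi N) : c.Term N := by
  have hmix : Mixed N := by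
    obtain ⟨a, ha, -, -⟩ := h3 0 0
    obtain ⟨b, hb, hba, -⟩ := h3 a a
    exact ⟨a, hfull a ha, b, hfull b hb, hba.symm⟩
  refine ⟨hN, hmix, fun P hP hle => by_contra fun hne => ?_⟩
  rcases hP.mixed_or_single hs.crit with hPm | ⟨q, hq⟩
  · obtain ⟨s, hsP, hsN⟩ := arrow₁ hs.crit hN hP hmix hle hne
    exact hsN (hfull s (hP.mem_primes hsP))
  · obtain ⟨u, hu, huq⟩ := exists_pi_ne hmix q
    have h := c.pq hs hP hq hN (hfull q (hP.mem_primes (prime_of_pi_eq hq))) hu huq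
    rw [inf_eq_left.2 (hle u hu.1)] at h
    exact hu.2 h

theorem three_no_full (hs : Setup c) (h3 : c.Three) {N : Subgroup G} (hN : c.Colour N) :
    ∃ r ∈ c.primes, r ∉ pi N := by
  by_contra hno
  push Not at hno
  have hT := term_of_full hs h3 hN hno
  have hOx : ∀ {t : ℕ} {T : Subgroup G}, c.IsR t T → ∀ x ∈ c.primes, x ≠ t → Ox x T ≤ N := by
    intro t T hR x hx hxt
    obtain ⟨u, hu, hux, hut⟩ := h3 x t
    exact term_Zc_le hs.crit hN hR.2.1 (hno x hx) (hno u hu) hux.symm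
      (((Zc_le_Ox x N).trans (hN.Ox_le_W x)).trans (hR.2.2 x hx hxt))
      (((Zc_le_Ox u N).trans (hN.Ox_le_W u)).trans (hR.2.2 u hu hut))
  -- no other colour of the family has all primes
  have hnf : ∀ {t : ℕ} {T : Subgroup G}, c.IsR t T → T ≠ N → t ∉ pi T := by
    intro t T hR hTN htT
    have hmixT := three_R_mixed_of_full hs h3 hN hno hR
    have hfullT : ∀ r ∈ c.primes, r ∈ pi T := fun r hr => by
      by_contra hrT
      obtain ⟨V, hV⟩ := c.exists_R hs.crit hr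
      exact (nf hs hV hR (fun h => hrT (h ▸ htT)) hmixT hrT).2 htT
    have hTT := term_of_full hs h3 hR.2.1 hfullT
    obtain ⟨v, V, hV, hVN, hvt⟩ : ∃ v V, c.IsR v V ∧ V ≠ N ∧ v ≠ t := by
      obtain ⟨a, ha, hat, -⟩ := h3 t t
      obtain ⟨b, hb, hbt, hba⟩ := h3 t a
      obtain ⟨A', hA'⟩ := c.exists_R hs.crit ha
      obtain ⟨B', hB'⟩ := c.exists_R hs.crit hb
      by_cases h : A' = N
      · exact ⟨b, B', hB', h ▸ R_ne hs hB' hA' hba, hbt⟩
      · exact ⟨a, A', hA', h, hat⟩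
    obtain ⟨x, hx, hxt, hxv⟩ := h3 t v
    have hxpi := hfullT x hx
    obtain ⟨y, hy⟩ : ∃ y, y = c.Yc x T := ⟨_, rfl⟩
    have hyI : c.Inv y := hy ▸ hR.2.1.inv_Yc hs.crit hx.1
    have hyne : y ≠ ⊥ := hy ▸ hR.2.1.Yc_ne_bot hs.crit hxpi
      ((hR.2.2 x hx hxt).trans (self_le_normalizer_Ox x T))
    have hyT : y ≤ Ox x T := hy ▸ inf_le_right
    have hyz : y ≤ c.z x := hy ▸ inf_le_left
    have hyW : y ≤ c.W x := hyz.trans inf_le_left
    have hOt : Ox t V ≤ T := term_Zc_le hs.crit hR.2.1 hV.2.1 htT hxpi hxt.symm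
      (((Zc_le_Ox t T).trans (hR.2.1.Ox_le_W t)).trans (hV.2.2 t hR.1 hvt.symm))
      (((Zc_le_Ox x T).trans (hR.2.1.Ox_le_W x)).trans (hV.2.2 x hx hxv))
    have hyV : y ≤ Ox x V := by
      refine hV.2.1.le_Ox_of_comm hx.1 (hyW.trans (hV.2.2 x hx hxv)) ((isPGroup_Ox x T).to_le hyT) fun s hs' => ?_
      rcases eq_or_ne s x with rfl | hsx
      · exact hyz.trans (c.z_cent (hV.2.1.Ox_le_W s))
      refine cent_Ox_of hx.1 hs'.1 hsx.symm hyT (hyW.trans (hV.2.2 x hx hxv)) ?_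
      rcases eq_or_ne s t with rfl | hst
      exacts [hOt, (hV.2.1.Ox_le_W s).trans (hR.2.2 s (hV.2.1.mem_primes hs') hst)]
    have hyN : y ≤ N := hyT.trans (hOx hR x hx hxt)
    have hcN : ∀ s : ℕ, s.Prime → y ≤ Subgroup.centralizer (Ox s N : Set G) := fun s hs' => by
      rcases eq_or_ne s x with rfl | hsx
      · exact hyz.trans (c.z_cent (hN.Ox_le_W s))
      by_cases hsN : s ∈ pi N
      swap
      · rw [Ox_eq_bot hs' hsN]
        exact fun g _ => Subgroup.mem_centralizer_iff.2 fun r hr => by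
          rw [Subgroup.mem_bot.1 hr, one_mul, mul_one]
      rcases eq_or_ne s t with rfl | hst
      · refine cent_Ox_of hx.1 hs' hsx.symm hyV hyN ?_
        exact (hN.Ox_le_W s).trans (hV.2.2 s hR.1 hvt.symm)
      · exact cent_Ox_of hx.1 hs' hsx.symm hyT hyN
          ((hN.Ox_le_W s).trans (hR.2.2 s (hN.mem_primes hsN) hst))
    have hcT : ∀ s : ℕ, s.Prime → y ≤ Subgroup.centralizer (Ox s T : Set G) := fun s hs' => by
      rcases eq_or_ne s x with rfl | hsx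
      · exact hyz.trans (c.z_cent (hR.2.1.Ox_le_W s))
      · exact hyT.trans (Ox_cent_Ox hx.1 hs' hsx.symm)
    refine hTN (hTT.2.2 N hN fun s hs' => ?_).symm
    exact grC hs.crit hT hyI hyne hcN (hR.2.1.inv_Ox s).1
      ((Subgroup.le_centralizer_iff.1 (hcT s hs')).trans (Subgroup.centralizer_le_normalizer _))
  -- the others are mixed and received by `N`
  refine false_of_allW hs hN fun w hw => ?_
  by_cases hex : ∃ t, c.IsR t N ∧ w ≠ t
  · obtain ⟨t, ht, hwt⟩ := hex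
    exact ht.2.2 w hw hwt
  push Not at hex
  have hG : ∀ {t : ℕ} {T : Subgroup G}, c.IsR t T → t ≠ w → Ox w N ≤ Ox w T := by
    intro t T hR htw
    have hTN : T ≠ N := fun h => htw (hex t (h ▸ hR)).symm
    have htT := hnf hR hTN
    have hle : ∀ s ∈ pi T, Ox s T ≤ N := fun s hs' =>
      hOx hR s (hR.2.1.mem_primes hs') fun h => htT (h ▸ hs')
    have hGT : Ox w N ≤ T := (hN.Ox_le_W w).trans (hR.2.2 w hw htw.symm)
    obtain ⟨u, hu, huw⟩ := exists_pi_ne (three_R_mixed_of_full hs h3 hN hno hR) w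
    have hut : u ≠ t := fun h => htT (h ▸ hu)
    have hup := hR.2.1.mem_primes hu
    have hNu : Ox u N ≤ T := (hN.Ox_le_W u).trans (hR.2.2 u hup hut)
    haveI := Fact.mk hu.1
    -- a part of the centre of `O_u(N)` in `O_u(T)`
    have hI : Ox u N ⊓ Ox u T ≠ ⊥ := fun hbot => by
      refine (hno u hup).2 (le_bot_iff.1 (hbot ▸ le_inf le_rfl ?_))
      refine hR.2.1.le_Ox_of_comm hu.1 hNu (isPGroup_Ox u N) fun s hs' => ?_
      rcases eq_or_ne s u with rfl | hsu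
      · exact comm_of_inf hbot (hNu.trans (self_le_normalizer_Ox s T))
          ((hle s hs').trans (self_le_normalizer_Ox s N))
      · exact cent_Ox_of hu.1 hs'.1 hsu.symm le_rfl hNu (hle s hs')
    have hJ : Zc u N ⊓ Ox u T ≠ ⊥ := fun hbot => by
      refine meet_center (isPGroup_Ox u N) inf_le_left (fun g hg => mem_normalizer_of_cj_le (by
        rw [cj_inf, cj_eq_self_of_mem hg, cj_eq_self (self_le_normalizer_Ox u T (hNu hg))])) hI
        (le_bot_iff.1 (le_trans ?_ hbot.le))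
      exact le_inf (le_inf (inf_le_left.trans inf_le_left) inf_le_right) (inf_le_left.trans inf_le_right)
    obtain ⟨K, hK⟩ : ∃ K, K = T ⊓ ⨅ s : {s // s ∈ pi T ∧ s ≠ w}, Subgroup.centralizer (Ox (s : ℕ) T : Set G) :=
      ⟨_, rfl⟩
    have hKn : Subgroup.normalizer (T : Set G) ≤ Subgroup.normalizer (K : Set G) := fun g hg =>
      mem_normalizer_of_cj_le (by
        rw [hK, cj_inf, cj_eq_self hg]
        refine inf_le_inf_left _ (le_iInf fun s => (cj_mono (iInf_le _ s) g).trans ?_)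
        rw [cj_eq_self (normalizer_le_normalizer_centralizer _ (normalizer_le_normalizer_Ox (s : ℕ) T hg))])
    have hKT : K ≤ T := hK ▸ inf_le_left
    have hKN : K ≤ N := by
      refine grC hs.crit hT (c.inv_of_le hN.1 (inf_le_left.trans ((Zc_le_Ox u N).trans (Ox_le u N)))
        (c.stab_inf (hN.stab_Zc u) (hR.2.1.stab_Ox u))) hJ
        (fun q hq => inf_le_left.trans (Zc_cent_Ox hu.1 hq))
        (c.fam_le hR.2.1.1 hKT ((c.nrmA hR.2.1.1).trans hKn)) ?_
      refine le_trans ?_ (Subgroup.centralizer_le_normalizer _)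
      refine le_trans ?_ (Subgroup.centralizer_le (show Zc u N ⊓ Ox u T ≤ Ox u T from inf_le_right))
      rw [hK]
      exact inf_le_right.trans (iInf_le _ (⟨u, hu, huw⟩ : {s // s ∈ pi T ∧ s ≠ w}))
    refine subnormal_le_Ox ?_ (hKN.trans (self_le_normalizer_Ox w N)) hKT (Subgroup.le_normalizer.trans hKn)
      (isPGroup_Ox w N)
    rw [hK]
    exact le_inf hGT (le_iInf fun s => cent_Ox_of hw.1 s.2.1.1 s.2.2.symm le_rfl hGT (hle _ s.2.1))
  haveI := Fact.mk hw.1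
  obtain ⟨t, ht, htw, -⟩ := h3 w w
  obtain ⟨v, hv, hvw, hvt⟩ := h3 w t
  obtain ⟨T, hR⟩ := c.exists_R hs.crit ht
  obtain ⟨V, hV⟩ := c.exists_R hs.crit hv
  obtain ⟨I, hI⟩ : ∃ I, I = Ox w T ⊓ Ox w V := ⟨_, rfl⟩
  have hIne : I ≠ ⊥ := fun h => (hno w hw).2 (le_bot_iff.1 (h ▸ hI ▸ le_inf (hG hR htw) (hG hV hvw)))
  have hIn : c.W w ≤ Subgroup.normalizer (I : Set G) := fun g hg => mem_normalizer_of_cj_le (by
    rw [hI, cj_inf, cj_eq_self (self_le_normalizer_Ox w T (hR.2.2 w hw htw.symm hg)),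
      cj_eq_self (self_le_normalizer_Ox w V (hV.2.2 w hw hvw.symm hg))])
  have hIW : I ≤ c.W w := hI ▸ inf_le_left.trans (hR.2.1.Ox_le_W w)
  obtain ⟨y, hy⟩ : ∃ y, y = I ⊓ c.z w := ⟨_, rfl⟩
  have hyne : y ≠ ⊥ := fun h => meet_center (c.W_spec hs.crit hw.1).2 hIW hIn hIne (le_bot_iff.1
    (le_trans (le_inf inf_le_left (le_inf (inf_le_left.trans hIW) inf_le_right)) (hy ▸ h).le))
  have hyI : c.Inv y := c.inv_of_le (c.W_spec hs.crit hw.1).1.1 (hy ▸ inf_le_left.trans hIW)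
    (hy ▸ hI ▸ c.stab_inf (c.stab_inf (hR.2.1.stab_Ox w) (hV.2.1.stab_Ox w)) (c.stab_z hs.crit hw.1))
  have hyT : y ≤ Ox w T := hy ▸ hI ▸ inf_le_left.trans inf_le_left
  have hyV : y ≤ Ox w V := hy ▸ hI ▸ inf_le_left.trans inf_le_right
  have hyN : y ≤ N := hyT.trans (hOx hR w hw htw.symm)
  refine grC hs.crit hT hyI hyne (fun q hq => ?_) (c.W_spec hs.crit hw.1).1.1
    ((Subgroup.le_centralizer_iff.1 (hy ▸ inf_le_right.trans inf_le_right)).trans
      (Subgroup.centralizer_le_normalizer _))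
  rcases eq_or_ne q w with rfl | hqw
  · exact (hy ▸ inf_le_right).trans (c.z_cent (hN.Ox_le_W q))
  by_cases hqN : q ∈ pi N
  swap
  · rw [Ox_eq_bot hq hqN]
    exact fun g _ => Subgroup.mem_centralizer_iff.2 fun r hr => by
      rw [Subgroup.mem_bot.1 hr, one_mul, mul_one]
  rcases eq_or_ne q t with rfl | hqt
  · exact cent_Ox_of hw.1 hq hqw.symm hyV hyN ((hN.Ox_le_W q).trans (hV.2.2 q ht hvt.symm))
  · exact cent_Ox_of hw.1 hq hqw.symm hyT hyN ((hN.Ox_le_W q).trans (hR.2.2 q (hN.mem_primes hqN) hqt))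

theorem three_R (hs : Setup c) (h3 : c.Three) {t : ℕ} {T : Subgroup G} (hT : c.IsR t T) : t ∉ pi T := by
  intro ht
  rcases mixed_or_eq ht with hm | hq
  · obtain ⟨r, hr, hrT⟩ := three_no_full hs h3 hT.2.1
    obtain ⟨V, hV⟩ := c.exists_R hs.crit hr
    exact (nf hs hV hT (fun h => hrT (h ▸ ht)) hm hrT).2 ht
  · exact R_single_ne hs hT hq rfl

end Ctx

end Cfsg.Agent.SSF
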