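import Cfsg.Agent.Lib.Solv.Generation
import Cfsg.Agent.Lib.Solv.ThompsonFPF
import Cfsg.Agent.Lib.Solv.Engel
import Cfsg.Agent.Lib.Solv.DirectFactor
import Cfsg.Agent.Lib.Fusion.SolvableBalance
import Cfsg.Agent.Lib.Fusion.PGroupAux

/-!
Tools for the solvable signalizer functor theorem: commuting subgroups, fixed-point-free
actions, splitting an action along a centralised module, three proper subgroups.
-/

set_option autoImplicit false
set_option linter.style.haveILetI false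

open Cfsg Cfsg.Agent Cfsg.Agent.Fusion
open scoped commutatorElement Pointwise

namespace Cfsg.Agent.SSF

variable {G : Type*} [Group G]

theorem nrm {g x : G} {H : Subgroup G} (hg : g ∈ Subgroup.normalizer (H : Set G)) (hx : x ∈ H) :
    g * x * g⁻¹ ∈ H := (Subgroup.mem_normalizer_iff.1 hg x).1 hx

theorem comm_mem_right {g x : G} {H : Subgroup G} (hg : g ∈ Subgroup.normalizer (H : Set G)) (hx : x ∈ H) :
    ⁅g, x⁆ ∈ H := by
  rw [commutatorElement_def]; exact mul_mem (nrm hg hx) (inv_mem hx)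

theorem comm_mem_left {g x : G} {H : Subgroup G} (hg : g ∈ Subgroup.normalizer (H : Set G)) (hx : x ∈ H) :
    ⁅x, g⁆ ∈ H := by
  rw [← commutatorElement_inv]; exact inv_mem (comm_mem_right hg hx)

/-- Two elements, each in a subgroup normalised by the other, commute if the subgroups meet trivially. -/
theorem comm_one {U V : Subgroup G} (h : U ⊓ V = ⊥) {x y : G} (hx : x ∈ U)
    (hy : y ∈ V) (hyU : y ∈ Subgroup.normalizer (U : Set G))
    (hxV : x ∈ Subgroup.normalizer (V : Set G)) : x * y = y * x := by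
  refine commutatorElement_eq_one_iff_mul_comm.1 (Subgroup.mem_bot.1 ?_)
  rw [← h]
  exact Subgroup.mem_inf.2 ⟨comm_mem_left hyU hx, comm_mem_right hxV hy⟩

theorem comm_of_inf {U V : Subgroup G} (h : U ⊓ V = ⊥) (hUV : U ≤ Subgroup.normalizer (V : Set G))
    (hVU : V ≤ Subgroup.normalizer (U : Set G)) : U ≤ Subgroup.centralizer (V : Set G) :=
  fun x hx => Subgroup.mem_centralizer_iff.2 fun y hy =>
    (comm_one h hx hy (hVU hy) (hUV hx)).symm

theorem inf_bot_of_ne [Finite G] {x u : ℕ} (hx : x.Prime) (hu : u.Prime) (hne : x ≠ u)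
    {U V : Subgroup G} (hU : IsPGroup x U) (hV : IsPGroup u V) : U ⊓ V = ⊥ :=
  haveI := Fact.mk hx
  haveI := Fact.mk hu
  disjoint_iff.1 (IsPGroup.disjoint_of_ne x u hne U V hU hV)

theorem card_coprime_of_ne [Finite G] {x u : ℕ} (hx : x.Prime) (hu : u.Prime) (hne : x ≠ u)
    {U V : Subgroup G} (hU : IsPGroup x U) (hV : IsPGroup u V) :
    (Nat.card U).Coprime (Nat.card V) := by
  haveI := Fact.mk hx; haveI := Fact.mk hu
  obtain ⟨i, hi⟩ := IsPGroup.iff_card.1 hU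
  obtain ⟨j, hj⟩ := IsPGroup.iff_card.1 hV
  rw [hi, hj]
  exact ((Nat.coprime_primes hx hu).2 hne).pow i j

/-- Commutators of an abelian group with an element of prime period have no fixed points. -/
theorem fixed_commutator [Finite G] {X : Subgroup G} (hX : IsMulCommutative X) {e : G} {p : ℕ}
    (hep : e ^ p = 1) (heX : e ∈ Subgroup.normalizer (X : Set G))
    (hco : (Nat.card X).Coprime p) :
    ⁅X, Subgroup.zpowers e⁆ ⊓ Subgroup.centralizer {e} = ⊥ := by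
  have hc : ∀ a ∈ X, ∀ b ∈ X, a * b = b * a := fun a ha b hb =>
    congrArg Subtype.val (hX.1.1 ⟨a, ha⟩ ⟨b, hb⟩)
  let f : X →* G :=
    MonoidHom.mk' (fun x : X => (x : G) * (e * (x : G)⁻¹ * e⁻¹)) fun x y => by
      have h1 : (e * (x : G)⁻¹ * e⁻¹) * (y : G) = (y : G) * (e * (x : G)⁻¹ * e⁻¹) :=
        hc _ (nrm heX (inv_mem x.2)) _ y.2
      have h2 : (e * (x : G)⁻¹ * e⁻¹) * (e * (y : G)⁻¹ * e⁻¹) = e * ((x * y : X) : G)⁻¹ * e⁻¹ := by
        rw [show (e * (x : G)⁻¹ * e⁻¹) * (e * (y : G)⁻¹ * e⁻¹) = e * ((x : G)⁻¹ * (y : G)⁻¹) * e⁻¹ by group,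
          hc _ (inv_mem x.2) _ (inv_mem y.2), Subgroup.coe_mul, mul_inv_rev]
      show ((x * y : X) : G) * (e * ((x * y : X) : G)⁻¹ * e⁻¹) =
        (x : G) * (e * (x : G)⁻¹ * e⁻¹) * ((y : G) * (e * (y : G)⁻¹ * e⁻¹))
      rw [← h2, Subgroup.coe_mul]
      calc (x : G) * y * (e * (x : G)⁻¹ * e⁻¹ * (e * (y : G)⁻¹ * e⁻¹))
          = (x : G) * ((y : G) * (e * (x : G)⁻¹ * e⁻¹)) * (e * (y : G)⁻¹ * e⁻¹) := by group
        _ = _ := by rw [← h1]; group
  have hf : ∀ x : X, f x = (x : G) * (e * (x : G)⁻¹ * e⁻¹) := fun x => rfl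
  have hle : ⁅X, Subgroup.zpowers e⁆ ≤ f.range := by
    refine Subgroup.commutator_le.2 fun x hx t ht => ?_
    obtain ⟨i, rfl⟩ : ∃ i : ℕ, e ^ i = t := Submonoid.mem_powers_iff _ _ |>.1
      (mem_powers_iff_mem_zpowers.2 ht)
    induction i with
    | zero => simp
    | succ i ih =>
      have hn : e ^ i ∈ Subgroup.normalizer (X : Set G) := pow_mem heX i
      have hce : e ^ i * e = e * e ^ i := (Commute.pow_self e i).eq
      have h1 : f ⟨e ^ i * x * (e ^ i)⁻¹, nrm hn hx⟩ = e ^ i * ⁅x, e⁆ * (e ^ i)⁻¹ := by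
        rw [hf, commutatorElement_def]
        show e ^ i * x * (e ^ i)⁻¹ * (e * (e ^ i * x * (e ^ i)⁻¹)⁻¹ * e⁻¹) = _
        calc e ^ i * x * (e ^ i)⁻¹ * (e * (e ^ i * x * (e ^ i)⁻¹)⁻¹ * e⁻¹)
            = e ^ i * x * (e ^ i)⁻¹ * ((e * e ^ i) * x⁻¹ * (e * e ^ i)⁻¹) := by group
          _ = _ := by rw [← hce]; group
      have h2 : ⁅x, e ^ (i + 1)⁆ = ⁅x, e ^ i⁆ * (e ^ i * ⁅x, e⁆ * (e ^ i)⁻¹) := by
        rw [pow_succ, commutatorElement_def, commutatorElement_def, commutatorElement_def]; group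
      rw [h2]
      exact mul_mem (ih (Subgroup.mem_zpowers_iff.2 ⟨i, zpow_natCast e i⟩)) ⟨_, h1⟩
  refine (Subgroup.eq_bot_iff_forall _).2 fun v hv => ?_
  obtain ⟨hv1, hv2⟩ := Subgroup.mem_inf.1 hv
  obtain ⟨⟨x, hx⟩, hfx⟩ := hle hv1
  rw [hf] at hfx
  have hvX : v ∈ X := hfx ▸ mul_mem hx (nrm heX (inv_mem hx))
  have hve : Commute e v := (Subgroup.mem_centralizer_singleton_iff.1 hv2).symm
  have h1 : e * x * e⁻¹ = v⁻¹ * x := by rw [← hfx]; group
  have key : ∀ k : ℕ, e ^ k * x * (e ^ k)⁻¹ = v⁻¹ ^ k * x := by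
    intro k
    induction k with
    | zero => simp
    | succ k ih =>
      calc e ^ (k + 1) * x * (e ^ (k + 1))⁻¹ = e * (e ^ k * x * (e ^ k)⁻¹) * e⁻¹ := by
            rw [pow_succ']; group
        _ = (e * v⁻¹ ^ k) * x * e⁻¹ := by rw [ih]; group
        _ = v⁻¹ ^ k * (e * x * e⁻¹) := by rw [(hve.inv_right.pow_right k).eq]; group
        _ = _ := by rw [h1, pow_succ, mul_assoc]
  have h3 := key p
  rw [hep, one_mul, inv_one, mul_one] at h3
  have h4 : v⁻¹ ^ p = 1 := mul_eq_right.1 h3.symm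
  rw [← inv_eq_one, ← orderOf_eq_one_iff]
  exact Nat.eq_one_of_dvd_coprimes hco.symm (orderOf_dvd_of_pow_eq_one h4)
    (by rw [← Subgroup.orderOf_mk _ (inv_mem hvX)]; exact orderOf_dvd_natCard _)

/-- A fixed-point-free element forces the commutator of an abelian group to act trivially. -/
theorem fpf [Finite G] (V X : Subgroup G) (hX : IsMulCommutative X) {e : G} {p : ℕ} (hp : p.Prime)
    (hep : e ^ p = 1) (heV : e ∈ Subgroup.normalizer (V : Set G))
    (heX : e ∈ Subgroup.normalizer (X : Set G)) (hXV : X ≤ Subgroup.normalizer (V : Set G))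
    (hfix : V ⊓ Subgroup.centralizer {e} = ⊥) (hcp : (Nat.card X).Coprime p)
    (hco : (Nat.card X).Coprime (Nat.card V)) :
    ⁅X, Subgroup.zpowers e⁆ ≤ Subgroup.centralizer (V : Set G) := by
  haveI := Fact.mk hp
  obtain ⟨S, hS⟩ : ∃ S, S = ⁅X, Subgroup.zpowers e⁆ := ⟨_, rfl⟩
  rw [← hS]
  have hzX : Subgroup.zpowers e ≤ Subgroup.normalizer (X : Set G) := Subgroup.zpowers_le.2 heX
  have hSX : S ≤ X := hS ▸ Subgroup.commutator_le.2 fun x hx t ht => comm_mem_left (hzX ht) hx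
  have heS : e ∈ Subgroup.normalizer (S : Set G) := mem_normalizer_of_cj_le (by
    rw [hS, cj_commutator, cj_eq_self heX, cj_eq_self_of_mem (Subgroup.mem_zpowers e)])
  have hSV : S ≤ Subgroup.normalizer (V : Set G) := hSX.trans hXV
  have hSfix : S ⊓ Subgroup.centralizer {e} = ⊥ := hS ▸ fixed_commutator hX hep heX hcp
  have hcoS : (Nat.card V).Coprime (Nat.card S) :=
    (hco.coprime_dvd_left (Subgroup.card_dvd_of_le hSX)).symm
  have hVS : V ⊓ S = ⊥ := Subgroup.inf_eq_bot_of_coprime hcoS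
  obtain ⟨K, hK⟩ : ∃ K, K = V ⊔ S := ⟨_, rfl⟩
  have heK : e ∈ Subgroup.normalizer (K : Set G) := mem_normalizer_of_cj_le (by
    rw [hK, cj_sup, cj_eq_self heV, cj_eq_self heS])
  have hKfix : K ⊓ Subgroup.centralizer {e} = ⊥ := by
    refine (Subgroup.eq_bot_iff_forall _).2 fun k hk => ?_
    obtain ⟨hk1, hk2⟩ := Subgroup.mem_inf.1 hk
    have hset : (K : Set G) = (V : Set G) * (S : Set G) :=
      hK ▸ Subgroup.coe_mul_of_right_le_normalizer_left V S hSV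
    obtain ⟨v, hv, s, hs, (rfl : v * s = k)⟩ := (Set.ext_iff.1 hset k).1 hk1
    have hc : e * (v * s) * e⁻¹ = v * s := by
      rw [← Subgroup.mem_centralizer_singleton_iff.1 hk2, mul_inv_cancel_right]
    have h1 : v⁻¹ * (e * v * e⁻¹) = s * (e * s * e⁻¹)⁻¹ := by
      calc v⁻¹ * (e * v * e⁻¹) = v⁻¹ * (e * (v * s) * e⁻¹) * (e * s * e⁻¹)⁻¹ := by group
        _ = _ := by rw [hc]; group
    have h2 : v⁻¹ * (e * v * e⁻¹) = 1 := Subgroup.mem_bot.1 (hVS ▸ Subgroup.mem_inf.2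
      ⟨mul_mem (inv_mem hv) (nrm heV hv), h1 ▸ mul_mem hs (inv_mem (nrm heS hs))⟩)
    have hv1 : v = 1 := Subgroup.mem_bot.1 (hfix ▸ Subgroup.mem_inf.2 ⟨hv,
      Subgroup.mem_centralizer_singleton_iff.2 (mul_inv_eq_iff_eq_mul.1 (inv_mul_eq_one.1 h2).symm).symm⟩)
    have hs1 : s = 1 := Subgroup.mem_bot.1 (hSfix ▸ Subgroup.mem_inf.2 ⟨hs, by
      have : v * s ∈ Subgroup.centralizer ({e} : Set G) := hk2
      rwa [hv1, one_mul] at this⟩)
    rw [hv1, hs1, one_mul]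
  haveI := Solv.fpf_nilpotent K e hp hep heK hKfix
  intro s hs
  refine Subgroup.mem_centralizer_iff.2 fun v hv => ?_
  have hvK : v ∈ K := hK ▸ Subgroup.mem_sup_left hv
  have hsK : s ∈ K := hK ▸ Subgroup.mem_sup_right hs
  have hco2 : (orderOf (⟨v, hvK⟩ : K)).Coprime (orderOf (⟨s, hsK⟩ : K)) := by
    rw [Subgroup.orderOf_mk, Subgroup.orderOf_mk]
    refine (hcoS.coprime_dvd_left ?_).coprime_dvd_right ?_
    · rw [← Subgroup.orderOf_mk v hv]; exact orderOf_dvd_natCard _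
    · rw [← Subgroup.orderOf_mk s hs]; exact orderOf_dvd_natCard _
  exact congrArg Subtype.val (commute_of_coprime_orders hco2).eq
where
  commute_of_coprime_orders {K : Type _} [Group K] [Finite K] [Group.IsNilpotent K] {a b : K}
      (h : (orderOf a).Coprime (orderOf b)) : Commute a b := by
    obtain ⟨S, hS⟩ : ∃ S, S = Subgroup.centralizer ({b} : Set K) := ⟨_, rfl⟩
    suffices a ∈ S from Subgroup.mem_centralizer_singleton_iff.1 (hS ▸ this)
    refine mem_of_prime_parts (fun q hq u hu => ?_)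
    haveI := Fact.mk hq
    obtain ⟨hua, k, hk⟩ := hu
    refine hS ▸ Subgroup.mem_centralizer_singleton_iff.2 ?_
    rcases Nat.eq_zero_or_pos k with rfl | hk0
    · rw [pow_zero, orderOf_eq_one_iff] at hk; rw [hk, one_mul, mul_one]
    refine Solv.commute_of_coprime_nilpotent hk (h.symm.coprime_dvd_right ?_)
    refine dvd_trans ?_ (orderOf_dvd_of_mem_zpowers hua)
    rw [hk]; exact dvd_pow_self q hk0.ne'
  mem_of_prime_parts {K : Type _} [Group K] [Finite K] {a : K} {S : Subgroup K}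
      (h : ∀ q : ℕ, q.Prime → ∀ u, (u ∈ Subgroup.zpowers a ∧ ∃ k, orderOf u = q ^ k) → u ∈ S) :
      a ∈ S := by
    have : Subgroup.zpowers a ≤ S := by
      refine Solv.le_of_forall_isPGroup (fun q hq Q hQ hQq u hu => ?_)
      haveI := Fact.mk hq
      obtain ⟨k, hk⟩ := IsPGroup.iff_orderOf.1 hQq ⟨u, hu⟩
      rw [Subgroup.orderOf_mk] at hk
      exact h q hq u ⟨hQ hu, k, hk⟩
    exact this (Subgroup.mem_zpowers a)

/-- An element centralising a module splits any group it normalises along that module. -/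
theorem split_action [Finite G] (T V : Subgroup G) {c : G} (hcT : c ∈ Subgroup.normalizer (T : Set G))
    (hcV : c ∈ Subgroup.centralizer (V : Set G)) (hTV : T ≤ Subgroup.normalizer (V : Set G))
    (hco : (orderOf c).Coprime (Nat.card T)) {t : G} (ht : t ∈ T) :
    ∃ u ∈ T ⊓ Subgroup.centralizer {c}, ∃ v ∈ T ⊓ Subgroup.centralizer (V : Set G), t = u * v := by
  obtain ⟨D, hD⟩ : ∃ D, D = T ⊓ Subgroup.centralizer (V : Set G) := ⟨_, rfl⟩
  rw [← hD]
  have hZT : Subgroup.zpowers c ≤ Subgroup.normalizer (T : Set G) := Subgroup.zpowers_le.2 hcT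
  have hZV : Subgroup.zpowers c ≤ Subgroup.centralizer (V : Set G) := Subgroup.zpowers_le.2 hcV
  obtain ⟨u, hu, hut⟩ := Solv.exists_fixed_in_coset' (Subgroup.zpowers c) T D hZT
    (by rwa [Nat.card_zpowers])
    (Or.inl (Group.isSolvable_of_comm fun a b => mul_comm_of_zpowers a b)) (hD ▸ inf_le_left)
    (fun z hz => mem_normalizer_of_cj_le (by
      rw [hD, cj_inf, cj_eq_self (hZT hz), cj_centralizer, cj_eq_self
        (Subgroup.centralizer_le_normalizer _ (hZV hz))]))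
    ht (fun z hz => by
      rw [hD]
      refine Subgroup.mem_inf.2 ⟨mul_mem (inv_mem ht) (nrm (hZT hz) ht), ?_⟩
      refine Subgroup.mem_centralizer_iff.2 fun v hv => ?_
      have h1 : Commute v z := Subgroup.mem_centralizer_iff.1 (hZV hz) v hv
      have h2 : Commute (t * v * t⁻¹) z := Subgroup.mem_centralizer_iff.1 (hZV hz) _ (nrm (hTV ht) hv)
      calc v * (t⁻¹ * (z * t * z⁻¹)) = t⁻¹ * (t * v * t⁻¹ * z) * t * z⁻¹ := by group
        _ = t⁻¹ * z * t * (v * z⁻¹) := by rw [h2.eq]; group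
        _ = t⁻¹ * (z * t * z⁻¹) * v := by rw [h1.inv_right.eq]; group)
  refine ⟨u, Subgroup.mem_inf.2 ⟨(Subgroup.mem_inf.1 hu).1, Subgroup.centralizer_le
    (by simp) (Subgroup.mem_inf.1 hu).2⟩, u⁻¹ * t, ?_, by group⟩
  have := inv_mem hut
  rwa [mul_inv_rev, inv_inv] at this
where
  mul_comm_of_zpowers {c : G} (a b : Subgroup.zpowers c) : a * b = b * a :=
    IsMulCommutative.is_comm.comm a b

/-- Three proper subgroups covering a group of order more than four share a non-identity element. -/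
theorem three_cover [Finite G] {A K₁ K₂ K₃ : Subgroup G} (h4 : 4 < Nat.card A) (h₁ : K₁ ≤ A) (h₂ : K₂ ≤ A)
    (h₃ : K₃ ≤ A) (n₁ : K₁ ≠ A) (n₂ : K₂ ≠ A) (n₃ : K₃ ≠ A)
    (hcov : ∀ a ∈ A, a ∈ K₁ ∨ a ∈ K₂ ∨ a ∈ K₃) :
    ∃ d ∈ A, d ≠ 1 ∧ d ∈ K₁ ∧ d ∈ K₂ ∧ d ∈ K₃ := by
  have key : ∀ X Y Z : Subgroup G, X ≤ A → Y ≤ A → X ≠ A → Y ≠ A → (∀ a ∈ A, a ∈ X ∨ a ∈ Y ∨ a ∈ Z) →
      ∃ a ∈ A, a ∉ X ∧ a ∉ Y ∧ (∀ x ∈ X, x ∈ Y → x ∈ Z) := by
    intro X Y Z hX hY nX nY hc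
    obtain ⟨u, hu, huX⟩ := SetLike.exists_of_lt (lt_of_le_of_ne hX nX)
    obtain ⟨v, hv, hvY⟩ := SetLike.exists_of_lt (lt_of_le_of_ne hY nY)
    obtain ⟨a, ha, haX, haY⟩ : ∃ a ∈ A, a ∉ X ∧ a ∉ Y := by
      by_cases h1 : u ∈ Y
      · by_cases h2 : v ∈ X
        · exact ⟨u * v, mul_mem hu hv, fun h => huX ((mul_mem_cancel_right h2).1 h),
            fun h => hvY ((mul_mem_cancel_left h1).1 h)⟩
        · exact ⟨v, hv, h2, hvY⟩
      · exact ⟨u, hu, huX, h1⟩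
    refine ⟨a, ha, haX, haY, fun x hxX hxY => ?_⟩
    have haZ : a ∈ Z := ((hc a ha).resolve_left haX).resolve_left haY
    have hxa : x * a ∈ Z := ((hc _ (mul_mem (hX hxX) ha)).resolve_left
      fun h => haX ((mul_mem_cancel_left hxX).1 h)).resolve_left fun h => haY ((mul_mem_cancel_left hxY).1 h)
    exact (mul_mem_cancel_right haZ).1 hxa
  obtain ⟨a, ha, ha1, ha2, h12⟩ := key K₁ K₂ K₃ h₁ h₂ n₁ n₂ hcov
  obtain ⟨b, hb, hb2, hb3, h23⟩ := key K₂ K₃ K₁ h₂ h₃ n₂ n₃ (fun x hx => by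
    rcases hcov x hx with h | h | h <;> simp [h])
  obtain ⟨c, hc, hc3, hc1, h31⟩ := key K₃ K₁ K₂ h₃ h₁ n₃ n₁ (fun x hx => by
    rcases hcov x hx with h | h | h <;> simp [h])
  by_contra hno
  have hI : ∀ x ∈ K₁, x ∈ K₂ → x = 1 := fun x hx1 hx2 => by_contra fun hne =>
    hno ⟨x, h₁ hx1, hne, hx1, hx2, h12 x hx1 hx2⟩
  have hI3 : ∀ x ∈ K₁, x ∈ K₃ → x = 1 := fun x hx1 hx3 => hI x hx1 (h31 x hx3 hx1)
  have hI23 : ∀ x ∈ K₂, x ∈ K₃ → x = 1 := fun x hx2 hx3 => hI x (h23 x hx2 hx3) hx2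
  have nb : ∀ K L M : Subgroup G, L ≤ A → M ≤ A → L ≠ A → M ≠ A → (∀ z ∈ A, z ∈ L ∨ z ∈ M ∨ z ∈ K) →
      ∃ w, w ∈ K ∧ w ≠ 1 := by
    intro K L M hL hM nL nM hc'
    obtain ⟨w, hw, hwL, hwM, -⟩ := key L M K hL hM nL nM hc'
    exact ⟨w, ((hc' w hw).resolve_left hwL).resolve_left hwM, fun h => hwL (h ▸ one_mem L)⟩
  -- the products of non-identity elements of two of them lie in the third
  have hsmall : ∀ X Y Z : Subgroup G, X ≤ A → Y ≤ A → (∀ z ∈ A, z ∈ X ∨ z ∈ Y ∨ z ∈ Z) →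
      (∀ z ∈ X, z ∈ Y → z = 1) → (∀ z ∈ X, z ∈ Z → z = 1) → (∃ y, y ∈ Y ∧ y ≠ 1) → Nat.card X ≤ 2 := by
    intro X Y Z hX hY hc' hXY hXZ ⟨y, hy, hy1⟩
    have hprod : ∀ x ∈ X, x ≠ 1 → x * y ∈ Z := fun x hx hx1 =>
      ((hc' _ (mul_mem (hX hx) (hY hy))).resolve_left fun h => hy1 (hXY y ((mul_mem_cancel_left hx).1 h) hy)).resolve_left
        fun h => hx1 (hXY x hx ((mul_mem_cancel_right hy).1 h))
    rcases le_or_gt (Nat.card X) 2 with h | h
    · exact h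
    exfalso
    obtain ⟨x, hx, hx1⟩ : ∃ x ∈ X, x ≠ 1 := by
      by_contra hn
      rw [(Subgroup.eq_bot_iff_forall _).2 fun z hz => by_contra fun hz1 => hn ⟨z, hz, hz1⟩,
        Subgroup.card_bot] at h
      omega
    have hXset : (X : Set G) ⊆ {1, x} := fun z hz => by
      rcases eq_or_ne z 1 with rfl | hz1
      · exact Set.mem_insert _ _
      refine Set.mem_insert_of_mem _ (mul_inv_eq_one.1 (hXZ _ (mul_mem hz (inv_mem hx)) ?_))
      have := mul_mem (hprod z hz hz1) (inv_mem (hprod x hx hx1))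
      rwa [show z * y * (x * y)⁻¹ = z * x⁻¹ by group] at this
    have := (Set.ncard_le_ncard hXset (Set.toFinite _)).trans
      ((Set.ncard_insert_le _ _).trans (by rw [Set.ncard_singleton]))
    rw [← Nat.card_coe_set_eq] at this
    exact absurd this (by simpa using h)
  have e1 : Nat.card K₁ ≤ 2 := hsmall K₁ K₂ K₃ h₁ h₂ hcov hI hI3
    (nb K₂ K₁ K₃ h₁ h₃ n₁ n₃ (fun x hx => by rcases hcov x hx with h | h | h <;> simp [h]))
  have e2 : Nat.card K₂ ≤ 2 := hsmall K₂ K₁ K₃ h₂ h₁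
    (fun x hx => by rcases hcov x hx with h | h | h <;> simp [h]) (fun z a b => hI z b a) hI23
    (nb K₁ K₂ K₃ h₂ h₃ n₂ n₃ (fun x hx => by rcases hcov x hx with h | h | h <;> simp [h]))
  have e3 : Nat.card K₃ ≤ 2 := hsmall K₃ K₁ K₂ h₃ h₁
    (fun x hx => by rcases hcov x hx with h | h | h <;> simp [h]) (fun z a b => hI3 z b a)
    (fun z a b => hI23 z b a)
    (nb K₁ K₂ K₃ h₂ h₃ n₂ n₃ (fun x hx => by rcases hcov x hx with h | h | h <;> simp [h]))
  have hsub : ((A : Set G) \ {1}) ⊆ ((K₁ : Set G) \ {1}) ∪ (((K₂ : Set G) \ {1}) ∪ ((K₃ : Set G) \ {1})) := by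
    rintro x ⟨hx, hx1⟩
    rcases hcov x hx with h | h | h
    exacts [Or.inl ⟨h, hx1⟩, Or.inr (Or.inl ⟨h, hx1⟩), Or.inr (Or.inr ⟨h, hx1⟩)]
  have hc : ∀ K : Subgroup G, ((K : Set G) \ {1}).ncard = Nat.card K - 1 := fun K => by
    rw [Set.ncard_diff_singleton_of_mem (one_mem K), ← Nat.card_coe_set_eq]; rfl
  have h5 := (Set.ncard_le_ncard hsub (Set.toFinite _)).trans
    ((Set.ncard_union_le _ _).trans (Nat.add_le_add_left (Set.ncard_union_le _ _) _))
  simp only [hc] at h5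
  omega

end Cfsg.Agent.SSF
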