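import Cfsg.Agent.Lib.SSF.NoInt

/-!
Two primes: facts about mixed colours and the two possible single colours.
-/

set_option autoImplicit false
set_option linter.style.haveILetI false

open Cfsg Cfsg.Agent Cfsg.Agent.Fusion
open scoped commutatorElement Pointwise

namespace Cfsg.Agent.SSF

universe u

variable {G : Type u} [Group G]

omit [Group G] in
theorem two_other {q r x : ℕ} (h : x = q ∨ x = r) (hx : x ≠ q) : x = r := h.resolve_left hx

/-- The preimage of `O_q(M / O_{q'}(M))`, inside the ambient group. -/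
def Kq (q : ℕ) (M : Subgroup G) : Subgroup G :=
  ((pCore q (↥M ⧸ pPrimeCore q ↥M)).comap (QuotientGroup.mk' (pPrimeCore q ↥M))).map M.subtype

theorem Kq_le (q : ℕ) (M : Subgroup G) : Kq q M ≤ M := Subgroup.map_subtype_le _

theorem Opc_le_Kq (q : ℕ) (M : Subgroup G) : Opc q M ≤ Kq q M :=
  Subgroup.map_mono fun x hx => by
    rw [Subgroup.mem_comap, show QuotientGroup.mk' (pPrimeCore q ↥M) x = 1 from
      (QuotientGroup.eq_one_iff x).2 hx]
    exact one_mem _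

theorem Kq_pow {q : ℕ} {M : Subgroup G} {u : G} (hu : u ∈ Kq q M) : ∃ j : ℕ, u ^ q ^ j ∈ Opc q M := by
  obtain ⟨v, hv, rfl⟩ := hu
  obtain ⟨j, hj⟩ := isPGroup_pCore q _ ⟨_, hv⟩
  refine ⟨j, v ^ q ^ j, (QuotientGroup.eq_one_iff _).1 ?_, map_pow _ _ _⟩
  simpa using congrArg Subtype.val hj

theorem self_le_normalizer_Kq (q : ℕ) (M : Subgroup G) : M ≤ Subgroup.normalizer (Kq q M : Set G) :=
  (Subgroup.normal_subgroupOf_iff_le_normalizer (Kq_le q M)).1 (by
    rw [Subgroup.subgroupOf, Kq, Subgroup.comap_map_eq_self_of_injective M.subtype_injective]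
    infer_instance)

theorem normalizer_le_normalizer_Kq [Finite G] (q : ℕ) (M : Subgroup G) :
    Subgroup.normalizer (M : Set G) ≤ Subgroup.normalizer (Kq q M : Set G) := fun g hg => by
  refine mem_normalizer_of_cj_le ?_
  have hle : cj (Kq q M) g ≤ M := (cj_mono (Kq_le q M) g).trans (cj_eq_self hg).le
  have hn : M ≤ Subgroup.normalizer (cj (Kq q M) g : Set G) := by
    rw [← cj_normalizer]
    exact (cj_eq_self hg).ge.trans (cj_mono (self_le_normalizer_Kq q M) g)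
  haveI : ((cj (Kq q M) g).subgroupOf M).Normal := (Subgroup.normal_subgroupOf_iff_le_normalizer hle).2 hn
  let π := QuotientGroup.mk' (pPrimeCore q ↥M)
  haveI : (((cj (Kq q M) g).subgroupOf M).map π).Normal :=
    Subgroup.Normal.map inferInstance π (QuotientGroup.mk'_surjective _)
  have hp : IsPGroup q (((cj (Kq q M) g).subgroupOf M).map π) := by
    rintro ⟨_, v, hv, rfl⟩
    obtain ⟨w, hw, hwv⟩ := hv
    obtain ⟨j, hj⟩ := Kq_pow hw
    have h1 : (v : G) ^ q ^ j ∈ Opc q M := by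
      rw [show (v : G) = MulAut.conj g w from hwv.symm, ← map_pow]
      exact (cj_eq_self (normalizer_le_normalizer_Opc q M hg)).le ⟨_, hj, rfl⟩
    refine ⟨j, Subtype.ext ?_⟩
    obtain ⟨z, hz, hzv⟩ := h1
    have hzv' : z = v ^ q ^ j := Subtype.ext (hzv.trans (SubmonoidClass.coe_pow v _).symm)
    show π v ^ q ^ j = 1
    rw [← map_pow, ← hzv']
    exact (QuotientGroup.eq_one_iff z).2 hz
  intro x hx
  refine ⟨⟨x, hle hx⟩, ?_, rfl⟩
  exact le_pCore hp ⟨⟨x, hle hx⟩, hx, rfl⟩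

variable [Finite G] {p : ℕ} [hp : Fact p.Prime]

namespace Ctx

variable {c : Ctx G p}

/-- Exactly two primes. -/
structure Two (c : Ctx G p) (q r : ℕ) : Prop where
  hs : Setup c
  mq : q ∈ c.primes
  mr : r ∈ c.primes
  ne : q ≠ r
  all : ∀ x ∈ c.primes, x = q ∨ x = r

variable {q r : ℕ}

theorem Two.symm (h : c.Two q r) : c.Two r q := ⟨h.hs, h.mr, h.mq, h.ne.symm, fun x hx => (h.all x hx).symm⟩

theorem Two.pi_mixed (h : c.Two q r) {M : Subgroup G} (hM : c.Colour M) (hm : Mixed M) : q ∈ pi M := by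
  obtain ⟨u, hu, hur⟩ := exists_pi_ne hm r
  exact (h.all u (hM.mem_primes hu)).resolve_right hur ▸ hu

theorem Two.cases (h : c.Two q r) {P : Subgroup G} (hP : c.Colour P) :
    Mixed P ∨ pi P = {q} ∨ pi P = {r} := by
  refine (hP.mixed_or_single h.hs.crit).imp id ?_
  rintro ⟨x, hx⟩
  rcases h.all x (hP.mem_primes (prime_of_pi_eq hx)) with rfl | rfl
  exacts [Or.inl hx, Or.inr hx]

theorem Two.term (h : c.Two q r) {M : Subgroup G} (hM : c.Colour M) (hm : Mixed M) : c.Term M := by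
  refine ⟨hM, hm, fun P hP hle => by_contra fun hne => ?_⟩
  rcases hP.mixed_or_single h.hs.crit with hPm | ⟨x, hx⟩
  · obtain ⟨s, hsP, hsM⟩ := arrow₁ h.hs.crit hM hP hm hle hne
    rcases h.all s (hP.mem_primes hsP) with rfl | rfl
    exacts [hsM (h.pi_mixed hM hm), hsM (h.symm.pi_mixed hM hm)]
  · obtain ⟨u, hu, hux⟩ := exists_pi_ne hm x
    have hxM : x ∈ pi M := by
      rcases h.all x (hP.mem_primes (prime_of_pi_eq hx)) with rfl | rfl
      exacts [h.pi_mixed hM hm, h.symm.pi_mixed hM hm]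
    have := c.pq h.hs hP hx hM hxM hu hux
    rw [inf_eq_left.2 (hle u hu.1)] at this
    exact hu.2 this

theorem Two.Ox_le (h : c.Two q r) {M P : Subgroup G} (hM : c.Colour M) (hm : Mixed M) (hP : c.Colour P)
    (hq : Zc q M ⊓ P ≠ ⊥) (hr : Zc r M ⊓ P ≠ ⊥) : Ox q P ≤ M := by
  have hqm := h.pi_mixed hM hm
  have hrm := h.symm.pi_mixed hM hm
  have hT := h.term hM hm
  have key : ∀ y U : Subgroup G, c.Inv y → y ≠ ⊥ →
      (∀ s : ℕ, s.Prime → y ≤ Subgroup.centralizer (Ox s M : Set G)) → c.fam U →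
      U ≤ Subgroup.normalizer (y : Set G) → U ≤ M := fun y U hy hne hc hU hUy =>
    grC h.hs.crit hT hy hne hc hU hUy
  have hI : ∀ x : ℕ, c.Inv (Zc x M ⊓ P) := fun x =>
    c.inv_of_le hP.1 inf_le_right (c.stab_inf (hM.stab_Zc x) hP.inv.stab)
  have hcen : ∀ x : ℕ, x ∈ pi M → ∀ s : ℕ, s.Prime → Zc x M ⊓ P ≤ Subgroup.centralizer (Ox s M : Set G) :=
    fun x hx s hs' => inf_le_left.trans (Zc_cent_Ox hx.1 hs')
  haveI := Fact.mk hqm.1
  haveI := Fact.mk hrm.1
  have hR : Ox q P ⊓ Subgroup.centralizer ((Zc q M ⊓ P : Subgroup G) : Set G) ≤ M :=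
    key _ _ (hI q) hq (hcen q hqm) (c.fam_le hP.1 (inf_le_left.trans (SSF.Ox_le q P))
      (c.stab_inf (hP.stab_Ox q) (c.stab_centralizer (hI q).stab)).1)
      (inf_le_right.trans (Subgroup.centralizer_le_normalizer _))
  have hcent : Zc r M ⊓ P ≤ Subgroup.centralizer (Ox q P : Set G) := fun t ht => by
    obtain ⟨ht1, ht2⟩ := Subgroup.mem_inf.1 ht
    refine mem_centralizer_of_AB (T := Zc q M ⊓ P) (isPGroup_Ox q P) ((isPGroup_Zc q M).to_le inf_le_left)
      (inf_le_right.trans (self_le_normalizer_Ox q P)) (self_le_normalizer_Ox q P ht2)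
      (fun v hv => (Subgroup.mem_centralizer_iff.1 (hcen r hrm q hqm.1 ht) v
        (Zc_le_Ox q M (Subgroup.mem_inf.1 hv).1)).symm) ?_ fun s hs' hsT => ?_
    · obtain ⟨k, hk⟩ := IsPGroup.iff_card.1 (isPGroup_Zc r M)
      refine (Nat.Coprime.pow_left k ((Nat.coprime_primes hrm.1 hqm.1).2 h.ne.symm)).coprime_dvd_left ?_
      rw [← hk, ← Subgroup.orderOf_mk t ht1]
      exact orderOf_dvd_natCard _
    · have hsM : s ∈ M := hR (Subgroup.mem_inf.2 ⟨hs', Subgroup.mem_centralizer_iff.2 fun v hv =>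
        (hsT v hv).symm⟩)
      exact (comm_one (inf_bot_of_ne hqm.1 hrm.1 h.ne (isPGroup_Ox q P) (isPGroup_Zc r M)) hs'
        ht1 (self_le_normalizer_Ox q P ht2) (self_le_normalizer_Zc r M hsM)).symm
  exact key _ _ (hI r) hr (hcen r hrm) (hP.inv_Ox q).1
    ((Subgroup.le_centralizer_iff.1 hcent).trans (Subgroup.centralizer_le_normalizer _))

/-- A colour meeting both centres of a mixed colour equals it. -/
theorem Two.meet2 (h : c.Two q r) {M P : Subgroup G} (hM : c.Colour M) (hm : Mixed M) (hP : c.Colour P)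
    (hq : Zc q M ⊓ P ≠ ⊥) (hr : Zc r M ⊓ P ≠ ⊥) : P = M := by
  rcases h.cases hP with hPm | hPq | hPr
  · by_contra hne
    have hle : FLe P M := fun x hx => by
      by_cases hxP : x ∈ pi P
      swap
      · rw [Ox_eq_bot hx hxP]; exact bot_le
      rcases h.all x (hP.mem_primes hxP) with rfl | rfl
      exacts [h.Ox_le hM hm hP hq hr, h.symm.Ox_le hM hm hP hr hq]
    exact hne ((h.term hP hPm).2.2 M hM hle).symm
  · refine absurd (le_bot_iff.1 ?_) hr
    rw [← c.pq h.hs hP hPq hM (h.pi_mixed hM hm) (h.symm.pi_mixed hM hm) h.ne.symm]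
    exact inf_le_inf_right _ (Zc_le_Ox r M)
  · refine absurd (le_bot_iff.1 ?_) hq
    rw [← c.pq h.hs hP hPr hM (h.symm.pi_mixed hM hm) (h.pi_mixed hM hm) h.ne]
    exact inf_le_inf_right _ (Zc_le_Ox q M)

/-- What normalises `X` lies in `M` when `X` centralises parts of both centres. -/
theorem Two.norm2 (h : c.Two q r) {M X U : Subgroup G} (hM : c.Colour M) (hm : Mixed M) (hX : c.Inv X)
    (hne : X ≠ ⊥) (hq : Zc q M ⊓ Subgroup.centralizer (X : Set G) ≠ ⊥)
    (hr : Zc r M ⊓ Subgroup.centralizer (X : Set G) ≠ ⊥) (hU : c.fam U)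
    (hUX : U ≤ Subgroup.normalizer (X : Set G)) : U ≤ M := by
  obtain ⟨P, hP, hgr⟩ := c.exists_colour_norm h.hs.crit hX hne
  have key : ∀ x : ℕ, Zc x M ⊓ Subgroup.centralizer (X : Set G) ≠ ⊥ → Zc x M ⊓ P ≠ ⊥ := fun x hx hb =>
    hx (le_bot_iff.1 (le_trans (le_inf inf_le_left (hgr _ (c.fam_le (hM.inv_Zc x).1 inf_le_left
      (c.stab_inf (hM.stab_Zc x) (c.stab_centralizer hX.stab)).1)
      (inf_le_right.trans (Subgroup.centralizer_le_normalizer _)))) hb.le))
  exact (hgr U hU hUX).trans (h.meet2 hM hm hP (key q hq) (key r hr)).le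

theorem Two.full_cent {M X : Subgroup G} {x : ℕ} (hx : x ∈ pi M) (hle : Zc x M ≤ Subgroup.centralizer (X : Set G)) :
    Zc x M ⊓ Subgroup.centralizer (X : Set G) ≠ ⊥ := by
  rw [inf_eq_left.2 hle]; exact Zc_ne_bot hx

theorem Two.z_ne (h : c.Two q r) {M : Subgroup G} (hM : c.Colour M) (hq : q ∈ pi M) : c.z q ≠ ⊥ := by
  haveI := Fact.mk hq.1
  intro hb
  refine meet_center (c.W_spec h.hs.crit hq.1).2 le_rfl Subgroup.le_normalizer ?_ hb
  exact fun hW => hq.2 (le_bot_iff.1 ((hM.Ox_le_W q).trans hW.le))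

theorem Two.z_cent_Zc {M X : Subgroup G} (hM : c.Colour M) (hX : X ≤ c.z q) :
    Zc q M ≤ Subgroup.centralizer (X : Set G) :=
  Subgroup.le_centralizer_iff.1 (hX.trans (c.z_cent ((Zc_le_Ox q M).trans (hM.Ox_le_W q))))

/-- A part of `z q` does not centralise `Z(O_r(M))` when `W q` is not in `M`. -/
theorem Two.not_cent (h : c.Two q r) {M X : Subgroup G} (hM : c.Colour M) (hm : Mixed M)
    (hW : ¬ c.W q ≤ M) (hX : c.Inv X) (hne : X ≠ ⊥) (hXz : X ≤ c.z q) :
    ¬ Zc r M ≤ Subgroup.centralizer (X : Set G) := fun hle =>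
  hW (h.norm2 hM hm hX hne (Two.full_cent (h.pi_mixed hM hm) (Two.z_cent_Zc hM hXz))
    (Two.full_cent (h.symm.pi_mixed hM hm) hle) (c.W_spec h.hs.crit h.mq.1).1.1
    ((Subgroup.le_centralizer_iff.1 (hXz.trans inf_le_right)).trans (Subgroup.centralizer_le_normalizer _)))

/-- Mixed colours cannot contain one `W` each. -/
theorem Two.two_W (h : c.Two q r) {M N : Subgroup G} (hM : c.Colour M) (hMm : Mixed M) (hN : c.Colour N)
    (hNm : Mixed N) (hq : c.W q ≤ M) (hr : c.W r ≤ N) : False := by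
  have hqM := h.pi_mixed hM hMm
  have hqN := h.pi_mixed hN hNm
  have hrM := h.symm.pi_mixed hM hMm
  have hrN := h.symm.pi_mixed hN hNm
  haveI := Fact.mk hqM.1
  haveI := Fact.mk hrM.1
  obtain ⟨y, hy⟩ : ∃ y, y = c.Yc q M := ⟨_, rfl⟩
  have hyne : y ≠ ⊥ := hy ▸ hM.Yc_ne_bot h.hs.crit hqM (hq.trans (self_le_normalizer_Ox q M))
  have hyI : c.Inv y := hy ▸ hM.inv_Yc h.hs.crit hqM.1
  have hyz : y ≤ c.z q := hy ▸ inf_le_left
  have hyM : y ≤ Ox q M := hy ▸ inf_le_right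
  have hyN : y ≤ N := hyz.trans (hN.z_le h.hs.crit hqN)
  have hTN : Ox r M ≤ N := (hM.Ox_le_W r).trans hr
  have hR : Ox r N ⊓ Subgroup.centralizer (Ox r M : Set G) ≤ M :=
    hM.le_of_norm_Ox h.hs.crit hrM (c.fam_le hN.1 (inf_le_left.trans (SSF.Ox_le r N))
      (c.stab_inf (hN.stab_Ox r) (c.stab_centralizer (hM.stab_Ox r))).1)
      (inf_le_right.trans (Subgroup.centralizer_le_normalizer _))
  have hcr : y ≤ Subgroup.centralizer (Ox r N : Set G) := fun t ht => by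
    refine mem_centralizer_of_AB (T := Ox r M) (isPGroup_Ox r N) (isPGroup_Ox r M)
      (hTN.trans (self_le_normalizer_Ox r N)) (self_le_normalizer_Ox r N (hyN ht))
      (fun v hv => (Subgroup.mem_centralizer_iff.1 (Ox_cent_Ox hqM.1 hrM.1 h.ne (hyM ht)) v hv).symm) ?_
      fun s hs' hsT => ?_
    · obtain ⟨k, hk⟩ := IsPGroup.iff_card.1 (isPGroup_Ox q M)
      refine (Nat.Coprime.pow_left k ((Nat.coprime_primes hqM.1 hrM.1).2 h.ne)).coprime_dvd_left ?_
      rw [← hk, ← Subgroup.orderOf_mk t (hyM ht)]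
      exact orderOf_dvd_natCard _
    · have hsM : s ∈ M := hR (Subgroup.mem_inf.2 ⟨hs', Subgroup.mem_centralizer_iff.2 fun v hv =>
        (hsT v hv).symm⟩)
      exact (comm_one (inf_bot_of_ne hrM.1 hqM.1 h.ne.symm (isPGroup_Ox r N) (isPGroup_Ox q M)) hs'
        (hyM ht) (self_le_normalizer_Ox r N (hyN ht)) (self_le_normalizer_Ox q M hsM)).symm
  have hWN : c.W q ≤ N := by
    refine grC h.hs.crit (h.term hN hNm) hyI hyne (fun s hs' => ?_) (c.W_spec h.hs.crit hqM.1).1.1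
      ((Subgroup.le_centralizer_iff.1 (hyz.trans inf_le_right)).trans (Subgroup.centralizer_le_normalizer _))
    by_cases hsN : s ∈ pi N
    · rcases h.all s (hN.mem_primes hsN) with rfl | rfl
      exacts [hyz.trans (c.z_cent (hN.Ox_le_W _)), hcr]
    · rw [Ox_eq_bot hs' hsN]
      exact fun g _ => Subgroup.mem_centralizer_iff.2 fun v hv => by
        rw [Subgroup.mem_bot.1 hv, one_mul, mul_one]
  refine false_of_allW h.hs hN fun w hw => ?_
  rcases h.all w hw with rfl | rfl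
  exacts [hWN, hr]

/-- Distinct mixed colours have disjoint cores. -/
theorem Two.disj (h : c.Two q r) {M M' : Subgroup G} (hM : c.Colour M) (hm : Mixed M) (hM' : c.Colour M')
    (hm' : Mixed M') (hne : M ≠ M') : Ox r M ⊓ Ox r M' = ⊥ := by
  by_contra hJ
  have hrM := h.symm.pi_mixed hM hm
  obtain ⟨P, hP, hgr⟩ := c.exists_colour_norm h.hs.crit
    (c.inv_of_le hM.1 (inf_le_left.trans (SSF.Ox_le r M)) (c.stab_inf (hM.stab_Ox r) (hM'.stab_Ox r))) hJ
  have key : ∀ (L : Subgroup G) (x : ℕ), c.Colour L → x ∈ pi L → Ox r M ⊓ Ox r M' ≤ Ox r L →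
      Zc x L ⊓ P ≠ ⊥ := fun L x hL hx hle hb => Zc_ne_bot hx (le_bot_iff.1 (le_trans (le_inf le_rfl
        (hgr _ (hL.inv_Zc x).1 (((Zc_cent_Ox hx.1 hrM.1).trans (Subgroup.centralizer_le hle)).trans
          (Subgroup.centralizer_le_normalizer _)))) hb.le))
  refine hne ((h.meet2 hM hm hP ?_ ?_).symm.trans (h.meet2 hM' hm' hP ?_ ?_))
  exacts [key M q hM (h.pi_mixed hM hm) inf_le_left, key M r hM hrM inf_le_left,
    key M' q hM' (h.pi_mixed hM' hm') inf_le_right, key M' r hM' (h.symm.pi_mixed hM' hm') inf_le_right]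

/-- The mixed colour's `r`-subgroups are moved into `O_r` by the centre of `W q`. -/
theorem Two.lk (h : c.Two q r) {H M R Y : Subgroup G} (hH : c.Colour H) (hHq : pi H = {q}) (hM : c.Colour M)
    (hm : Mixed M) (hR : R ≤ M) (hRr : IsPGroup r R) (hY : Y ≤ c.z q)
    (hYR : Y ≤ Subgroup.normalizer (R : Set G)) : ⁅R, Y⁆ ≤ Ox r M := by
  have hqM := h.pi_mixed hM hm
  have hrM := h.symm.pi_mixed hM hm
  haveI := Fact.mk hqM.1
  haveI := Fact.mk hrM.1
  -- the `q'`-core is the `r`-core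
  have hOr : IsPGroup r (Opc q M) := (sig_eq_iff hrM.1).1 fun s hs' hd => by
    have hsp := c.mem_primes_of_dvd hM.1 hs' (hd.trans (Subgroup.card_dvd_of_le (Opc_le q M)))
    refine (h.all s hsp).resolve_left fun he => ?_
    exact hqM.1.one_lt.ne' (Nat.eq_one_of_dvd_coprimes (Opc_coprime q M) (he ▸ hd) dvd_rfl)
  have hOle : Opc q M ≤ Ox r M := le_Ox (Opc_le q M) (self_le_normalizer_Opc q M) hOr
  have hCH : Ox r M ⊓ H = ⊥ := c.pq h.hs hH hHq hM hqM hrM h.ne.symm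
  obtain ⟨K, hK⟩ : ∃ K, K = Kq q M := ⟨_, rfl⟩
  have hKM : K ≤ M := hK ▸ Kq_le q M
  have hAK : c.A ≤ Subgroup.normalizer (K : Set G) := (c.nrmA hM.1).trans (hK ▸ normalizer_le_normalizer_Kq q M)
  have hKf : c.fam K := c.fam_le hM.1 hKM hAK
  have hCK : c.C ≤ Subgroup.normalizer (K : Set G) :=
    hM.2.1.trans (hK ▸ self_le_normalizer_Kq q M)
  have hU : IsPGroup q (c.C ⊓ K : Subgroup G) := fun ⟨u, hu⟩ => by
    obtain ⟨huC, huK⟩ := Subgroup.mem_inf.1 hu
    obtain ⟨j, hj⟩ := Kq_pow (hK ▸ huK)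
    refine ⟨j, Subtype.ext (Subgroup.mem_bot.1 ?_)⟩
    rw [← hCH]
    exact Subgroup.mem_inf.2 ⟨hOle hj, pow_mem (hH.2.1 huC) _⟩
  have hUA : c.A ≤ Subgroup.normalizer ((c.C ⊓ K : Subgroup G) : Set G) :=
    (c.inv_of_le hKf inf_le_right (c.stab_inf c.stab_C ⟨hAK, hCK⟩)).stab.1
  obtain ⟨Q, hQ, hUQ, hQA⟩ := Solv.exists_invariant_sylow_ge hAK (c.coprimeA hKf) (Or.inr (c.sol hKf))
    _ inf_le_right hU hUA
  -- it is the only invariant one, so the common part normalises it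
  have huniq : ∀ Q', Solv.IsSylIn q Q' K → c.A ≤ Subgroup.normalizer (Q' : Set G) → Q' = Q := by
    intro Q' hQ' hQ'A
    obtain ⟨g, hg, he⟩ := Solv.invariant_sylow_conj hAK (c.coprimeA hKf) (Or.inr (c.sol hKf)) hQ hQ' hQA hQ'A
    obtain ⟨hgK, hgA⟩ := Subgroup.mem_inf.1 hg
    rw [← he, Subgroup.conj_smul_eq_self_of_mem
      (hUQ (Subgroup.mem_inf.2 ⟨c.inf_centA_le hKf (Subgroup.mem_inf.2 ⟨hgK, hgA⟩), hgK⟩))]
  have hCQ : c.C ≤ Subgroup.normalizer (Q : Set G) := fun g hg => mem_normalizer_of_cj_le (le_of_eq (by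
    show MulAut.conj g • Q = Q
    refine huniq _ (hQ.conj (hCK hg)) fun a ha => ?_
    rw [Solv.conj_smul_eq_map]
    refine mem_normalizer_of_cj_le ?_
    show cj (cj Q g) a ≤ cj Q g
    rw [cj_cj, show a * g = g * a from
      (Subgroup.mem_centralizer_iff.1 (c.C_le_centA hg) a ha), ← cj_cj, cj_eq_self (hQA ha)]))
  have hQW : Q ≤ c.W q := c.le_W (c.inv_of_le hKf hQ.1 ⟨hQA, hCQ⟩) hQ.isPGroup
  -- `K` is covered by `Q` and the core
  obtain ⟨J, hJ⟩ : ∃ J, J = Opc q M ⊔ Q := ⟨_, rfl⟩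
  have hJK : J = K := by
    refine Subgroup.eq_of_le_of_card_ge (hJ ▸ sup_le (hK ▸ Opc_le_Kq q M) hQ.1)
      (Nat.le_of_dvd Nat.card_pos ((Nat.dvd_iff_prime_pow_dvd_dvd _ _).2 fun s k hs' hd => ?_))
    haveI := Fact.mk hs'
    obtain ⟨S, hS⟩ := Sylow.exists_subgroup_card_pow_prime s (G := K) hd
    have hSc : Nat.card (S.map K.subtype) = s ^ k := by
      rw [Subgroup.card_map_of_injective K.subtype_injective, hS]
    rcases eq_or_ne s q with rfl | hsq
    · refine dvd_trans ?_ (Subgroup.card_dvd_of_le (show Q ≤ J from hJ ▸ le_sup_right))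
      rw [hQ.2]
      exact pow_dvd_pow s ((hs'.pow_dvd_iff_le_factorization Nat.card_pos.ne').1 hd)
    · rw [← hSc]
      refine Subgroup.card_dvd_of_le fun u hu => hJ ▸ Subgroup.mem_sup_left ?_
      obtain ⟨j, hj⟩ := Kq_pow (hK ▸ Subgroup.map_subtype_le S hu)
      have hco : (orderOf u).Coprime (q ^ j) := by
        refine ((((Nat.coprime_primes hs' hqM.1).2 hsq).pow k j)).coprime_dvd_left ?_
        rw [← hSc, ← Subgroup.orderOf_mk u hu]
        exact orderOf_dvd_natCard _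
      obtain ⟨m, hm'⟩ := exists_pow_eq_self_of_coprime hco.symm
      exact hm' ▸ Subgroup.pow_mem _ hj m
  -- so `Y` lies in `K`
  have hYM : Y ≤ M := hY.trans (hM.z_le h.hs.crit hqM)
  have hYQ : Y ≤ Subgroup.centralizer (Q : Set G) := hY.trans (c.z_cent hQW)
  have hYK : Y ≤ K := fun y hy => by
    haveI := hM.sol
    let π := QuotientGroup.mk' (pPrimeCore q ↥M)
    have hc : π ⟨y, hYM hy⟩ ∈ Subgroup.centralizer (pCore q (↥M ⧸ pPrimeCore q ↥M) : Set _) := by
      refine Subgroup.mem_centralizer_iff.2 fun v hv => ?_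
      obtain ⟨k, rfl⟩ := QuotientGroup.mk'_surjective _ v
      have hkK : (k : G) ∈ J := hJK ▸ hK ▸ ⟨k, hv, rfl⟩
      have hset : (J : Set G) = (Opc q M : Set G) * (Q : Set G) :=
        hJ ▸ Subgroup.coe_mul_of_right_le_normalizer_left _ Q
          ((hQ.1.trans hKM).trans (self_le_normalizer_Opc q M))
      obtain ⟨o, ho, w, hw, how⟩ := (Set.ext_iff.1 hset _).1 hkK
      obtain ⟨o', ho', rfl⟩ := ho
      have hk : k = o' * ⟨w, hKM (hQ.1 hw)⟩ := Subtype.ext how.symm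
      rw [hk, map_mul, show π o' = 1 from (QuotientGroup.eq_one_iff o').2 ho', one_mul, ← map_mul,
        ← map_mul]
      exact congrArg π (Subtype.ext (Subgroup.mem_centralizer_iff.1 (hYQ hy) w hw))
    exact hK ▸ ⟨⟨y, hYM hy⟩, centralizer_pCore_le_of_solvable
      (Group.isSolvable_of_surjective (QuotientGroup.mk'_surjective _)) pPrimeCore_quotient_eq_bot hc, rfl⟩
  refine Subgroup.commutator_le.2 fun a ha b hb => ?_
  have h1 : ⁅a, b⁆ ∈ R := comm_mem_left (hYR hb) ha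
  have h2 : ⁅a, b⁆ ∈ K := comm_mem_right (hK ▸ self_le_normalizer_Kq q M (hR ha)) (hYK hb)
  obtain ⟨j, hj⟩ := Kq_pow (hK ▸ h2)
  obtain ⟨i, hi⟩ := IsPGroup.iff_orderOf.1 hRr ⟨_, h1⟩
  rw [Subgroup.orderOf_mk] at hi
  have hco : (q ^ j).Coprime (orderOf ⁅a, b⁆) := hi ▸ ((Nat.coprime_primes hqM.1 hrM.1).2 h.ne).pow j i
  obtain ⟨m, hm'⟩ := exists_pow_eq_self_of_coprime hco
  exact hm' ▸ Subgroup.pow_mem _ (hOle hj) m

end Ctx

end Cfsg.Agent.SSF
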